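import Cfsg.Agent.BZ.L.Lie
import Cfsg.Agent.BZ.L.Cl.Tr
import Cfsg.Agent.BZ.Lab.A
import Cfsg.Agent.BZ.Lab.Geo
import Cfsg.Agent.BZ.Lab.W
import Cfsg.Agent.BZ.Lab.St
import Cfsg.Agent.BZ.Lab.Main
import Cfsg.Agent.DL.PP.Reg

/-!
# BZ / L : descent from the frame and central quotients (helper42)

* `boxDom`, `boxScz`, `boxDown`;
* tools (namespace `Bz`): `comm_of_defect`, `bzr_ex`, `bzr_fix`, `ht_infl`, `bx_quo`, `row_domz`, `Zc_cen`, `Zc_of_center`, `pt_eq`, `zl_eq`,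
  `exists_nr`.
-/

set_option autoImplicit false
set_option linter.unusedSectionVars false

namespace Cfsg.Agent.BZ.L

open Cfsg Subgroup Cfsg.Agent.HZ.Gen Cfsg.Agent.KM Cfsg.Agent.BZ.Lab Cfsg.Agent.Characters.Core Cfsg.Agent.Blocks
open Cfsg.Agent.H644.CentralQuot (defl infl)
open scoped commutatorElement

namespace Bz

section grp

variable {l r m n N : ℕ} {M : Ideal AlgInt} {K H : Type} [Group K] [Group H] {α : MulAut K}

theorem zle : Zs l H ≤ center H := fun _ h => h.1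

theorem zp : IsPGroup l (Zs l H) := fun z => z.2.2.imp fun _ e => Subtype.ext e

theorem comm_of_defect [Finite K] (hM : IsPModular l M) {B : Set (IrrCharacter K)} (hB : IsPBlock M B) {Z D E : Subgroup K}
    (hZ : Z ≤ center K) (hD : IsDefectGroup l M B D) (hE : IsDefectGroup l M B E) (h : ⁅E, E⁆ ≤ Z) : ⁅D, D⁆ ≤ Z := by
  have : Fact l.Prime := ⟨hM.1⟩
  obtain ⟨x, rfl⟩ := TID.Red.conj_defect hM hB hD hE
  refine commutator_le.2 fun a ha b hb => ?_
  have h1 := h (commutator_mem_commutator (mem_map_of_mem _ ha) (mem_map_of_mem _ hb))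
  rw [← map_commutatorElement] at h1
  have h2 := mem_center_iff.1 (hZ h1) x
  rwa [show (MulAut.conj x).toMonoidHom ⁅a, b⁆ = ⁅a, b⁆ from mul_left_cancel (a := x) (h2.trans (inv_mul_cancel_right _ x))] at h1

theorem bzr_ex [Finite K] (hM : IsPModular l M) {Z : Subgroup K} (hZ : Z ≤ center K)
    (h : ∀ B, IsPBlock M B → HZr l Z B → ∃ D, IsDefectGroup l M B D ∧ ⁅D, D⁆ ≤ Z) : BZr l M K Z := fun B _ hB hD hz =>
  let ⟨_, h1, h2⟩ := h B hB hz
  comm_of_defect hM hB hZ hD h1 h2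

/-- **the group of fixed points** -/
theorem bzr_fix [Fintype K] [Fintype H] (h : Gl l m N K α) (hM : IsPModular l M) (j : H →* K) (hj : Function.Injective j)
    (hf : ∀ g, α g = g ↔ g ∈ j.range) {Z : Subgroup H} (hZ : Z.map j ≤ center K)
    (hK : ∀ B D, IsPBlock M B → StB α B → IsDefectGroup l M B D → (∀ x ∈ D, α x = x) → HZr l (Z.map j) B → ⁅D, D⁆ ≤ Z.map j) :
    BZr l M H Z := fun B D hB hD hz => by
  obtain ⟨e, -, k1, k2, k3, k4⟩ := boxW_of boxSt j h hM hj hf B D hB hD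
  rw [← map_le_map_iff_of_injective hj, map_commutator]
  refine hK _ _ k1 k2 k3 (by
    rintro _ ⟨x, -, rfl⟩
    exact (hf _).2 ⟨x, rfl⟩) ?_
  rintro _ ⟨ξ, hξ, rfl⟩ ho
  obtain ⟨k5, k, k6, k7⟩ := k4 ξ hξ
  rw [k5]
  refine hz ξ hξ fun z hz' => ?_
  have c1 := hZ (mem_map_of_mem j hz')
  have c2 : z ∈ center H := mem_center_iff.2 fun y => hj (by rw [map_mul, map_mul, mem_center_iff.1 c1])
  have h1 := inner_shift (f := (e ξ : K → ℂ) ∘ j) (g := (ξ : H → ℂ)) (a := 1) (b := (ξ : H → ℂ) z / (ξ : H → ℂ) 1) (z := z)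
    (fun y => by
      rw [Function.comp_apply, map_mul, ← mem_center_iff.1 c1, BK.apply_mul_central _ c1, ho _ (mem_map_of_mem j hz'),
        div_self (isIrr_apply_one_ne_zero (e ξ).2)]
      rfl)
    (fun y => by rw [← mem_center_iff.1 c2, BK.apply_mul_central _ c2])
    (by rw [k7]; exact Nat.cast_ne_zero.2 fun e0 => k6 (e0 ▸ dvd_zero m))
  rw [one_mul, map_eq_one_iff _ (RingHom.injective _)] at h1
  exact (div_eq_one_iff_eq (isIrr_apply_one_ne_zero ξ.2)).1 h1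

/-- heights along a central quotient -/
theorem ht_infl [Finite H] (hM : IsPModular l M) {U : Subgroup H} [U.Normal] (hU : U ≤ center H) (hp : IsPGroup l U)
    {B : Set (IrrCharacter H)} (hB : IsPBlock M B) {θ : IrrCharacter (H ⧸ U)} (hθ : θ ∈ defl U B) :
    blockHeight l B (infl U θ : H → ℂ) = blockHeight l (defl U B) (θ : H ⧸ U → ℂ) := by
  have : Fact l.Prime := ⟨hM.1⟩
  have := Fintype.ofFinite H
  obtain ⟨t, ht⟩ := IsPGroup.iff_card.1 hp
  have h1 := H644.CentralQuot.blockDefect_defl hM hU ht hB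
  have h2 : (Nat.card H).factorization l = (Nat.card (H ⧸ U)).factorization l + t := by
    rw [card_eq_card_quotient_mul_card_subgroup U, Nat.factorization_mul Nat.card_pos.ne' Nat.card_pos.ne', Finsupp.add_apply, ht,
      hM.1.factorization_pow, Finsupp.single_eq_same]
  have h3 := BK.nu_le (p := l) θ
  have h4 : sInf ((fun ψ : IrrCharacter H => (charDegree (ψ : H → ℂ)).factorization l) '' B) ≤ BK.nu l θ :=
    Nat.sInf_le ⟨_, hθ, rfl⟩
  have h5 : sInf ((fun ψ : IrrCharacter (H ⧸ U) => (charDegree (ψ : H ⧸ U → ℂ)).factorization l) '' defl U B) ≤ BK.nu l θ :=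
    Nat.sInf_le ⟨_, hθ, rfl⟩
  change (Nat.card (H ⧸ U)).factorization l - sInf _ + t = (Nat.card H).factorization l - sInf _ at h1
  change BK.nu l θ - sInf _ = BK.nu l θ - sInf _
  omega

/-- the quotient by `Z` -/
theorem bx_quo [Finite H] (hM : IsPModular l M) {Z : Subgroup H} [Z.Normal] (hZ : Z ≤ center H) (hp : IsPGroup l Z)
    (h : BZr l M H Z) : Cl.BX XP l M (H ⧸ Z) := fun b D hb hD hx => by
  have : Fact l.Prime := ⟨hM.1⟩
  have := Fintype.ofFinite H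
  have := Local.isPrime_of_isPModular hM
  obtain ⟨θ, hθ⟩ := Basic.isPBlock_nonempty hb
  have hB : IsPBlock M (blockOf M (infl Z θ : H → ℂ)) := Basic.isPBlock_blockOf _
  obtain rfl : defl Z (blockOf M (infl Z θ : H → ℂ)) = b :=
    Basic.isPBlock_eq_of_mem (H644.CentralQuot.isPBlock_defl hM hZ hp hB) hb (Basic.mem_blockOf_self (infl Z θ)) hθ
  obtain ⟨E, hE⟩ := H644.exists_isDefectGroup hM hB
  have h1 := h _ E hB hE fun χ hχ ho => by
    obtain ⟨ψ, rfl⟩ := BK.exists_infl Z χ ho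
    rw [ht_infl hM hZ hp hB hχ]
    exact hx ψ hχ
  refine BK.ab_of_defect hM hb (H658.isDefectGroup_defl hM hZ hp hB hE).2 ?_ hD
  rintro _ ⟨x, hx, rfl⟩ _ ⟨y, hy, rfl⟩
  rw [← commutatorElement_eq_one_iff_mul_comm, ← map_commutatorElement]
  exact (QuotientGroup.eq_one_iff _).2 (h1 (commutator_mem_commutator hx hy))

theorem normal_of_cen {Z : Subgroup H} (hZ : Z ≤ center H) : Z.Normal :=
  ⟨fun a ha g => by rwa [mem_center_iff.1 (hZ ha) g, mul_inv_cancel_right]⟩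

theorem zs_idx [Finite H] (hl : l.Prime) {U : Subgroup H} (hU : U ≤ center H) : ¬ l ∣ (Zs l H).relIndex U := fun h => by
  have : Fact l.Prime := ⟨hl⟩
  have := normal_of_cen (zle (l := l) (H := H))
  rw [← QuotientGroup.ker_mk' (Zs l H), relIndex_ker] at h
  obtain ⟨y, h1⟩ := exists_prime_orderOf_dvd_card' l h
  obtain ⟨x, hx, h0⟩ := y.2
  rw [← orderOf_coe, ← h0] at h1
  obtain ⟨-, i, h2⟩ : x ^ l ∈ Zs l H := (QuotientGroup.eq_one_iff _).1
    ((map_pow (QuotientGroup.mk' (Zs l H)) x _).trans (orderOf_dvd_iff_pow_eq_one.1 h1.dvd))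
  rw [show QuotientGroup.mk' (Zs l H) x = 1 from (QuotientGroup.eq_one_iff x).2 ⟨hU hx, i + 1, by rw [pow_succ', pow_mul, h2]⟩,
    orderOf_one] at h1
  exact hl.one_lt.ne h1

end grp

end Bz

open Bz in
/-- **[Dom]** -/
theorem boxDom : BoxDom := fun {l M H K} _ _ _ φ Z hM hs hc hZ hp hi h => by
  have : Fact l.Prime := ⟨hM.1⟩
  have := normal_of_cen (hZ.trans hc)
  refine Cl.bx_quot Cl.lfP hM (QuotientGroup.lift Z φ hZ) (fun y => ?_) ?_ (bx_quo hM (hZ.trans hc) hp h)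
  · obtain ⟨x, rfl⟩ := hs y
    exact ⟨QuotientGroup.mk x, rfl⟩
  · rwa [QuotientGroup.ker_lift, ← relIndex_ker, QuotientGroup.ker_mk']

namespace Bz

/-- a row from a central extension `H` which dominates the covers with centre of order prime to `r` -/
theorem row_domz {l : ℕ} [hl : Fact l.Prime] {H S : Type} [Group H] [Finite H] [Group S] (π : H →* S) (hk : π.ker ≤ center H) (r : ℕ)
    (hc : ∀ (K : Type) [Group K] [Finite K], IsQuasisimple K → ¬ r ∣ Nat.card (center K) →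
      ∀ e : (K ⧸ center K) ≃* S, ∃ ψ : H →* K, Function.Surjective ψ ∧ ∀ s, e (QuotientGroup.mk (ψ s)) = π s)
    (h : ∀ M, IsPModular l M → BZr l M H (Zs l H)) {A : Type} [CommGroup A] (hA : HasSchurMultiplier S A)
    (hx : ∀ n, r ∣ n → n ∣ Monoid.exponent A → Cov XP n l S) : RowP l S := fun K _ _ σ M B D T => by
  by_cases e : r ∣ Nat.card (center K)
  · refine hx _ e ?_ K σ M B D T rfl
    obtain ⟨f, hf⟩ := H95.StemCover.exists_surj_ker hA T.qs.1.commutator_eq_top σ T.surj T.ker.le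
    have hc : IsCyclic σ.ker := T.ker ▸ T.cyc
    rw [← T.ker, ← IsCyclic.exponent_eq_card]
    exact MonoidHom.exponent_dvd hf
  · obtain ⟨ψ, hψ, h2⟩ := hc K T.qs e
      ((QuotientGroup.quotientMulEquivOfEq T.ker.symm).trans (QuotientGroup.quotientKerEquivOfSurjective σ T.surj))
    have h3 := (ker_le_of (σ := σ) h2).trans hk
    refine Cl.Hyp.not_of_bx (X := XP) T (boxDom ψ _ T.hM hψ h3 (fun z hz => ?_) zp (zs_idx hl.out h3) (h M T.hM))
    refine eq_one_of_pg (zp.map ψ) T.zp (mem_map_of_mem ψ hz) (mem_center_iff.2 fun y => ?_)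
    obtain ⟨y, rfl⟩ := hψ y
    rw [← map_mul, mem_center_iff.1 hz.1, map_mul]

theorem exists_nr {p q d l : ℕ} (hp : p.Prime) (h : Nq p q d l) : Lg fun m => ∃ r, Nr q d r m := by
  obtain ⟨f, hf, rfl⟩ := h.pq
  have h1 : (p ^ f).Coprime (if l = 2 then 4 else l) := by
    refine Nat.Coprime.pow_left f ?_
    have h2 := (Nat.coprime_primes hp h.lp).2 h.ne.symm
    split_ifs with e
    · exact (e ▸ h2).pow_right 2
    · exact h2
  have h2 : 0 < (if l = 2 then 4 else l) := by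
    split_ifs
    · norm_num
    · exact h.lp.pos
  have h3 : 0 < d := h.dl ▸ (isOfFinOrder_iff_pow_eq_one.2 ⟨_, Nat.totient_pos.2 h2, by
    rw [← Nat.cast_pow, (ZMod.natCast_eq_natCast_iff _ _ _).2 (Nat.ModEq.pow_totient h1), Nat.cast_one]⟩).orderOf_pos
  refine (lg_r hp (Nat.mul_pos hf h3)).mono fun m ⟨r, k1, k2, _, k3⟩ => ⟨r, k1, k2, ?_⟩
  rw [Nat.cast_pow, orderOf_pow' _ hf.ne', k3, mul_assoc, Nat.gcd_mul_right_left, Nat.mul_div_cancel_left _ hf]

section dat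

open Cfsg.Agent.LV Cfsg.Agent.DL Cfsg.Agent.DL.PP Cfsg.Agent.DL.St Cfsg.Agent.Tits.Roots Cfsg.Agent.KM.Tor

variable {p : ℕ} [Fact p.Prime] {k : Type} [Field k] [CharP k p] {Y : Type} [Group Y] {I : Type} [Fintype I]
  [DecidableEq I] {ρ : Y →* GL I k} {F : MulAut Y} {G : Subgroup Y} [IsAlgClosed k] {X : Datum p ρ F G} {l : ℕ} {M : Ideal AlgInt}

theorem Zc_cen {t : Y} (ht : t ∈ Zc X {a | X.Rt a}) : ∀ g ∈ G, g * t = t * g := by
  have h2 : X.cen {t} ≤ centralizer {t} := X.cen_le_centralizer (Set.singleton_subset_iff.2 ht.1)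
  have h3 : G ≤ X.cen {t} := by
    refine X.G_eq.ge.trans ?_
    have h4 : {a | X.Rt a} ⊆ X.Sz {t} := fun a ha => ⟨ha, fun z hz => by rw [hz]; exact ht.2 a ha⟩
    exact sup_le_sup_left (Nodes.BNOf.RGD.Sup_mono h4) _
  exact fun g hg => (mem_centralizer_iff.1 (h2 (h3 hg)) t rfl).symm

theorem Zc_of_sr {t : Y} (ht : t ∈ X.T) (h : ∀ i, X.χ (sr i) t = 1) : t ∈ Zc X {a | X.Rt a} := ⟨ht, fun a _ => by
  rw [X.eq_sum_sr a]
  induction (Finset.univ : Finset X.I) using Finset.induction_on with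
  | empty => exact X.χ_zero t
  | insert i s hi ih => rw [Finset.sum_insert hi, X.χ_add, ih, X.χ_zsmul, h, _root_.one_zpow, mul_one]⟩

/-- the centre of the finite group is central in the algebraic group -/
theorem Zc_of_center (h : X.QS) {z : Y} (hz : z ∈ G) (hc : ∀ g ∈ GF F G, g * z = z * g) : z ∈ Zc X {a | X.Rt a} := by
  obtain ⟨a, ha⟩ := exists_fix_unit h
  obtain ⟨v, hv, h1⟩ := exists_kap_fix h (a := fun i => a i) fun i => by
    rw [ha, Units.val_mul, Units.val_pow_eq_pow_val]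
  have h2 : ∀ i, kap X i v ≠ 0 := fun i => by rw [h1]; exact (a i).ne_zero
  obtain ⟨u, hu, t, ht, e⟩ := (mem_Par_empty X.sbn).1 (mem_B_of_reg hv.1 h2 hz (by
    rw [mul_assoc, hc v hv.2, inv_mul_cancel_left]
    exact hv.1))
  have h3 : t ∈ Zc X {a | X.Rt a} := Zc_of_sr ht fun i => by
    have h4 := X.conj_mem_U_of_T ht hv.1
    have h5 : kap X i (u * t * v * (u * t)⁻¹) = X.χ (sr i) t * kap X i v := by
      rw [show u * t * v * (u * t)⁻¹ = u * (t * v * t⁻¹) * u⁻¹ by group, kap_mul i (mul_mem hu h4) (inv_mem hu),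
        kap_mul i hu h4, kap_inv i hu, kap_conj i ht hv.1]
      ring
    rw [← e, ← hc v hv.2, mul_inv_cancel_right] at h5
    exact (mul_eq_right₀ (h2 i)).1 h5.symm
  obtain ⟨m, hm, hF⟩ := X.exists_rp_fix (map_w0 (cs := X.cs) (φ := X.Fw) h.Fw_simple)
  have h4 : u = 1 := by
    refine opp X ⟨_, hm⟩ hm.pr_eq hu ?_
    have h5 := hc m ⟨hm.mem_G, hF⟩
    rw [e, mul_assoc u, ← Zc_cen h3 m hm.mem_G, ← mul_assoc, ← mul_assoc] at h5
    rwa [mul_assoc, ← mul_right_cancel h5, inv_mul_cancel_left]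
  rwa [e, h4, one_mul]

theorem pt_eq {Z : Subgroup Y} (hZ : Z ≤ Zc X {a | X.Rt a}) (m l : ℕ) :
    Pt F G m l Z = Z.subgroupOf (GF (F ^ m) G) ⊓ Zs l (GF (F ^ m) G) :=
  le_antisymm ((closure_le _).2 fun _ hg => ⟨hg.1, mem_center_iff.2 fun y => Subtype.ext (Zc_cen (hZ hg.1) y y.2.1), hg.2⟩)
    fun _ hg => subset_closure ⟨hg.1, hg.2.2⟩

theorem pt_cen {Z : Subgroup Y} (hZ : Z ≤ Zc X {a | X.Rt a}) (m l : ℕ) : Pt F G m l Z ≤ center _ :=
  (pt_eq hZ m l).le.trans (inf_le_right.trans zle)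

theorem pt_p {Z : Subgroup Y} (hZ : Z ≤ Zc X {a | X.Rt a}) (m l : ℕ) : IsPGroup l (Pt F G m l Z) :=
  zp.to_le ((pt_eq hZ m l).le.trans inf_le_right)

theorem gf_le (F : MulAut Y) (G : Subgroup Y) (m : ℕ) : GF F G ≤ GF (F ^ m) G := inf_le_inf_left G (fix_le_fix_pow m)

theorem gf_one (F : MulAut Y) (G : Subgroup Y) : GF (F ^ 1) G = GF F G := by rw [pow_one]

/-- `Zl` is the `l`-part of the centre -/
theorem zl_eq (h : X.QS) (m l : ℕ) : Zl X m l = Zs l (GF (F ^ m) G) :=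
  (pt_eq le_rfl m l).trans (inf_eq_right.2 fun z hz => Zc_of_center h z.2.1 fun g hg =>
    congrArg Subtype.val (mem_center_iff.1 hz.1 ⟨g, gf_le F G m hg⟩))

end dat

end Bz

open Bz Cfsg.Agent.DL in
/-- **[Scz]** -/
theorem boxScz : BoxScz := by
  intro p _ k _ _ Y _ N _ _ ρ F G _ X S _ s l _ _ h A _ hA hx
  have := (X.pow one_pos).amb.finite_GF G
  let e := MulEquiv.subgroupCongr (gf_one F G)
  refine row_domz (s.π.comp e.toMonoidHom) (fun x hx => mem_center_iff.2 fun y => e.injective ?_) p (fun K _ _ h1 h2 f => ?_)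
    (fun M hM => zl_eq s.qs 1 l ▸ h M hM) hA hx
  · rw [map_mul, map_mul]
    exact mem_center_iff.1 (s.ker.le hx) _
  · obtain ⟨ψ, h3, h4⟩ := s.cov K h1 h2 f
    exact ⟨ψ.comp e.toMonoidHom, h3.comp e.surjective, fun x => h4 _⟩

open Bz Cfsg.Agent.DL in
/-- **[Down]** -/
theorem boxDown : BoxDown := by
  intro p _ k _ _ Y _ N _ _ ρ F G _ X q d l n c M Z hq _ hM hZ h
  obtain ⟨N', hN⟩ := boxGeo X l hM.1 hq.ne
  obtain ⟨m, hm, ⟨α, k1, k2⟩, ⟨r, k3⟩, k4⟩ := (Lg.prime.and (hN.and ((exists_nr Fact.out hq).and h))).ex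
  have := (X.pow one_pos).amb.finite_GF G
  have := (X.pow hm.pos).amb.finite_GF G
  have := Fintype.ofFinite (GF (F ^ 1) G)
  have := Fintype.ofFinite (GF (F ^ m) G)
  have k5 : GF (F ^ 1) G ≤ GF (F ^ m) G := (gf_one F G).le.trans (gf_le F G m)
  have k6 := (k2 r k3.rp k3.mr).toGl
  have k7 : ∀ g, α g = g ↔ g ∈ (inclusion k5).range := fun g =>
    ⟨fun e => ⟨⟨g, (gf_one F G).ge ⟨g.2.1, (k1 g).symm.trans (congrArg Subtype.val e)⟩⟩, rfl⟩, by
      rintro ⟨x, rfl⟩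
      exact Subtype.ext ((k1 _).trans ((gf_one F G).le x.2).2)⟩
  have k8 : (Pt F G 1 l Z).map (inclusion k5) = Pt F G m l Z := by
    refine le_antisymm ?_ fun z hz => ?_
    · rintro _ ⟨z, hz, rfl⟩
      obtain ⟨h1, -, i, h2⟩ := (pt_eq hZ 1 l).le hz
      exact subset_closure ⟨h1, i, by rw [← map_pow, h2, map_one]⟩
    · obtain ⟨h1, h2⟩ := (pt_eq hZ m l).le hz
      obtain ⟨x, rfl⟩ := (k7 z).1 (boxSt.grp k6 _ zp (zs_st α) z h2)
      obtain ⟨-, i, h3⟩ := h2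
      exact ⟨x, subset_closure ⟨h1, i, inclusion_injective k5 (by rw [map_pow, h3, map_one])⟩, rfl⟩
  refine bzr_fix k6 hM _ (inclusion_injective k5) k7 (k8 ▸ pt_cen hZ m l) fun B D hB sB hD _ hz => ?_
  rw [k8] at hz ⊢
  obtain ⟨E, h1, h2⟩ := k4 r k3 _ N' α ⟨k1, k2⟩ B hB sB hz
  exact comm_of_defect hM hB (pt_cen hZ m l) hD h1 h2

end Cfsg.Agent.BZ.L
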