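import Cfsg.Agent.BZ.L.Defs
import Cfsg.Agent.BZ.Lab.BC2
import Cfsg.Agent.BZ.Lab.Cor
import Cfsg.Agent.S4723
import Cfsg.Agent.H599.Galois

/-!
# BZ / L : the top pair (helper96)

* `key`, `sees_le` : a subgroup which is seen by `ξ` is not larger than the `r`-defect of `ξ`;
* `exists_hz` : a member of height zero with an orbit of length prime to `l`;
* `boxOs`.
-/

set_option autoImplicit false
set_option linter.unusedSectionVars false
set_option maxHeartbeats 400000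

namespace Cfsg.Agent.BZ.L

open Cfsg Subgroup Cfsg.Agent.HZ.Gen Cfsg.Agent.Characters Cfsg.Agent.Characters.Core Cfsg.Agent.Blocks Cfsg.Agent.Blocks.Basic
  Cfsg.Agent.Blocks.Local Cfsg.Agent.OddOrderCharacters.VChar Cfsg.Agent.BZ.Lab Cfsg.Agent.H662 MulAction
open scoped ComplexConjugate Pointwise

namespace Os

variable {l r m n N : ℕ} {K L : Type} [Group K] [Fintype K] [Group L] [Fintype L] {M : Ideal AlgInt}
  {α : MulAut K} {β : MulAut L} {ι : L →* K} {P : Subgroup K}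

theorem deg_orb {ψ : L → ℂ} {φ : IrrCharacter L} (h : φ ∈ Orb ι P ψ) : (φ : L → ℂ) 1 = ψ 1 :=
  h.elim fun g h => h.2 1 1 (by simp)

/-- **a tight constituent bounds the defect from below** -/
theorem key (hr : r.Prime) (hB : Big K r n) (hb : bd n 1 < r) (hP : IsPGroup r P) (hι : Function.Injective ι)
    (hL : ι.range = centralizer (P : Set K)) {ξ : IrrCharacter K} {ψ : IrrCharacter L} (hξ : Sm r 1 (ξ : K → ℂ))
    (ht : Tight r ι P (ψ : L → ℂ)) (h0 : Un r ι P (ψ : L → ℂ) (ξ : K → ℂ)) :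
    (charDegree (ξ : K → ℂ)).factorization r + (Nat.card P).factorization r ≤ (Nat.card K).factorization r := by
  classical
  have : Fact r.Prime := ⟨hr⟩
  have := finite_irr (G := L)
  obtain ⟨a, ha⟩ := boxOrb.orb hr hB hb hP hι hL hξ ht h0
  set T := (Set.toFinite (Orb ι P (ψ : L → ℂ))).toFinset
  have h1 : rs r P ξ ∘ ι = (a : ℂ) • ∑ φ ∈ T, (φ : L → ℂ) := funext fun y => by
    rw [Function.comp_apply, ha, finsum_mem_eq_finite_toFinset_sum, Pi.smul_apply, Finset.sum_apply, smul_eq_mul]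
  have h2 : a ≠ 0 := fun e => h0 (by rw [h1, e, Int.cast_zero, zero_smul, classInner_zero_left])
  have h3 : ψ ∈ T := (Set.Finite.mem_toFinset _).2 ⟨1, one_mem _, fun y y' h1 => by rw [hι (h1.trans (by simp) : ι y' = ι y)]⟩
  have h4 : a.natAbs * T.card < r := by
    have h5 := hB.rs_nrm hP hξ hb hι hL
    have h6 : classInner (∑ φ ∈ T, (φ : L → ℂ)) (∑ φ ∈ T, (φ : L → ℂ)) = T.card := by
      rw [classInner_sum_left, Finset.card_eq_sum_ones, Nat.cast_sum]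
      refine Finset.sum_congr rfl fun φ hφ => ?_
      rw [classInner_sum_right, Finset.sum_eq_single φ (fun η _ e => classInner_irr_ne φ.2 η.2 fun e' => e (Subtype.ext e').symm)
        (fun e => absurd hφ e), classInner_irr_self φ.2, Nat.cast_one]
    rw [h1, classInner_smul_left, classInner_smul_right, h6, map_intCast, ← mul_assoc, ← Int.cast_mul, ← Int.natAbs_mul_self,
      Int.cast_natCast, ← Nat.cast_mul, Complex.natCast_re, Nat.cast_le] at h5
    have h7 := two_mul_lt hb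
    have h8 := Nat.mul_le_mul_right T.card (Nat.le_mul_self a.natAbs)
    omega
  obtain ⟨x, hx, e1, e2⟩ := hB.gel_spec hP (by have := two_mul_lt hb; omega) (one_mem _)
  have h5 : centralizer {x} = centralizer (P : Set K) := le_antisymm
    (e2 x (by rw [mul_one]; exact PPart.isPPart_of_isPGroup (ord_of_mem hP hx))) (centralizer_le (Set.singleton_subset_iff.2 hx))
  have h6 : (ξ : K → ℂ) x = a * (T.card * charDegree (ψ : L → ℂ) : ℕ) := by
    have h7 := congrFun h1 1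
    rw [Function.comp_apply, map_one, rs, e1, mul_one, Pi.smul_apply, Finset.sum_apply,
      Finset.sum_congr rfl fun φ hφ => deg_orb ((Set.Finite.mem_toFinset _).1 hφ), Finset.sum_const, irr_one_eq_charDegree ψ.2] at h7
    rw [h7, nsmul_eq_mul, smul_eq_mul, Nat.cast_mul]
  have h7 := Central.isIntegral_centralChar ξ.2 x
  rw [centralChar, h5, h6, irr_one_eq_charDegree ξ.2, ← Int.cast_natCast, ← Int.cast_natCast (_ * _), ← Int.cast_mul, ← Int.cast_mul,
    ← Int.cast_natCast (charDegree _)] at h7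
  have h8 := Int.natAbs_dvd_natAbs.2 (H599.Galois.nat_dvd_of_integral (Nat.cast_ne_zero.2 (charDegree_pos ξ.2).ne') h7)
  rw [Int.natAbs_natCast, Int.natAbs_mul, Int.natAbs_mul, Int.natAbs_natCast, Int.natAbs_natCast, ← mul_assoc a.natAbs] at h8
  have h9 : a.natAbs * T.card ≠ 0 := mul_ne_zero (Int.natAbs_ne_zero.2 h2) (Finset.card_pos.2 ⟨ψ, h3⟩).ne'
  have h10 := (Nat.factorization_le_iff_dvd (charDegree_pos ξ.2).ne' (mul_ne_zero index_ne_zero_of_finite
    (mul_ne_zero h9 (charDegree_pos ψ.2).ne'))).2 h8 r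
  rw [Nat.factorization_mul index_ne_zero_of_finite (mul_ne_zero h9 (charDegree_pos ψ.2).ne'),
    Nat.factorization_mul h9 (charDegree_pos ψ.2).ne', Finsupp.add_apply, Finsupp.add_apply,
    Nat.factorization_eq_zero_of_lt h4] at h10
  rw [← (centralizer (P : Set K)).card_mul_index, Nat.factorization_mul Nat.card_pos.ne' index_ne_zero_of_finite, Finsupp.add_apply,
    ← hL, ← Nat.card_congr (MonoidHom.ofInjective hι).toEquiv, ht.2, hL]
  omega

theorem fac_le {P' : Subgroup K} (h : P ≤ P') : (Nat.card P).factorization r ≤ (Nat.card P').factorization r :=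
  (Nat.factorization_le_iff_dvd Nat.card_pos.ne' Nat.card_pos.ne').2 (card_dvd_of_le h) r

/-- a subgroup which is seen is not larger than the defect -/
theorem sees_le (h : Fr l r m n N K α) (hP : IsPGroup r P) (hs : StS α P) {ξ : IrrCharacter K} (hξ : St α (ξ : K → ℂ))
    (h0 : Sees r P (ξ : K → ℂ)) :
    (charDegree (ξ : K → ℂ)).factorization r + (Nat.card P).factorization r ≤ (Nat.card K).factorization r := by
  have : Fact r.Prime := ⟨h.rp⟩
  have := Fintype.ofFinite (centralizer (P : Set K))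
  have e := hs.cen.emb
  have hL := range_subtype (centralizer (P : Set K))
  have h1 := boxSt.rat h ξ hξ
  obtain ⟨ψ, h2⟩ := h0.ex h hP e.inj hL hξ
  have hψ := con_rs boxSt h hP hs e hL hξ h2
  rcases exists_root boxSt boxOrb h hP e hL hψ fun a ha g => h.bg.rs_ker hP h1 h.bdr e.inj hL ψ.2 h2 ha g with
    h3 | ⟨P₁, h3, h4, h5, i, φ, h6, h7⟩
  · exact key h.rp h.bg h.bdr hP e.inj hL h1 h3 h2
  · refine (Nat.add_le_add_left (fac_le h5.le) _).trans (key h.rp h.bg h.bdr (h3.map _) (e.comp h4.cen.emb).inj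
      (range_comp e.inj hL h5.le) h1 ⟨fun a ha => h6.1 a ?_, ?_⟩ (boxOrb.link h.rp h.bg h.bdr hP e.inj hL h3 h5.le
        (subtype_injective _) (range_subtype _) h1 (boxSt.rat (h.sub e) ψ hψ) h6 h2 h7))
    · exact (mem_map_iff_mem e.inj).1 ha
    · rw [h6.2, card_map_of_injective e.inj]

theorem mxp (h : Fr l r m n N K α) (hM : IsPModular l M) {B : Set (IrrCharacter K)} (hB : IsPBlock M B) (sB : StB α B)
    (hP : IsPGroup r P) (hx : Mx r ((Nat.card P).factorization r) B) {ξ : IrrCharacter K} (hξ : ξ ∈ B) :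
    MxP r M α (ξ : K → ℂ) P := fun P' h1 h2 h3 η h4 h5 => by
  have : Fact r.Prime := ⟨h.rp⟩
  have := isPrime_of_isPModular hM
  have h6 := isPBlock_mem_of_sameBlock hB hξ h4
  have h7 := sees_le h h2 h3 (sB η h6) h5
  have h8 : _ ≤ _ := hx η h6
  exact (H592.Defect.eq_of_le_of_factorization r hP h2 h1 (by omega)).ge

theorem exists_act (hι : Function.Injective ι) (hL : ι.range = centralizer (P : Set K)) :
    ∃ φ : normalizer (P : Set K) →* MulAut L, ∀ g y, ι (φ g y) = g * ι y * (g : K)⁻¹ := by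
  choose σ hσ using fun g : normalizer (P : Set K) => exists_aut hι hL g.2
  refine ⟨MonoidHom.mk' σ fun a b => MulEquiv.ext fun y => hι ?_, hσ⟩
  rw [MulAut.mul_apply, hσ, hσ, hσ, coe_mul]
  group

theorem cj_iff (hι : Function.Injective ι) {φ : normalizer (P : Set K) →* MulAut L} (h : ∀ g y, ι (φ g y) = g * ι y * (g : K)⁻¹)
    (g : normalizer (P : Set K)) (ψ ψ' : IrrCharacter L) : Cj ι g ψ.1 ψ'.1 ↔ (Cor.aX φ).smul g ψ = ψ' :=
  ⟨fun e => Subtype.ext (funext fun y => (e _ y (by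
    show _ = g * ι (φ g⁻¹ y) * _
    rw [h, coe_inv]
    group)).symm), fun e y y' e' => e ▸ congrArg ψ.1 (hι (by
      show ι (φ g⁻¹ y') = _
      rw [h, e', coe_inv]
      group))⟩

/-- **a member of height zero with an orbit of length prime to `l`** -/
theorem exists_hz (hM : IsPModular l M) (hι : Function.Injective ι) (hL : ι.range = centralizer (P : Set K))
    {b : Set (IrrCharacter L)} (hb : IsPBlock M b) :
    ∃ ψ ∈ b, blockHeight l b (ψ : L → ℂ) = 0 ∧ ¬ l ∣ (Orb ι P (ψ : L → ℂ) ∩ b).ncard := by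
  have : Fact l.Prime := ⟨hM.1⟩
  have := isPrime_of_isPModular hM
  obtain ⟨φ, hφ⟩ := exists_act hι hL
  let _ := Cor.aX φ
  have c1 : ∀ (g : normalizer (P : Set K)) (ψ ψ' : IrrCharacter L), Cj ι g ψ.1 ψ'.1 ↔ g • ψ = ψ' := cj_iff hι hφ
  have c2 : ∀ (g : normalizer (P : Set K)) {ψ ψ' : IrrCharacter L}, SameBlock M ψ.1 ψ'.1 → SameBlock M (g • ψ).1 (g • ψ').1 :=
    fun g _ _ h => sameBlock_aut (φ g⁻¹) h
  have c3 : ∀ (g : normalizer (P : Set K)), ∀ ψ ∈ b, g ∈ stabilizer (normalizer (P : Set K)) b ↔ g • ψ ∈ b := fun g ψ hψ =>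
    ⟨fun h => mem_stabilizer_iff.1 h ▸ Set.smul_mem_smul_set hψ, fun h => Set.ext fun x => by
      rw [Set.mem_smul_set_iff_inv_smul_mem, isPBlock_mem_iff hb hψ, isPBlock_mem_iff hb h]
      exact ⟨fun e => smul_inv_smul g x ▸ c2 g e, fun e => inv_smul_smul g ψ ▸ c2 g⁻¹ e⟩⟩
  let H := (centralizer (P : Set K)).subgroupOf (normalizer (P : Set K))
  have := Fintype.ofFinite H
  obtain ⟨e₀, he₀⟩ := Ob.exists_e hι hL
  let e : L ≃* H := e₀.trans (subgroupOfEquivOfLe (centralizer_le_normalizer _)).symm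
  have he : ∀ y, ((e y : normalizer (P : Set K)) : K) = ι y := he₀
  have c4 : ∀ (g : normalizer (P : Set K)) (θ θ' : IrrCharacter H),
      (∀ h h' : H, (h' : normalizer (P : Set K)) = g * h * g⁻¹ → θ'.1 h' = θ.1 h) ↔ g • tr e.symm θ = tr e.symm θ' := fun g θ θ' => by
    rw [← c1]
    refine ⟨fun h y y' e' => h _ _ (Subtype.ext (by simpa only [MulEquiv.symm_symm, coe_mul, coe_inv, he] using e')),
      fun h y y' e' => ?_⟩
    obtain ⟨y, rfl⟩ := e.surjective y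
    obtain ⟨y', rfl⟩ := e.surjective y'
    exact h y y' (by simpa only [coe_mul, coe_inv, he] using congrArg Subtype.val e')
  obtain ⟨θ, h1, h2, S, -, h3, h4⟩ := S4723.result l M hM H (trB e b) (isPBlock_trB e hb) (stabilizer (normalizer (P : Set K)) b)
    fun g => ⟨fun h θ hθ θ' e' => (mem_trB _ _ _).2 ((c4 g θ θ').1 e' ▸ (c3 g _ hθ).1 h), fun h => by
      obtain ⟨ψ, hψ⟩ := isPBlock_nonempty hb
      exact (c3 g ψ hψ).2 ((tr_mem_trB e b _).1 (h (tr e ψ) ((tr_mem_trB e b _).2 hψ) _ ((c4 g _ _).2 (by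
        rw [tr_symm_tr, tr_symm_tr]))))⟩
  refine ⟨tr e.symm θ, h1, ?_, fun h5 => h4 ?_⟩
  · rw [← h2, blockHeight, blockHeight, Ob.deg_tr]
    congr 2
    ext k
    exact ⟨fun ⟨ψ, h5, h6⟩ => ⟨tr e ψ, (tr_mem_trB e b _).2 h5, by rw [← h6]; exact congrArg (·.factorization l) (Ob.deg_tr e ψ)⟩,
      fun ⟨ψ, h5, h6⟩ => ⟨tr e.symm ψ, h5, by rw [← h6]; exact congrArg (·.factorization l) (Ob.deg_tr e.symm ψ)⟩⟩
  · rwa [relIndex, show S.subgroupOf (stabilizer (normalizer (P : Set K)) b) =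
        stabilizer (stabilizer (normalizer (P : Set K)) b) (tr e.symm θ) from Subgroup.ext fun g => by
      rw [mem_subgroupOf, h3, c4, and_iff_right g.2]
      rfl, index_stabilizer, show orbit (stabilizer (normalizer (P : Set K)) b) (tr e.symm θ) = Orb ι P (tr e.symm θ).1 ∩ b from
        Set.ext fun x => ⟨fun ⟨g, h6⟩ => ⟨⟨g.1, g.1.2, (c1 _ _ _).2 h6⟩, h6 ▸ (c3 g.1 _ h1).1 g.2⟩, fun ⟨⟨g, hg, h6⟩, h7⟩ =>
          have h8 := (c1 ⟨g, hg⟩ _ _).1 h6
          ⟨⟨⟨g, hg⟩, (c3 _ _ h1).2 (h8 ▸ h7)⟩, h8⟩⟩]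

theorem inner_tc (f g : L → ℂ) : classInner (tc l f) g = classInner f (tc l g) :=
  congrArg _ (Finset.sum_congr rfl fun y _ => by
    by_cases e : l ∣ orderOf y
    · rw [tc_sing e, tc_sing e, zero_mul, map_zero, mul_zero]
    · rw [tc_reg e, tc_reg e])

/-- the height functional at an orbit sum -/
theorem uf_orb (hM : IsPModular l M) (hι : Function.Injective ι) (hL : ι.range = centralizer (P : Set K)) {ψ ψ' : IrrCharacter L}
    (h1 : blockHeight l (blockOf M (ψ : L → ℂ)) (ψ : L → ℂ) = 0)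
    (h2 : ¬ l ∣ (Orb ι P (ψ : L → ℂ) ∩ blockOf M (ψ : L → ℂ)).ncard) (h3 : SameBlock M (ψ : L → ℂ) ψ')
    {T : Finset (IrrCharacter L)} (hT : ∀ φ, φ ∈ T ↔ φ ∈ Orb ι P (ψ : L → ℂ)) :
    ¬ MemLocalIdeal M (uf l (ψ' : L → ℂ) (∑ φ ∈ T, (φ : L → ℂ))) := by
  classical
  have := isPrime_of_isPModular hM
  set T' := T.filter fun φ : IrrCharacter L => SameBlock M (ψ : L → ℂ) φ
  have h5 : (Orb ι P (ψ : L → ℂ) ∩ blockOf M (ψ : L → ℂ)).ncard = T'.card := by
    rw [← Set.ncard_coe_finset]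
    congr 1
    ext φ
    rw [Finset.mem_coe, Finset.mem_filter, hT]
    rfl
  have h6 : uf l (ψ' : L → ℂ) (∑ φ ∈ T, (φ : L → ℂ)) = ∑ φ ∈ T', uf l (ψ' : L → ℂ) (φ : L → ℂ) := by
    rw [show ∑ φ ∈ T, (φ : L → ℂ) = fun y => ∑ φ ∈ T, (1 : ℂ) * (φ : L → ℂ) y from funext fun y => by simp, uf_sum,
      Finset.sum_filter_of_ne fun φ _ h6 => by_contra fun h7 => h6 (boxUf.oth hM fun e => h7 (sameBlock_trans h3 e))]
    exact Finset.sum_congr rfl fun _ _ => one_mul _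
  have h7 : MemLocalIdeal M (∑ φ ∈ T', uf l (ψ' : L → ℂ) (φ : L → ℂ) - ∑ φ ∈ T', uf l (ψ : L → ℂ) (ψ : L → ℂ)) :=
    memLocalIdeal_sum_sub_sum fun φ hφ => by
      obtain ⟨h7, h8⟩ := Finset.mem_filter.1 hφ
      obtain ⟨g, hg, h9⟩ := (hT φ).1 h7
      obtain ⟨σ, hσ⟩ := exists_aut hι hL hg
      have h10 : (φ : L → ℂ) ∘ σ = ψ := funext fun y => h9 _ _ (hσ y)
      have h11 := boxUf.blk hM (gen_of_irr φ.2) (sameBlock_trans (sameBlock_symm h3) h8)
      rwa [← uf_aut σ (φ : L → ℂ), h10] at h11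
  rw [Finset.sum_const, nsmul_eq_mul] at h7
  rw [h6, memLocalIdeal_iff_of_sub h7]
  exact fun e => (memLocalIdeal_or_of_mul (memLocalRing_natCast _) (boxUf.int hM ψ (gen_of_irr ψ.2)) e).elim
    (mt (memLocalIdeal_natCast_iff hM _).1 (h5 ▸ h2)) ((boxUf.ht hM (sameBlock_refl _)).2 h1)

theorem sum_orb (hι : Function.Injective ι) (hL : ι.range = centralizer (P : Set K)) {ψ : IrrCharacter L}
    {T : Finset (IrrCharacter L)} (hT : ∀ φ, φ ∈ T ↔ φ ∈ Orb ι P (ψ : L → ℂ)) {g : K} (hg : g ∈ normalizer (P : Set K))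
    {σ : MulAut L} (hσ : ∀ y, ι (σ y) = g * ι y * g⁻¹) : (∑ φ ∈ T, (φ : L → ℂ)) ∘ σ = ∑ φ ∈ T, (φ : L → ℂ) := by
  obtain ⟨φ, hφ⟩ := exists_act hι hL
  let _ := Cor.aX φ
  have c1 : ∀ η, η ∈ T ↔ η ∈ orbit (normalizer (P : Set K)) ψ := fun η => (hT η).trans
    ⟨fun ⟨x, hx, h⟩ => ⟨⟨x, hx⟩, (cj_iff hι hφ ⟨x, hx⟩ _ _).1 h⟩, fun ⟨x, h⟩ => ⟨x, x.2, (cj_iff hι hφ x _ _).2 h⟩⟩
  funext y
  rw [Function.comp_apply, Finset.sum_apply, Finset.sum_apply]
  refine Finset.sum_equiv (toPerm (⟨g, hg⟩ : normalizer (P : Set K))⁻¹) (fun η => ?_) fun η _ => congrArg η.1 (hι ?_)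
  · rw [c1, c1, toPerm_apply]
    exact ⟨mem_orbit_of_mem_orbit _, fun e => by simpa only [smul_inv_smul] using mem_orbit_of_mem_orbit ⟨g, hg⟩ e⟩
  · rw [inv_inv, hσ]
    exact (hφ ⟨g, hg⟩ y).symm

variable {B : Set (IrrCharacter K)} {b : Set (IrrCharacter L)}

theorem tight (h : Fr l r m n N K α) (hM : IsPModular l M) (T : Top r M α B P ι β b) {ξ : IrrCharacter K} (hξ : ξ ∈ B)
    {ψ : IrrCharacter L} (h0 : Un r ι P (ψ : L → ℂ) (ξ : K → ℂ)) : Tight r ι P (ψ : L → ℂ) :=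
  (mxp h hM T.hB T.sB T.rp T.mx hξ).tight hM h T.rp T.st T.emb T.rg (T.sB ξ hξ) h0

/-- **Osima's argument** -/
theorem ex_over (h : Fr l r m n N K α) (hM : IsPModular l M) (T : Top r M α B P ι β b) {ψ : IrrCharacter L} (hψ : ψ ∈ b) :
    ∃ ξ ∈ B, Un r ι P (ψ : L → ℂ) (ξ : K → ℂ) := by
  have : Fact r.Prime := ⟨h.rp⟩
  have := isPrime_of_isPModular hM
  have := finite_irr (G := L)
  have z : ∀ ξ ∈ B, ∀ φ : IrrCharacter L, (¬ ∃ ξ ∈ B, Un r ι P (φ : L → ℂ) (ξ : K → ℂ)) →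
      classInner (tc l (rs r P ξ ∘ ι)) φ = 0 := fun ξ hξ φ h1 => rs_tc boxUf h hM T.rp T.emb.inj T.rg fun η e =>
    not_not.1 fun e' => h1 ⟨η, isPBlock_mem_of_sameBlock T.hB hξ e, e'⟩
  obtain ⟨μ, h1, h2, h3⟩ := exists_hz hM T.emb.inj T.rg T.hb
  rw [isPBlock_eq_blockOf T.hb h1] at h2 h3
  have h4 : ∀ S : Finset (IrrCharacter L), (∀ φ, φ ∈ S ↔ φ ∈ Orb ι P (μ : L → ℂ)) → ∀ φ ∈ b,
      uf l (φ : L → ℂ) (∑ η ∈ S, (η : L → ℂ)) ≠ 0 := fun S hS φ hφ e =>
    uf_orb hM T.emb.inj T.rg h2 h3 (isPBlock_sameBlock T.hb h1 hφ) hS (e ▸ memLocalIdeal_zero)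
  obtain ⟨ξ, h5, h6⟩ : ∃ ξ ∈ B, Un r ι P (μ : L → ℂ) (ξ : K → ℂ) := by
    by_contra h5
    obtain ⟨ξ, h6, φ, h7, h8⟩ := T.lnk
    obtain ⟨a, S, h9, h10, h11, h12⟩ := orb_fin boxSt boxOrb h T.rp T.emb T.rg (T.sB ξ h6) h8 (tight h hM T h6 h8)
    set S' := (Set.toFinite (Orb ι P (μ : L → ℂ))).toFinset
    have h13 : ∀ η, η ∈ S' ↔ η ∈ Orb ι P (μ : L → ℂ) := fun η => Set.Finite.mem_toFinset _
    have h14 : classInner (tc l (∑ η ∈ S', (η : L → ℂ))) (rs r P ξ ∘ ι) = 0 := by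
      rw [inner_tc, ← classInner_conj_symm, classInner_sum_right, Finset.sum_eq_zero, map_zero]
      refine fun η hη => z ξ h6 η fun ⟨ξ', h14, h15⟩ => h5 ⟨ξ', h14, ?_⟩
      rwa [Un, Ob.inner_cj h.bg h.bdr T.rp (boxSt.rat h ξ' (T.sB ξ' h14)) T.emb.inj T.rg ((h13 η).1 hη)] at h15
    have h15 : ∀ η ∈ S, classInner (tc l (∑ η ∈ S', (η : L → ℂ))) η = classInner (tc l (∑ η ∈ S', (η : L → ℂ))) φ := fun η hη => by
      obtain ⟨g, hg, h15⟩ := (h11 η).1 hη
      obtain ⟨σ, hσ⟩ := exists_aut T.emb.inj T.rg hg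
      have h16 := uf_aut (l := l) σ (η : L → ℂ) (∑ η ∈ S', (η : L → ℂ))
      rw [sum_orb T.emb.inj T.rg h13 hg hσ, show (η : L → ℂ) ∘ σ = φ from funext fun y => h15 _ _ (hσ y), uf_eq, uf_eq,
        deg_orb ((h11 η).1 hη), div_left_inj' (irr_one_ne_zero φ.2), mul_right_inj' card_ne_zero_complex] at h16
      exact h16.symm
    rw [show rs r P ξ ∘ ι = (a : ℂ) • ∑ η ∈ S, (η : L → ℂ) from funext fun y => by
      rw [h12, Pi.smul_apply, Finset.sum_apply, smul_eq_mul], classInner_smul_right, classInner_sum_right, Finset.sum_congr rfl h15,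
      Finset.sum_const, nsmul_eq_mul, map_intCast] at h14
    refine h4 S' h13 φ h7 ?_
    rw [uf_eq, (mul_eq_zero.1 ((mul_eq_zero.1 h14).resolve_left h9)).resolve_left
      (Nat.cast_ne_zero.2 (Finset.card_pos.2 ⟨φ, h10⟩).ne'), mul_zero, zero_div]
  by_contra h7
  obtain ⟨a, S, h9, -, h11, h12⟩ := orb_fin boxSt boxOrb h T.rp T.emb T.rg (T.sB ξ h5) h6 (tight h hM T h5 h6)
  have h13 := z ξ h5 ψ h7
  rw [show rs r P ξ ∘ ι = (a : ℂ) • ∑ η ∈ S, (η : L → ℂ) from funext fun y => by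
    rw [h12, Pi.smul_apply, Finset.sum_apply, smul_eq_mul], inner_tc, classInner_smul_left, ← inner_tc] at h13
  exact h4 S h11 ψ hψ (by rw [uf_eq, (mul_eq_zero.1 h13).resolve_left h9, mul_zero, zero_div])

end Os

open Os in
theorem boxOs : BoxOs where
  ex := fun {l r m n N K} _ _ {α M} h hM B hB sB => by
    have : Fact r.Prime := ⟨h.rp⟩
    have := isPrime_of_isPModular hM
    have := finite_irr (G := K)
    obtain ⟨R, hR⟩ := ExistsModular.exists_isPModular h.rp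
    have := isPrime_of_isPModular hR
    obtain ⟨ξ, h1, h2⟩ := Set.exists_min_image B (fun ξ => (charDegree (ξ : K → ℂ)).factorization r) (Set.toFinite B)
      (isPBlock_nonempty hB)
    obtain ⟨P, h3, h4⟩ := boxSt.dfg h.toGl r R hR ξ (sB ξ h1)
    have i := Fintype.ofFinite (centralizer (P : Set K))
    obtain ⟨ψ, -, h5⟩ := boxOrb.root hR h.bg h.bdr ξ P (boxSt.rat h ξ (sB ξ h1)) h3
    have hP := isPGroup_of_isDefectGroup h3
    exact ⟨P, h4, i, blockOf M (ψ : centralizer (P : Set K) → ℂ), hP, h4, h4.cen.emb, range_subtype _, hB, sB, isPBlock_blockOf ψ,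
      boxSt.blk (h.toGl.sub h4.cen.emb) hM ψ (con_rs boxSt h hP h4 h4.cen.emb (range_subtype _) (sB ξ h1) h5),
      fun η hη => (H592.Defect.le_degree_add r hR (isPBlock_blockOf ξ) h3 (mem_blockOf_self ξ)).trans
        (Nat.add_le_add_right (h2 η hη) _), ξ, h1, ψ, mem_blockOf_self ψ, h5⟩
  all := fun h hM T ψ hψ => (ex_over h hM T hψ).elim fun ξ e =>
    ⟨tight h hM T e.1 e.2, ξ, e.1, e.2, fun _ hz => cen_rs boxSt h T.rp T.emb T.rg (T.sB ξ e.1) e.2 hz⟩

end Cfsg.Agent.BZ.L
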