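import Cfsg.Agent.PQ.EA.SameA

/-!
# BZ / L : Minkowski's lemma for lattices over the cyclotomic integers (helper24)

* `mink` : an automorphism of finite order which is trivial modulo the prime above `l` (modulo four if `l = 2`);
* `exists_h` : the arithmetic data.
-/

set_option autoImplicit false
set_option linter.unusedSectionVars false
set_option linter.style.haveILetI false
set_option maxHeartbeats 400000

namespace Cfsg.Agent.BZ.L.W1

open Polynomial Cfsg.Agent.PQ.EA.SameL

variable {l : ℕ} [hl : Fact l.Prime] {Φ h : ℤ[X]} {M : Type} [AddCommGroup M] [Module.Finite ℤ M] [Module.IsTorsionFree ℤ M]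
  {b : Module.End ℤ M} {lam : ℤ}

theorem comm_ae {w : Module.End ℤ M} (hc : Commute b w) (f : ℤ[X]) (x : M) : aeval b f (w x) = w (aeval b f x) := by
  have : Commute (aeval b f) w := by
    induction f using Polynomial.induction_on with
    | C a => rw [aeval_C]; exact Algebra.commutes a w
    | add p q hp hq => rw [map_add]; exact hp.add_left hq
    | monomial n a h1 => rw [pow_succ, ← mul_assoc, map_mul, aeval_X]; exact h1.mul_left hc
  exact LinearMap.congr_fun this.eq x

theorem mink1 (ev : ℤ[X] →+* ZMod l) (hm : Φ.Monic) (hi : Irreducible (Φ.map (Int.castRingHom ℚ))) (h0 : ev Φ = 0)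
    (hq : ev h ≠ 0) (hb : aeval b Φ = 0) {s : ℕ} {ν s' e₁ e₂ : ℤ} (hν : ν ≠ 0) (h1 : (s : ℤ) = ν * s')
    (h2 : (s.choose 2 : ℤ) * lam = ν * l * e₁) (h3 : lam * lam = ν * l * e₂) (h4 : (s' : ZMod l) ≠ 0) {t : Module.End ℤ M}
    (hc : Commute b t) (ht : (1 + t) ^ s = 1) (hd : ∀ u, ∃ v, t (aeval b h u) = lam • v) : t = 0 := by
  letI : Module ℤ[X] M := Module.compHom M (aeval b).toRingHom
  obtain ⟨ρ, hρ⟩ := binom s
  have h5 := congrArg (aeval t) hρ
  simp only [map_pow, map_add, map_mul, map_one, aeval_X, aeval_C, Algebra.algebraMap_eq_smul_one, ht] at h5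
  obtain ⟨n, h6, h7⟩ := nakM (q := C s' * (h * h)) ev hm hi h0
    (by rw [map_mul, map_mul, eq_intCast C, map_intCast]; exact mul_ne_zero h4 (mul_ne_zero hq hq))
    { (LinearMap.range t).toAddSubmonoid with
      smul_mem' := by
        rintro f _ ⟨x, rfl⟩
        exact ⟨_, (comm_ae hc f x).symm⟩ } ⊥
    (fun x _ => LinearMap.congr_fun hb x)
    (by
      rintro _ ⟨x, rfl⟩
      obtain ⟨y₂, b2⟩ := hd x
      obtain ⟨y₃, b3⟩ := hd y₂
      have b1 : t (aeval b h (aeval b h x)) = lam • aeval b h y₂ := by rw [← comm_ae hc, b2, map_smul]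
      have h8 := LinearMap.congr_fun h5 (aeval b h (aeval b h x))
      simp only [LinearMap.add_apply, Module.End.mul_apply, LinearMap.smul_apply, Module.End.one_apply, left_eq_add] at h8
      rw [b1, map_smul t lam, b3, smul_smul, smul_smul, h2, h3, h1, map_smul (aeval t ρ), mul_smul ν s', mul_assoc ν, mul_assoc ν,
        mul_smul ν, mul_smul ν, ← smul_add, ← smul_add, map_smul, smul_eq_zero, mul_smul, mul_smul, add_assoc, ← smul_add, map_add,
        map_smul, map_smul, add_eq_zero_iff_eq_neg] at h8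
      refine ⟨0, zero_mem _, _, ⟨-(e₁ • aeval b h y₂ + e₂ • aeval t ρ y₃), rfl⟩, ?_⟩
      show aeval b (C s' * (h * h)) (t x) = _
      rw [zero_add, map_neg, smul_neg, ← h8.resolve_left hν, comm_ae hc, map_mul, map_mul, aeval_C, Algebra.algebraMap_eq_smul_one]
      simp)
  exact LinearMap.ext fun x => (smul_eq_zero.1 ((Submodule.mem_bot ℤ[X]).1 (h7 _ ⟨x, rfl⟩))).resolve_left h6

/-- **Minkowski** -/
theorem mink (ev : ℤ[X] →+* ZMod l) (hm : Φ.Monic) (hi : Irreducible (Φ.map (Int.castRingHom ℚ))) (h0 : ev Φ = 0)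
    (hq : ev h ≠ 0) (hb : aeval b Φ = 0) (hlam : lam = (if l = 2 then 4 else l : ℕ)) {o : ℕ} (ho : o ≠ 0) :
    ∀ w : Module.End ℤ M, Commute b w → w ^ o = 1 → (∀ u, ∃ v, (w - 1) (aeval b h u) = lam • v) → w = 1 := by
  have h1 : (l : ℤ) ∣ lam := by
    rw [hlam]
    split_ifs with e
    · subst e; norm_num
    · rfl
  induction o using induction_on_primes with
  | zero => exact absurd rfl ho
  | one => exact fun _ _ h _ => by rwa [pow_one] at h
  | prime_mul s a hs ih =>
    intro w hc hw hd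
    refine ih (right_ne_zero_of_mul ho) w hc ?_ hd
    have h2 : ∀ u, ∃ v, (w ^ a - 1) (aeval b h u) = lam • v := fun u => by
      obtain ⟨v, hv⟩ := hd u
      exact ⟨_, by rw [← geom_sum_mul, Module.End.mul_apply, hv, map_smul]⟩
    have h3 : (1 + (w ^ a - 1)) ^ s = 1 := by rw [add_sub_cancel, ← pow_mul, mul_comm, hw]
    have h4 : Commute b (w ^ a - 1) := (hc.pow_right _).sub_right (Commute.one_right b)
    rw [← sub_eq_zero]
    obtain ⟨e, he⟩ := h1
    by_cases h5 : s = l
    · subst h5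
      obtain ⟨e₁, h6⟩ : (s : ℤ) * s ∣ (s.choose 2 : ℤ) * lam := by
        by_cases h7 : s = 2
        · subst h7
          rw [hlam]
          norm_num
        · exact mul_dvd_mul (Int.natCast_dvd_natCast.2 (hs.dvd_choose_self two_ne_zero (lt_of_le_of_ne hs.two_le (Ne.symm h7))))
            ⟨e, he⟩
      exact mink1 ev hm hi h0 hq hb (s' := 1) (e₂ := e * e) l_ne (mul_one _).symm h6 (by rw [he]; ring) (by simp) h4 h3 h2
    · exact mink1 ev hm hi h0 hq hb (ν := 1) (e₁ := s.choose 2 * e) (e₂ := e * lam) one_ne_zero (one_mul _).symm (by rw [he]; ring)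
        (by rw [he]; ring) (by
          rw [Int.cast_natCast, Ne, ZMod.natCast_eq_zero_iff]
          exact fun h6 => h5 ((Nat.prime_dvd_prime_iff_eq hl.out hs).1 h6).symm) h4 h3 h2

/-- the arithmetic data -/
theorem exists_h {u d : ℕ} (hu : ¬ l ∣ u) (hd : orderOf (u : ZMod (if l = 2 then 4 else l)) = d) :
    ∃ (ev : ℤ[X] →+* ZMod l) (h ρ σ : ℤ[X]), ev (cyclotomic d ℤ) = 0 ∧ ev h ≠ 0 ∧
      (C (u : ℤ) * X - 1) * h = ρ * cyclotomic d ℤ + C ((if l = 2 then 4 else l : ℕ) : ℤ) * σ := by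
  by_cases h2 : l = 2
  · subst h2
    rw [if_pos rfl] at hd ⊢
    obtain ⟨j, h1 | h1⟩ : ∃ j, u = 4 * j + 1 ∨ u = 4 * j + 3 := ⟨u / 4, by omega⟩
    · obtain rfl : d = 1 := by
        rw [← hd, h1, orderOf_eq_one_iff]
        push_cast
        rw [show (4 : ZMod 4) = 0 from rfl, zero_mul, zero_add]
      refine ⟨(aeval (1 : ZMod 2)).toRingHom, 1, C (u : ℤ), C (j : ℤ), by simp, by simp, ?_⟩
      rw [cyclotomic_one, h1]
      simp only [Nat.cast_add, Nat.cast_mul, Nat.cast_ofNat, Nat.cast_one, map_add, map_mul, map_ofNat, map_one]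
      ring
    · obtain rfl : d = 2 := by
        rw [← hd, h1]
        push_cast
        rw [show (4 : ZMod 4) = 0 from rfl, zero_mul, zero_add]
        exact orderOf_eq_prime (by decide) (by decide)
      refine ⟨(aeval (1 : ZMod 2)).toRingHom, 1, C (u : ℤ), -C (j + 1 : ℤ), by simp; rfl, by simp, ?_⟩
      rw [cyclotomic_two, h1]
      simp only [Nat.cast_add, Nat.cast_mul, Nat.cast_ofNat, map_add, map_mul, map_ofNat, map_one]
      ring
  · rw [if_neg h2] at hd ⊢
    have h1 : ((u : ℤ) : ZMod l) ≠ 0 := by rwa [Int.cast_natCast, Ne, ZMod.natCast_eq_zero_iff]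
    have h3 : orderOf ((u : ℤ) : ZMod l) = d := by rwa [Int.cast_natCast]
    obtain ⟨q, ρ, σ, -, h4, -, h5, h6, -⟩ := exists_q h1 h3 dvd_rfl (h3 ▸ (ord_pos h1).2)
    exact ⟨(aeval ((u : ℤ) : ZMod l)⁻¹).toRingHom, q, ρ, σ, h5, h6, h4⟩

end Cfsg.Agent.BZ.L.W1
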