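import Cfsg.Agent.BZ.L.Lie
import Cfsg.Agent.BZ.L.W1a

/-!
# BZ / L : an element of `N(T_r)` which centralises the `l`-part of the connected centre of `C(T_r)` centralises `T_r` (helper24)

* `mem_Pt`, `mem_Z0_of` (`r` prime to the order of the Weyl group), `core`, `boxW1`.
-/

set_option autoImplicit false
set_option linter.unusedSectionVars false
set_option linter.style.haveILetI false
set_option maxHeartbeats 400000

namespace Cfsg.Agent.BZ.L

namespace W1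

open Cfsg Subgroup Cfsg.Agent.DL Cfsg.Agent.KM Cfsg.Agent.KM.Ht Cfsg.Agent.KM.Tor Matrix Polynomial Cfsg.Agent.PQ.EA.SameL

section Mon

variable {R : Type} [Fintype R] [DecidableEq R] {k : Type} [Field k] {A : Matrix R R ℤ} {c : R → kˣ}

theorem mon_aeval {e : ℤ} (h : mon A c = c ^ e) (f : ℤ[X]) : mon (aeval A f) c = c ^ f.eval e := by
  induction f using Polynomial.induction_on with
  | C a => rw [aeval_C, Algebra.algebraMap_eq_smul_one, mon_zsmul, mon_one, eval_C]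
  | add f g hf hg => rw [map_add, mon_add, hf, hg, eval_add, _root_.zpow_add]
  | monomial n a h1 =>
    rw [pow_succ, ← mul_assoc, map_mul, aeval_X, mon_mul, h, map_zpow, h1, eval_mul (q := X), eval_X, _root_.zpow_mul]

theorem mon_sum {ι : Type} (s : Finset ι) {f : ι → Matrix R R ℤ} (h : ∀ i, mon (f i) c = c) : mon (∑ i ∈ s, f i) c = c ^ s.card := by
  classical
  induction s using Finset.induction_on with
  | empty => rw [Finset.sum_empty, ← zero_smul ℤ (1 : Matrix R R ℤ), mon_zsmul, zpow_zero, Finset.card_empty, pow_zero]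
  | insert i s hi ih => rw [Finset.sum_insert hi, mon_add, h, ih, Finset.card_insert_of_notMem hi, pow_succ']

end Mon

variable {p : ℕ} [Fact p.Prime] {k : Type} [Field k] [CharP k p] {Y : Type} [Group Y] {N : Type} [Fintype N]
  [DecidableEq N] {ρ : Y →* GL N k} {F : MulAut Y} {G : Subgroup Y} [IsAlgClosed k] (X : Datum p ρ F G) {Z : Set Y}

theorem mem_Pt {m s : ℕ} {S : Subgroup Y} (hS : S ≤ X.T) {g : GF (F ^ m) G} :
    g ∈ Pt F G m s S ↔ (g : Y) ∈ S ∧ ∃ j, g ^ s ^ j = 1 := by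
  refine ⟨fun h => ?_, fun h => subset_closure h⟩
  induction h using closure_induction with
  | mem x hx => exact hx
  | one => exact ⟨one_mem _, 0, one_pow _⟩
  | mul x y _ _ h1 h2 =>
    obtain ⟨a, i, hi⟩ := h1
    obtain ⟨b, j, hj⟩ := h2
    have hc : Commute x y := Subtype.ext (X.T_comm (hS a) (hS b))
    exact ⟨mul_mem a b, i + j, by rw [hc.mul_pow, pow_add, pow_mul, hi, one_pow, mul_comm (s ^ i), pow_mul, hj, one_pow, one_mul]⟩
  | inv x _ h1 => exact ⟨inv_mem h1.1, h1.2.imp fun j hj => by rw [inv_pow, hj, inv_one]⟩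

/-- elements of order prime to the order of the Weyl group -/
theorem mem_Z0_of (hZ : Z ⊆ X.T) {t : Y} (ht : t ∈ Z) (h : (Nat.card X.W).Coprime (orderOf t)) : t ∈ Z0 X Z := by
  classical
  obtain ⟨c, rfl⟩ := (X.mem_T t).1 (hZ ht)
  let H : Subgroup X.W := closure (X.rf '' X.Sz Z)
  letI := Fintype.ofFinite H
  have h1 : ∀ w ∈ H, mon (X.Wm w) c = c := fun w hw => by
    induction hw using closure_induction with
    | mem w hw =>
      obtain ⟨a, ha, rfl⟩ := hw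
      obtain ⟨m, -, hm⟩ := X.exists_rp_rf ha.1
      have h2 := ha.2 _ ht
      rw [X.χ_τ, Units.val_eq_one] at h2
      refine X.τ_inj ?_
      rw [← X.conj_τ hm, X.conj_τ_rf ha.1 hm, h2, map_one, inv_one, mul_one]
    | one => rw [X.Wm_one, mon_one]
    | mul x y _ _ h1 h2 => rw [X.Wm_mul, mon_mul, h2, h1]
    | inv x _ h1 => rw [← h1, ← mon_mul, ← X.Wm_mul, inv_mul_cancel, X.Wm_one, mon_one, h1]
  have h2 : ∀ b ∈ X.Sz Z, X.wt b ᵥ* ∑ w : H, X.Wm w = 0 := fun b hb => by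
    have h3 : X.Wm (X.rf b) * ∑ w : H, X.Wm w = ∑ w : H, X.Wm w := by
      rw [Finset.mul_sum, ← Equiv.sum_comp (Equiv.mulLeft (⟨X.rf b, subset_closure ⟨b, hb, rfl⟩⟩ : H)) fun w : H => X.Wm w]
      exact Finset.sum_congr rfl fun w _ => (X.Wm_mul _ _).symm
    have h4 := X.wt_act (X.rf b) b
    rw [X.act_rf_self hb.1, map_neg, neg_vecMul, neg_eq_iff_eq_neg] at h4
    have h5 := congrArg (X.wt b ᵥ* ·) h3
    simp only [← vecMul_vecMul, h4, neg_vecMul] at h5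
    exact funext fun j => by
      have := congrFun h5 j
      rw [Pi.neg_apply] at this
      rw [Pi.zero_apply]
      omega
  have h3 : X.τ c ^ Nat.card H ∈ Z0 X Z := by
    rw [← map_pow, Nat.card_eq_fintype_card, ← Finset.card_univ, ← mon_sum Finset.univ fun w : H => h1 w w.2,
      ← prod_coch_single c, map_prod]
    refine Finset.prod_induction _ (fun x => X.τ x ∈ Z0 X Z) (fun a b ha hb => by rw [map_mul]; exact mul_mem ha hb)
      (by rw [map_one]; exact one_mem _) fun j _ => ?_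
    rw [mon_coch]
    exact mem_Z0 (fun b hb => by rw [dotProduct_mulVec, h2 b hb, zero_dotProduct]) _
  obtain ⟨e, he⟩ := exists_pow_eq_self_of_coprime (h.coprime_dvd_left (card_subgroup_dvd_card H))
  exact he ▸ pow_mem h3 e

theorem exists_of_Z0 {z : Y} (hz : z ∈ Z0 X Z) {B D : Matrix X.R X.R ℤ} (h : ∀ v, Pp X (X.Sz Z) v → B *ᵥ v = D *ᵥ v) :
    ∃ c, z = X.τ c ∧ mon B c = mon D c := by
  induction hz using closure_induction with
  | mem z hz =>
    obtain ⟨v, a, h1, rfl⟩ := hz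
    exact ⟨_, rfl, by rw [mon_coch, mon_coch, h v h1]⟩
  | one => exact ⟨1, (map_one _).symm, by rw [map_one, map_one]⟩
  | mul x y _ _ h1 h2 =>
    obtain ⟨a, rfl, h1⟩ := h1
    obtain ⟨b, rfl, h2⟩ := h2
    exact ⟨a * b, (map_mul _ _ _).symm, by rw [map_mul, map_mul, h1, h2]⟩
  | inv x _ h1 =>
    obtain ⟨a, rfl, h1⟩ := h1
    exact ⟨a⁻¹, (map_inv _ _).symm, by rw [map_inv, map_inv, h1]⟩

theorem pp_Mx (hZ : Z ⊆ X.T) (hF : ∀ z ∈ Z, F z ∈ Z) {v : X.R → ℤ} (hv : Pp X (X.Sz Z) v) : Pp X (X.Sz Z) (X.Mx *ᵥ v) := by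
  intro b hb
  obtain ⟨a, ha, rfl⟩ := X.g_surj hb.1
  rw [dotProduct_mulVec, X.wt_g ha, smul_dotProduct, hv a ⟨ha, fun z hz => ?_⟩, smul_zero]
  have h1 := hb.2 _ (hF z hz)
  rw [X.χ_F ha (hZ hz), ← sub_eq_zero, ← one_pow (p ^ X.ex a), ← sub_pow_char_pow] at h1
  exact sub_eq_zero.1 (pow_eq_zero_iff (pow_pos (Fact.out : p.Prime).pos _).ne' |>.1 h1)

/-- the action of the normaliser -/
theorem exists_w (hZ : Z ⊆ X.T) {g : Y} (hg : g ∈ G) (hn : ∀ z, z ∈ Z ↔ g * z * g⁻¹ ∈ Z) : ∃ w,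
    (∀ c, X.τ c ∈ Z → g * X.τ c * g⁻¹ = X.τ (mon (X.Wm w) c)) ∧ ∀ v, Pp X (X.Sz Z) v → Pp X (X.Sz Z) (X.Wm w *ᵥ v) ∧
      ∀ a, g * X.τ (coch v a) * g⁻¹ = X.τ (coch (X.Wm w *ᵥ v) a) := by
  obtain ⟨c, hc, m, ⟨w, hm⟩, e, rfl⟩ := X.exists_conj_form (s := fun a : Z => (a : Y)) (t := fun a : Z => g * a * g⁻¹)
    (fun a => hZ a.2) (fun a => hZ ((hn _).1 a.2)) hg fun a => by group
  have h3 : c ∈ X.cen Z := by
    refine X.cen_anti (fun x hx => ?_) (X.S_le_cen _ hc)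
    refine ⟨⟨(c * m)⁻¹ * x * (c * m), (hn _).2 ?_⟩, by group⟩
    rwa [show c * m * ((c * m)⁻¹ * x * (c * m)) * (c * m)⁻¹ = x by group]
  refine ⟨w, fun x hx => by rw [← X.conj_τ hm, e ⟨_, hx⟩, mul_inv_cancel_right], fun v hv => ?_⟩
  have h1 : Pp X (X.Sz Z) (X.Wm w *ᵥ v) := fun b hb => by
    rw [dotProduct_mulVec, ← X.wt_act']
    refine hv _ ⟨hb.1.act _, fun x hx => ?_⟩
    rw [← X.χ_rp hm _ (hZ hx), ← CF.act_mul, mul_inv_cancel, CF.act_one, e ⟨x, hx⟩, mul_inv_cancel_right]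
    exact hb.2 _ ((hn _).1 hx)
  refine ⟨h1, fun a => ?_⟩
  rw [show c * m * X.τ (coch v a) * (c * m)⁻¹ = c * (m * X.τ (coch v a) * m⁻¹) * c⁻¹ by group, X.conj_τ hm, mon_coch,
    cen_comm_Z0 X Z h3 (mem_Z0 h1 a), mul_inv_cancel_right]

/-- the cocharacters of `Z0` -/
def La (Z : Set Y) : Submodule ℤ (X.R → ℤ) where
  carrier := {v | Pp X (X.Sz Z) v}
  add_mem' h h' b hb := by rw [dotProduct_add, h b hb, h' b hb, add_zero]
  zero_mem' b _ := dotProduct_zero _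
  smul_mem' a _ h b hb := by rw [dotProduct_smul, h b hb, smul_zero]

theorem La.sat {a : ℤ} (ha : a ≠ 0) {v : X.R → ℤ} (h : a • v ∈ La X Z) : v ∈ La X Z := fun b hb => by
  have := h b hb
  rw [dotProduct_smul] at this
  exact (smul_eq_zero.1 this).resolve_left ha

/-- **the lattice part** -/
theorem lat {R : Type} [Fintype R] [DecidableEq R] {V : Submodule ℤ (R → ℤ)} (hs : ∀ a : ℤ, a ≠ 0 → ∀ v, a • v ∈ V → v ∈ V)
    {A W : Matrix R R ℤ} (hA : ∀ v ∈ V, A *ᵥ v ∈ V) (hW : ∀ v ∈ V, W *ᵥ v ∈ V) (hc : ∀ v ∈ V, A *ᵥ W *ᵥ v = W *ᵥ A *ᵥ v) {o : ℕ}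
    (ho : o ≠ 0) (h1 : W ^ o = 1) {l u d : ℕ} [Fact l.Prime] (hu : ¬ l ∣ u) (hd : orderOf (u : ZMod (if l = 2 then 4 else l)) = d)
    (h0 : 0 < d) (h : ∀ v ∈ V, ∀ y, (u : ℤ) • A *ᵥ v = v + ((if l = 2 then 4 else l : ℕ) : ℤ) • y →
      ∀ i, ((if l = 2 then 4 else l : ℕ) : ℤ) ∣ (W *ᵥ v - v) i) :
    ∀ v ∈ V, aeval A (cyclotomic d ℤ) *ᵥ v = 0 → W *ᵥ v = v := by
  obtain ⟨ev, f, ρ, σ, e1, e2, e3⟩ := exists_h hu hd
  have c1 : ∀ f : ℤ[X], ∀ v ∈ V, aeval A f *ᵥ W *ᵥ v = W *ᵥ aeval A f *ᵥ v := fun f => by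
    induction f using Polynomial.induction_on with
    | C a => exact fun v _ => by simp only [aeval_C, Algebra.algebraMap_eq_smul_one, smul_mulVec, one_mulVec, mulVec_smul]
    | add f g hf hg => exact fun v hv => by rw [map_add, add_mulVec, add_mulVec, hf v hv, hg v hv, mulVec_add]
    | monomial n a h1 =>
      exact fun v hv => by rw [pow_succ, ← mul_assoc, map_mul, aeval_X, ← mulVec_mulVec, hc v hv, h1 _ (hA v hv), mulVec_mulVec v]
  let M := V ⊓ kr (aeval A (cyclotomic d ℤ))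
  have m1 : ∀ v ∈ M, toLin' A v ∈ M := fun v hv => ⟨hA v hv.1, kr_stab (comm_aeval (Commute.refl A) _) v hv.2⟩
  have m2 : ∀ v ∈ M, toLin' W v ∈ M := fun v hv => ⟨hW v hv.1, by
    show _ *ᵥ W *ᵥ v = 0
    rw [c1 _ v hv.1, mem_kr.1 hv.2, mulVec_zero]⟩
  have c2 : ∀ (f : ℤ[X]) (x : M), (aeval ((toLin' A).restrict m1) f x : R → ℤ) = aeval A f *ᵥ x := fun f => by
    induction f using Polynomial.induction_on with
    | C a => exact fun x => by simp
    | add f g hf hg => exact fun x => by rw [map_add, map_add, add_mulVec, LinearMap.add_apply, Submodule.coe_add, hf, hg]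
    | monomial n a h1 =>
      exact fun x => by
        rw [pow_succ, ← mul_assoc, map_mul, map_mul (aeval A), aeval_X, aeval_X, Module.End.mul_apply, h1, ← mulVec_mulVec]
        rfl
  have c3 : ∀ (j : ℕ) (x : M), ((((toLin' W).restrict m2) ^ j) x : R → ℤ) = W ^ j *ᵥ x := fun j => by
    induction j with
    | zero => exact fun x => by rw [pow_zero, pow_zero, one_mulVec, Module.End.one_apply]
    | succ j ih => exact fun x => by rw [pow_succ, pow_succ, Module.End.mul_apply, ih, ← mulVec_mulVec]; rfl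
  have h2 : (((if l = 2 then 4 else l : ℕ) : ℤ)) ≠ 0 := by
    have := (Fact.out : l.Prime).pos
    split_ifs <;> omega
  have h3 := mink (b := (toLin' A).restrict m1) ev (cyclotomic.monic d ℤ)
    (by rw [map_cyclotomic_int]; exact cyclotomic.irreducible_rat h0) e1 e2
    (LinearMap.ext fun x => Subtype.ext ((c2 _ x).trans x.2.2)) rfl ho ((toLin' W).restrict m2)
    (LinearMap.ext fun x => Subtype.ext (hc x x.2.1)) (LinearMap.ext fun x => Subtype.ext (by rw [c3, h1, one_mulVec]; rfl))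
    fun x => by
      have h4 := congrArg (fun f => aeval A f *ᵥ (x : R → ℤ)) e3
      simp only [map_mul, map_add, map_sub, aeval_C, aeval_X, map_one, Algebra.algebraMap_eq_smul_one, add_mulVec, ← mulVec_mulVec,
        sub_mulVec, smul_mulVec, one_mulVec, mem_kr.1 x.2.2, mulVec_zero, zero_add, sub_eq_iff_eq_add'] at h4
      obtain ⟨y, hy⟩ := Classical.skolem.1 (h _ (aeval_mem hA f x x.2.1) _ h4)
      have h5 : ((((toLin' W).restrict m2 - 1 : Module.End ℤ M) (aeval ((toLin' A).restrict m1) f x) : M) : R → ℤ) =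
          ((if l = 2 then 4 else l : ℕ) : ℤ) • y := by
        rw [LinearMap.sub_apply, Submodule.coe_sub, Module.End.one_apply, LinearMap.coe_restrict_apply, c2]
        exact funext hy
      have h6 := h5 ▸ (((toLin' W).restrict m2 - 1 : Module.End ℤ M) (aeval ((toLin' A).restrict m1) f x)).2
      refine ⟨⟨y, hs _ h2 y h6.1, ?_⟩, Subtype.ext h5⟩
      have h7 := mem_kr.1 h6.2
      rw [mulVec_smul] at h7
      exact (smul_eq_zero.1 h7).resolve_left h2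
  exact fun v hv h4 => congrArg Subtype.val (LinearMap.congr_fun h3 ⟨v, hv, h4⟩)

/-- **the torus part** : `u = q ^ m` -/
theorem core (hZ : Z ⊆ X.T) (hF : ∀ z ∈ Z, F z ∈ Z) {m l r u d n : ℕ} [Fact l.Prime] [hr : Fact r.Prime] {A : Matrix X.R X.R ℤ}
    {q : ℤ} (hq : q ≠ 0) (h1 : X.Mx = q • A) (h2 : X.Mx ^ m = (u : ℤ) • A) (h3 : A ^ n = 1) (hp : l ≠ p) (hu : ¬ l ∣ u)
    (hd : orderOf (u : ZMod (if l = 2 then 4 else l)) = d) (h0 : 0 < d) (hd' : orderOf (u : ZMod r) = d) (hn : ¬ r ∣ n * d)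
    (hW : ¬ r ∣ Nat.card X.W) {g : Y} (hg : g ∈ GF (F ^ m) G) (hN : ∀ z, z ∈ Z ↔ g * z * g⁻¹ ∈ Z)
    (hC : ∀ z ∈ Z0 X Z, (F ^ m) z = z → z ^ l ^ 2 = 1 → g * z * g⁻¹ = z) {s : Y} (hs : s ∈ Z) (hs1 : (F ^ m) s = s) {j : ℕ}
    (hs2 : s ^ r ^ j = 1) : g * s * g⁻¹ = s := by
  obtain ⟨w, w1, w2⟩ := exists_w X hZ hg.1 hN
  have u0 : (u : ℤ) ≠ 0 := fun h => hu (by rw [Int.natCast_eq_zero.1 h]; exact dvd_zero _)
  have a1 : ∀ v ∈ La X Z, A *ᵥ v ∈ La X Z := fun v hv => La.sat X hq (by rw [← smul_mulVec, ← h1]; exact pp_Mx X hZ hF hv)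
  have a2 : ∀ v a, (F ^ m) (X.τ (coch v a)) = X.τ (coch ((u : ℤ) • A *ᵥ v) a) := fun v a => by
    rw [X.F_pow_τ, mon_coch, h2, smul_mulVec]
  have a3 : ∀ v ∈ La X Z, A *ᵥ X.Wm w *ᵥ v = X.Wm w *ᵥ A *ᵥ v := fun v hv => by
    refine smul_right_injective _ u0 (coch_inj (k := k) fun a => X.τ_inj ?_)
    beta_reduce
    rw [← a2, ← (w2 v hv).2, map_mul, map_mul, map_inv, mem_fix.1 hg.2, a2, (w2 _ ((La X Z).smul_mem _ (a1 v hv))).2, mulVec_smul]
  obtain ⟨ζ, hζ⟩ := exists_prim p k (n := if l = 2 then 4 else l) fun h => hp (by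
    split_ifs at h with e
    · exact e.trans ((Nat.prime_dvd_prime_iff_eq Fact.out Nat.prime_two).1
        ((Fact.out : p.Prime).dvd_of_dvd_pow (show p ∣ 2 ^ 2 from h))).symm
    · exact ((Nat.prime_dvd_prime_iff_eq Fact.out Fact.out).1 h).symm)
  have a4 := lat (fun a ha v => La.sat X ha) a1 (fun v hv => (w2 v hv).1) a3 (Nat.card_pos (α := X.W)).ne'
    ((map_pow X.WmHom w _).symm.trans (by rw [pow_card_eq_one', map_one])) hu hd h0 fun v hv y e i => by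
      have b1 := hC _ (mem_Z0 hv ζ) (by
        rw [a2, e, coch_add, coch_zsmul, ← hζ, zpow_natCast, pow_orderOf_eq_one, map_one, mul_one]) (by
        rw [← map_pow, ← map_pow, orderOf_dvd_iff_pow_eq_one.1 (by
          rw [hζ]
          split_ifs with e
          · rw [e]; rfl
          · exact dvd_pow_self l two_ne_zero), map_one, map_one])
      rw [(w2 v hv).2] at b1
      rw [← hζ, orderOf_dvd_iff_zpow_eq_one, Pi.sub_apply, _root_.zpow_sub, mul_inv_eq_one]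
      exact congrFun (X.τ_inj b1) i
  have r0 : ((u : ℤ) : ZMod r) ≠ 0 := fun h => by
    rw [Int.cast_natCast] at h
    rw [h, orderOf_zero] at hd'
    omega
  obtain ⟨-, -, -, f, -, f1, -, -, f2⟩ := exists_q r0 (by rwa [Int.cast_natCast]) (dvd_mul_left d n) hn
  have f3 : aeval A (cyclotomic d ℤ) * aeval A f = 0 := by
    rw [← map_mul, ← f1, map_sub, map_pow, aeval_X, pow_mul, h3, one_pow, map_one, sub_self]
  obtain ⟨c, rfl, c1⟩ := exists_of_Z0 X (mem_Z0_of X hZ hs (((Nat.Prime.coprime_iff_not_dvd hr.out).2 hW).symm.pow_right j |>.coprime_dvd_right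
    (orderOf_dvd_of_pow_eq_one hs2))) (B := X.Wm w * aeval A f) (D := aeval A f) fun v hv => by
      rw [← mulVec_mulVec]
      exact a4 _ (aeval_mem a1 f v hv) (by rw [mulVec_mulVec, f3, zero_mulVec])
  have c2 : c ^ (r : ℤ) ^ (j + 1) = 1 := X.τ_inj (by
    rw [← Nat.cast_pow, zpow_natCast, map_pow, pow_succ, pow_mul, hs2, one_pow, map_one])
  have c3 : ∀ e : ℤ, (e : ZMod r) ≠ 0 → IsCoprime e ((r : ℤ) ^ (j + 1)) := fun e he =>
    ((Nat.prime_iff_prime_int.1 hr.out).coprime_iff_not_dvd.2 fun h => he ((ZMod.intCast_zmod_eq_zero_iff_dvd _ _).2 h)).symm.pow_right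
  obtain ⟨u', b, c4⟩ := c3 u r0
  have c5 : mon A c = c ^ u' := by
    rw [X.F_pow_τ, h2] at hs1
    have := X.τ_inj hs1
    rw [mon_zsmul] at this
    rw [← zpow_one (mon A c), ← c4, _root_.zpow_add, mul_comm u', mul_comm b, _root_.zpow_mul, _root_.zpow_mul, this, ← map_zpow, c2,
      map_one, _root_.one_zpow, mul_one]
  have c6 : (u' : ZMod r) = ((u : ℤ) : ZMod r)⁻¹ := by
    have := congrArg (Int.cast : ℤ → ZMod r) c4
    simp only [Int.cast_add, Int.cast_mul, Int.cast_pow, Int.cast_natCast, ZMod.natCast_self, ne_eq, Nat.add_eq_zero_iff, one_ne_zero,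
      and_false, not_false_eq_true, zero_pow, mul_zero, add_zero, Int.cast_one] at this
    rw [Int.cast_natCast]
    exact eq_inv_of_mul_eq_one_left this
  obtain ⟨e, e', c7⟩ := c3 (f.eval u') (by rwa [← ev_int, c6])
  rw [mon_mul, mon_aeval c5] at c1
  have c8 : c = (c ^ f.eval u') ^ e := by
    rw [← _root_.zpow_mul, mul_comm, eq_sub_of_add_eq c7, _root_.zpow_sub, mul_comm e', _root_.zpow_mul, c2, _root_.one_zpow, inv_one, mul_one,
      zpow_one]
  rw [w1 c hs, c8, map_zpow, c1]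

end W1

open Cfsg Subgroup Cfsg.Agent.DL Cfsg.Agent.KM Cfsg.Agent.KM.Ht Cfsg.Agent.HZ.Gen W1 in
/-- **[W1]** -/
theorem boxW1 : BoxW1 := by
  intro p _ q d l n c hq
  haveI := Fact.mk hq.lp
  obtain ⟨f, -, hf⟩ := hq.pq
  have h1 : l.Coprime q := hf ▸ ((Nat.coprime_primes hq.lp Fact.out).2 hq.ne).pow_right f
  have h0 : 0 < d := by
    have h2 : q.Coprime (if l = 2 then 4 else l) := by
      split_ifs with e
      · exact (e ▸ h1.symm).pow_right 2
      · exact h1.symm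
    haveI : NeZero (if l = 2 then 4 else l) := ⟨by have := hq.lp.pos; split_ifs <;> omega⟩
    rw [← hq.dl, ← ZMod.coe_unitOfCoprime q h2, orderOf_units]
    exact orderOf_pos _
  by_cases hn : n = 0
  · exact Lg.of_forall fun m _ r _ _ _ _ _ _ _ _ _ _ _ _ _ X hC => absurd hC.n0 (by omega)
  refine (Lg.prime.and ((Lg.gt (n * d + c)).and (Lg.modEq (mul_ne_zero hn h0.ne')))).mono ?_
  rintro m ⟨hm, m1, m2⟩ r hr k _ _ Y _ N _ _ ρ F G _ X hC _ n' N' α M - - g ⟨g1, g2⟩ s hs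
  haveI := Fact.mk hr.rp
  have m3 := hr.mr
  obtain ⟨A, a1, a2⟩ := hC.lq 1
  rw [X.Wm_one, one_mul] at a1
  rw [Nat.cast_one, one_smul] at a2
  have hP : ∀ {x : GF (F ^ m) G}, x ∈ Pt F G m r X.T ↔ _ := mem_Pt X le_rfl
  obtain ⟨s1, j, s2⟩ := hP.1 hs
  have h2 : (g : Y) * s * (g : Y)⁻¹ = s := core X (Z := Subtype.val '' (Pt F G m r X.T : Set ↥(GF (F ^ m) G))) (m := m) (l := l) (r := r)
    (u := q ^ m) (d := d) (n := n) (by rintro _ ⟨x, hx, rfl⟩; exact (hP.1 hx).1)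
    (by
      rintro _ ⟨x, hx, rfl⟩
      obtain ⟨x1, i, x2⟩ := hP.1 hx
      refine ⟨⟨F x, X.F_mem_G x.2.1, ?_⟩, hP.2 ⟨X.F_mem_T x1, i, Subtype.ext ?_⟩, rfl⟩
      · show (F ^ m * F) x = F x
        rw [← pow_succ, pow_succ', MulAut.mul_apply, mem_fix.1 x.2.2]
      · show F x ^ r ^ i = 1
        rw [← map_pow, ← coe_pow, x2, coe_one, map_one])
    (by rw [hf]; exact_mod_cast (pow_pos (Fact.out : p.Prime).pos f).ne') a1
    (by rw [a1, smul_pow, Nat.cast_pow, pow_eq_pow_of_modEq (m2.of_mul_right d) a2, pow_one]) a2 hq.ne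
    ((Nat.Prime.coprime_iff_not_dvd hq.lp).1 (h1.pow_right m))
    (by rw [Nat.cast_pow, pow_eq_pow_of_modEq (m2.of_mul_left n) (hq.dl ▸ pow_orderOf_eq_one _), pow_one, hq.dl]) h0
    (by rw [Nat.cast_pow, orderOf_pow' _ hm.ne_zero, hr.ord, Nat.gcd_eq_right (dvd_mul_left m d), Nat.mul_div_cancel _ hm.pos])
    (Nat.not_dvd_of_pos_of_lt (Nat.mul_pos hC.n0 h0) (by omega))
    (Nat.not_dvd_of_pos_of_lt Nat.card_pos (by have := hC.w; omega)) g.2
    (fun z => ⟨by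
      rintro ⟨x, hx, rfl⟩
      exact ⟨_, (mem_normalizer_iff.1 g1 x).1 hx, rfl⟩, by
      rintro ⟨x, hx, e⟩
      refine ⟨g⁻¹ * x * g, (mem_normalizer_iff.1 g1 _).2 (by rwa [show g * (g⁻¹ * x * g) * g⁻¹ = x by group]), ?_⟩
      show (g : Y)⁻¹ * x * g = z
      rw [e]
      group⟩)
    (fun z z1 z2 z3 => by
      have := congrArg Subtype.val (g2 ⟨z, X.T_le_G (Z0_le_T X _ z1), z2⟩ (subset_closure ⟨z1, 2, Subtype.ext z3⟩))
      exact mul_inv_eq_iff_eq_mul.2 this.symm)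
    ⟨s, hs, rfl⟩ s.2.2 (j := j) (congrArg Subtype.val s2)
  exact Subtype.ext (mul_inv_eq_iff_eq_mul.1 h2).symm

end Cfsg.Agent.BZ.L
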