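import Cfsg.Agent.BZ.L.Glue
import Cfsg.Agent.BZ.L.ResP
import Cfsg.Agent.BZ.L.W1

/-!
# BZ / L : the glue with the top pair (helper33)

* `Pre` : the top pair over `P = T_r` with the defect group `Q = T_l`; `BoxLie0`, `boxLie0_of`;
* `BoxLieP` : `BoxLie` with `Pre` and the stabiliser of `b`; `boxLieP_of`.
-/

set_option autoImplicit false
set_option linter.unusedSectionVars false
set_option maxHeartbeats 400000

namespace Cfsg.Agent.BZ.L

open Cfsg Subgroup Cfsg.Agent.HZ.Gen Cfsg.Agent.KM Cfsg.Agent.BZ.Lab Cfsg.Agent.DL Cfsg.Agent.KM.Ht Cfsg.Agent.KM.Tor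
  Cfsg.Agent.Nodes.Reps

/-- the input of the engine -/
structure Pre (l r : ℕ) (M : Ideal AlgInt) {K : Type} [Group K] (α : MulAut K) (B : Set (IrrCharacter K)) (P Q : Subgroup K)
    [Fintype (centralizer (P : Set K))] (β : MulAut (centralizer (P : Set K))) (b : Set (IrrCharacter (centralizer (P : Set K)))) :
    Prop where
  top : Top r M α B P (centralizer (P : Set K)).subtype β b
  dfb : IsDefectGroup l M b (Q.subgroupOf (centralizer (P : Set K)))
  fx : Fx l α Q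
  qp : Q ≤ centralizer (P : Set K)
  w1 : normalizer (P : Set K) ⊓ centralizer (Q : Set K) ≤ centralizer (P : Set K)
  t2 : T2 l r (centralizer (P : Set K)).subtype P B b

/-- the output of the engine, with the top pair -/
structure OuP (l r : ℕ) (M : Ideal AlgInt) {K : Type} [Group K] (α : MulAut K) (B : Set (IrrCharacter K)) (Z D P Q S : Subgroup K)
    [Fintype (centralizer (P : Set K))] (β : MulAut (centralizer (P : Set K))) (b : Set (IrrCharacter (centralizer (P : Set K)))) :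
    Prop extends Pre l r M α B P Q β b, Ou l Z D P Q S where
  dfB : IsDefectGroup l M B D
  stb : ∀ g ∈ S, Stab (centralizer (P : Set K)).subtype b g
  sti : ∀ g ∈ normalizer (P : Set K), Stab (centralizer (P : Set K)).subtype b g ↔ ∃ c ∈ centralizer (P : Set K), g * c ∈ S

theorem Pre.out {l r m n N : ℕ} {M : Ideal AlgInt} {K : Type} [Group K] [Fintype K] {α : MulAut K} {B : Set (IrrCharacter K)}
    {P Q Z : Subgroup K} [Fintype (centralizer (P : Set K))] {β : MulAut (centralizer (P : Set K))}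
    {b : Set (IrrCharacter (centralizer (P : Set K)))} (H : Pre l r M α B P Q β b) (h : Fr l r m n N K α) (hM : IsPModular l M)
    (hZ : Z ≤ center K) (pZ : IsPGroup l Z) (hz : HZr l Z B) : ∃ D S, OuP l r M α B Z D P Q S β b := by
  obtain ⟨D, S, h1, h2, h3, h4, h5, h6⟩ := boxResP h hM H.top H.qp H.dfb H.fx H.w1 hZ pZ hz
  rw [inf_eq_left.2 (h5 H.t2)] at h6
  exact ⟨D, S, H, ⟨h2, h5 H.t2, h6⟩, h1, h3, h4⟩

/-- every stable block has a top pair over a stable torus -/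
def BoxLie0 : Prop := Unif fun {_} _ _ _ _ _ _ _ _ _ _ {F} {G} _ X _ _ l r m _ α M =>
  ∀ (B : Set (IrrCharacter ↥(GF (F ^ m) G))), IsPBlock M B → StB α B → ∃ y, ∃ (hy : y ∈ G) (hN : y⁻¹ * F y ∈ X.NN)
    (hs : StS α (Pt F G m r (X.conj hy hN).T)) (_ : Fintype (centralizer (Pt F G m r (X.conj hy hN).T : Set ↥(GF (F ^ m) G))))
    (b : Set (IrrCharacter (centralizer (Pt F G m r (X.conj hy hN).T : Set ↥(GF (F ^ m) G))))),
      Pre l r M α B (Pt F G m r (X.conj hy hN).T) (Pt F G m l (X.conj hy hN).T) hs.cen.res b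

/-- **the interface of the rows, with the top pair** -/
def BoxLieP : Prop := Unif fun {_} _ _ _ _ {Y} _ _ _ _ _ {F} {G} _ X _ _ l r m _ α M =>
  ∀ (Z : Subgroup Y) (B : Set (IrrCharacter ↥(GF (F ^ m) G))), Z ≤ Zc X {a | X.Rt a} → IsPBlock M B → StB α B →
    HZr l (Pt F G m l Z) B → ∃ y, ∃ (hy : y ∈ G) (hN : y⁻¹ * F y ∈ X.NN) (hs : StS α (Pt F G m r (X.conj hy hN).T))
      (_ : Fintype (centralizer (Pt F G m r (X.conj hy hN).T : Set ↥(GF (F ^ m) G))))
      (b : Set (IrrCharacter (centralizer (Pt F G m r (X.conj hy hN).T : Set ↥(GF (F ^ m) G))))) (D S : Subgroup ↥(GF (F ^ m) G)),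
        OuP l r M α B (Pt F G m l Z) D (Pt F G m r (X.conj hy hN).T) (Pt F G m l (X.conj hy hN).T) S hs.cen.res b

theorem boxLie0_of (TA : BoxTA) (T2 : BoxT2) : BoxLie0 := by
  intro p _ q d l n c hq
  refine ((((boxW1 p q d l n c hq).and (TA p q d l n c hq)).and (T2 p q d l n c hq)).and (Lg.gt (c + p))).mono ?_
  rintro m ⟨⟨⟨w1, ta⟩, t2⟩, hm⟩ r hr k _ _ Y _ N _ _ ρ F G _ X hX _ n' N' α M hF hM B hB sB
  have hmr := hr.mr
  have hW : Nat.card X.W < r := by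
    have := hX.w
    omega
  obtain ⟨P, hs, _, b, H⟩ := boxOs.ex (hF.fr r hr.rp hmr) hM B hB sB
  have hFP : ∀ z ∈ Subtype.val '' (P : Set (GF (F ^ m) G)), F z ∈ Subtype.val '' (P : Set (GF (F ^ m) G)) := by
    rintro _ ⟨a, ha, rfl⟩
    exact ⟨α a, (hs a).2 ha, hF.cm a⟩
  obtain ⟨y, hy, hN, h1⟩ := Gl.frame X hr.rp (by omega) hW (by omega) H.rp hFP
  obtain ⟨C, X', hX', hCG, hT, hNN, hC, hP0⟩ := Gl.levi _ (Gl.cs_conj X hX hy hN) hr.rp hW H.rp rfl h1 hFP
  obtain ⟨y', hy', hN', h2, h3⟩ := Gl.core X' hr.rp hmr hF hM H hCG hC hP0 fun n' N' α hF => ta r hr X' hX' n' N' α M hF hM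
  have hN2 : (y' * y)⁻¹ * F (y' * y) ∈ X.NN := by
    have h4 := hNN hN'
    rw [X.conj_NN, mem_cj] at h4
    convert mul_mem h4 hN using 1
    rw [map_mul]
    group
  have hy2 := mul_mem (hCG hy') hy
  rw [hT, X.conj_T, ← cj_mul, ← X.conj_T hy2 hN2] at h2 h3
  have t := t2 r hr X hX n' N' α M hF hM B P _ b H
  subst h2
  have w := w1 r hr _ (Gl.cs_conj X hX hy2 hN2) n' N' α M hF hM
  refine ⟨y' * y, hy2, hN2, hs, inferInstance, b, H, h3, ⟨Gl.pg_Pt _ le_rfl, Gl.comm_Pt _,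
    boxSt.grp (hF.fr r hr.rp hmr).toGl _ (Gl.pg_Pt _ le_rfl) fun g => ?_⟩, Gl.comm_Pt _,
    (inf_le_inf_left _ (centralizer_le (Gl.mono_Pt (Z0_le_T _ _)))).trans w, t⟩
  rw [Gl.mem_Pt _ le_rfl, Gl.mem_Pt _ le_rfl, hF.cm, Datum.F_mem_T_iff]
  simp only [← map_pow, map_eq_one_iff _ α.injective]

theorem boxLieP_of0 (h : BoxLie0) : BoxLieP := by
  intro p _ q d l n c hq
  refine (h p q d l n c hq).mono ?_
  intro m h r hr k _ _ Y _ N _ _ ρ F G _ X hX _ n' N' α M hF hM Z B hZ hB sB hz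
  obtain ⟨y, hy, hN, hs, i, b, H⟩ := h r hr X hX n' N' α M hF hM B hB sB
  exact ⟨y, hy, hN, hs, i, b, H.out (hF.fr r hr.rp hr.mr) hM (Gl.cen_Pt X hZ) (Gl.pg_Pt X fun _ h => (hZ h).1) hz⟩

/-- **the glue** -/
theorem boxLieP_of (TA : BoxTA) (T2 : BoxT2) : BoxLieP := boxLieP_of0 (boxLie0_of TA T2)

theorem BoxLieP.lie (h : BoxLieP) : BoxLie := by
  intro p _ q d l n c hq
  refine (h p q d l n c hq).mono ?_
  intro m h r hr k _ _ Y _ N _ _ ρ F G _ X hX _ n' N' α M hF hM Z B hZ hB sB hz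
  obtain ⟨y, hy, hN, hs, i, b, D, S, H⟩ := h r hr X hX n' N' α M hF hM Z B hZ hB sB hz
  exact ⟨y, hy, hN, D, S, H.dfB, H.toOu⟩

end Cfsg.Agent.BZ.L
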