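import Cfsg.Agent.BZ.L.Lie
import Cfsg.Agent.HZ.L.Reg.Dat

/-!
# BZ / L : the class `Cs` is closed under the usual constructions (helper60)

`Cs.mono`, `Cs.conj`, `Cs.sub`, `Cs.lvl`, `Cs.pow`, `Cs.dd`.
-/

set_option autoImplicit false
set_option linter.unusedSectionVars false

namespace Cfsg.Agent.BZ.L

open Cfsg Cfsg.Agent.DL Cfsg.Agent.KM Cfsg.Agent.Tits.Roots

variable {p : ℕ} [Fact p.Prime] {k : Type} [Field k] [CharP k p] {Y : Type} [Group Y] {N : Type} [Fintype N]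
  [DecidableEq N] {ρ : Y →* GL N k} {F : MulAut Y} {G : Subgroup Y} [IsAlgClosed k] {X : Datum p ρ F G} {q n c : ℕ}

theorem Cs.mono (h : Cs X q n c) {c' : ℕ} (hc : c ≤ c') : Cs X q n c' :=
  ⟨h.n0, h.lq, h.ex, h.w.trans hc, h.rt.trans hc, h.rk.trans hc⟩

/-- the normalised matrices -/
theorem Cs.mat (h : Cs X q n c) (w : X.W) : ∃ A : Matrix X.R X.R ℤ, X.Wm w * X.Mx = (q : ℤ) • A ∧ A ^ n = 1 :=
  (h.lq w).imp fun A hA => ⟨hA.1, by simpa using hA.2⟩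

theorem Cs.of_mat (n0 : 0 < n) (h : ∀ w, ∃ A : Matrix X.R X.R ℤ, X.Wm w * X.Mx = (q : ℤ) • A ∧ A ^ n = 1)
    (ex : ∀ a, X.Rt a → p ^ X.ex a = q) (w : Nat.card X.W ≤ c) (rt : {a | X.Rt a}.ncard ≤ c) (rk : Fintype.card X.R ≤ c) :
    Cs X q n c :=
  ⟨n0, fun v => (h v).imp fun A hA => ⟨hA.1, by simpa using hA.2⟩, ex, w, rt, rk⟩

theorem Cs.mono_n (h : Cs X q n c) {n' : ℕ} (h0 : 0 < n') (hn : n ∣ n') : Cs X q n' c := by
  obtain ⟨j, rfl⟩ := hn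
  exact .of_mat h0 (fun w => (h.mat w).imp fun A hA => ⟨hA.1, by rw [pow_mul, hA.2, one_pow]⟩) h.ex h.w h.rt h.rk

namespace CsA

theorem conj_Wm {y : Y} (hy : y ∈ G) (hN : y⁻¹ * F y ∈ X.NN) (w : X.W) : (X.conj hy hN).Wm w = X.Wm w := by
  obtain ⟨m, hm, -⟩ := X.exists_rp w
  refine mon_inj (k := k) fun a => (X.conj hy hN).τ_inj ?_
  rw [← (X.conj hy hN).conj_τ ((X.conj_rp_iff hy hN).2 hm), X.conj_tau, X.conj_tau, ← X.conj_τ hm]
  group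

theorem sub_Wm {Z : Set Y} (hZ : Z ⊆ X.T) (hF : ∀ a ∈ X.Sz Z, X.g a ∈ X.Sz Z) {C : Subgroup Y} (hC : X.cen Z = C)
    (v : (X.sub hZ hF hC).W) : (X.sub hZ hF hC).Wm v = X.Wm (X.subW Z v) := by
  obtain ⟨m, hm, -⟩ := (X.sub hZ hF hC).exists_rp v
  exact mon_inj (k := k) fun c => X.τ_inj
    (((X.sub hZ hF hC).conj_τ hm c).symm.trans (X.conj_τ (X.rp_of_sub hZ hF hC hm) c))

theorem pow_Wm {m : ℕ} (hm : 0 < m) (w : X.W) : (X.pow hm).Wm w = X.Wm w := rfl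

theorem card_I_le : Fintype.card X.I ≤ {a | X.Rt a}.ncard := by
  have h1 : Function.Injective (sr : X.I → X.I → ℤ) := fun i j e => by
    by_contra h
    have := congrFun e i
    simp [sr, Pi.single_eq_of_ne h] at this
  rw [← Nat.card_eq_fintype_card, ← Set.ncard_range_of_injective h1]
  exact Set.ncard_le_ncard (by rintro _ ⟨i, rfl⟩; exact isRoot_sr _ _ i) X.finite_roots

/-- `F` is divisible by `q` and has the level of `q` -/
theorem mat_of_lvl {f : ℕ} (L : PP.Lvl X n (f * n)) {B : Matrix X.R X.R ℤ} (hB : X.Mx = ((p ^ f : ℕ) : ℤ) • B) (w : X.W) :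
    ∃ A : Matrix X.R X.R ℤ, X.Wm w * X.Mx = ((p ^ f : ℕ) : ℤ) • A ∧ A ^ n = 1 := by
  have h0 : (p : ℤ) ^ (f * n) ≠ 0 := pow_ne_zero _ (Nat.cast_ne_zero.2 (Fact.out : p.Prime).ne_zero)
  refine ⟨X.Wm w * B, by rw [hB, mul_smul_comm], smul_right_injective _ h0 ?_⟩
  have h1 := L.pow w
  rw [hB, mul_smul_comm, smul_pow, Nat.cast_pow, ← pow_mul] at h1
  exact h1

end CsA

/-- the conjugate frames -/
theorem Cs.conj (h : Cs X q n c) {y : Y} (hy : y ∈ G) (hN : y⁻¹ * F y ∈ X.NN) : Cs (X.conj hy hN) q n c :=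
  .of_mat h.n0 (fun w => by
    rw [CsA.conj_Wm, X.conj_Mx, ← mul_assoc, ← X.Wm_mul]
    exact h.mat _) h.ex h.w h.rt h.rk

/-- the connected centralisers -/
theorem Cs.sub (h : Cs X q n c) {Z : Set Y} (hZ : Z ⊆ X.T) (hF : ∀ a ∈ X.Sz Z, X.g a ∈ X.Sz Z) {C : Subgroup Y}
    (hC : X.cen Z = C) : Cs (X.sub hZ hF hC) q n c :=
  .of_mat h.n0 (fun v => by
    rw [CsA.sub_Wm]
    exact h.mat _) (fun a ha => h.ex _ ((X.sub_rt hZ hF hC).1 ha).1)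
    ((Nat.card_le_card_of_injective _ (X.subW_injective Z)).trans h.w)
    ((Set.ncard_le_ncard_of_injOn (X.io Z) (fun a ha => ((X.sub_rt hZ hF hC).1 ha).1) (X.io_injective Z).injOn
      X.finite_roots).trans h.rt) h.rk

/-- the level -/
theorem Cs.lvl {f : ℕ} (hf : 0 < f) (h : Cs X (p ^ f) n c) : PP.Lvl X n (f * n) :=
  ⟨h.n0, mul_pos hf h.n0, fun w => by
    obtain ⟨A, h1, h2⟩ := h.mat w
    rw [h1, smul_pow, h2, Nat.cast_pow, ← pow_mul]⟩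

theorem Cs.pow_mx (h : Cs X q n c) (j : ℕ) : X.Mx ^ (1 + n * j) = ((q : ℤ) ^ (n * j)) • X.Mx := by
  obtain ⟨A, h1, h2⟩ := h.mat 1
  rw [X.Wm_one, one_mul] at h1
  rw [h1, smul_pow, pow_add A, pow_mul A, h2, one_pow, mul_one, pow_one, smul_smul, ← pow_succ, add_comm]

/-- the powers -/
theorem Cs.pow (h : Cs X q n c) {m : ℕ} (hm : 0 < m) (e : m ≡ 1 [MOD n]) : Cs (X.pow hm) (q ^ m) n c := by
  obtain ⟨j, hj⟩ := (Nat.modEq_iff_dvd' hm).1 e.symm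
  obtain rfl : m = 1 + n * j := by omega
  refine .of_mat h.n0 (fun w => (h.mat w).imp fun A hA => ⟨?_, hA.2⟩) (fun a ha => ?_) h.w h.rt h.rk
  · show X.Wm w * X.Mx ^ (1 + n * j) = _
    rw [h.pow_mx, mul_smul_comm, hA.1, smul_smul, Nat.cast_pow, ← pow_succ, add_comm]
  · show p ^ ∑ i ∈ Finset.range (1 + n * j), X.ex (X.g^[i] a) = _
    rw [← Finset.prod_pow_eq_pow_sum, Finset.prod_congr rfl fun i _ => h.ex _ (X.iterate_g_root i ha), Finset.prod_const,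
      Finset.card_range]

/-- the regular embedding -/
theorem Cs.dd (hq : ∃ f, 0 < f ∧ q = p ^ f) (h : Cs X q n c) : Cs (HZ.L.Reg.DD X) q n (2 * c) := by
  obtain ⟨f, hf, rfl⟩ := hq
  obtain ⟨B, hB, -⟩ := h.mat 1
  rw [X.Wm_one, one_mul] at hB
  choose a h1 h2 using fun i => X.g_surj (isRoot_sr X.cs X.h i)
  have h3 : HZ.L.Reg.Qm X = ((p ^ f : ℕ) : ℤ) • Matrix.of a := Matrix.ext fun i => congrFun (by
    show X.ψ (sr i) = ((p ^ f : ℕ) : ℤ) • a i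
    rw [← h2, X.ψ_g (h1 i), ← h.ex _ (h1 i), Nat.cast_pow])
  refine .of_mat h.n0 (CsA.mat_of_lvl (HZ.L.Reg.lvl_DD X (h.lvl hf)) (B := Matrix.fromBlocks B 0 0 (Matrix.of a)) ?_) h.ex
    (h.w.trans (by omega)) (h.rt.trans (by omega)) ?_
  · rw [Matrix.fromBlocks_smul, smul_zero, smul_zero, ← h3, ← hB]
  · have h4 := (CsA.card_I_le (X := X)).trans h.rt
    have h5 := h.rk
    show Fintype.card (X.R ⊕ X.I) ≤ _
    rw [Fintype.card_sum]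
    omega

end Cfsg.Agent.BZ.L
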