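import Cfsg.Agent.BZ.L.Defs
import Cfsg.Agent.BZ.Lab.BC2
import Cfsg.Agent.BZ.Lab.Mono
import Cfsg.Agent.BZ.Lab.Start
import Cfsg.Agent.KM.Ht.R
import Cfsg.Agent.H597.Degrees
import Cfsg.Agent.H639.Cen

/-!
# BZ / L : small `r`-defects pass to the blocks of the centralisers (helper83)

* `Sb.key`, `Sb.sees_le`, `Sb.tt_of` : the `r`-defect of a stable character is the largest order of a subgroup which it sees;
* `boxSub`.
-/

set_option autoImplicit false
set_option linter.unusedSectionVars false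

namespace Cfsg.Agent.BZ.L

open Cfsg Subgroup Cfsg.Agent.HZ.Gen Cfsg.Agent.KM Cfsg.Agent.BZ.Lab Cfsg.Agent.Characters Cfsg.Agent.Characters.Core
  Cfsg.Agent.Blocks Cfsg.Agent.Blocks.Basic Cfsg.Agent.OddOrderCharacters.VChar Cfsg.Agent.H662 Cfsg.Agent.Blocks.Local

namespace Sb

variable {l r m n N j : ℕ} {K L : Type} [Group K] [Fintype K] [Group L] [Fintype L] {M : Ideal AlgInt}
  {α : MulAut K} {β : MulAut L} {ι : L →* K} {P : Subgroup K}

theorem fac_le {A K : Type} [Group A] [Group K] [Finite K] {f : A →* K} (hf : Function.Injective f) :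
    (Nat.card A).factorization r ≤ (Nat.card K).factorization r :=
  have := Finite.of_injective f hf
  Nat.factorization_le_factorization_of_dvd_right (card_dvd_of_injective f hf) Nat.card_pos.ne' Nat.card_pos.ne'

/-- a tight constituent determines the `r`-defect -/
theorem key (h : Fr l r m n N K α) (hP : IsPGroup r P) (hι : Function.Injective ι) (hL : ι.range = centralizer (P : Set K))
    {ξ : IrrCharacter K} {ψ : IrrCharacter L} (hξ : St α (ξ : K → ℂ)) (ht : Tight r ι P (ψ : L → ℂ))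
    (h0 : classInner (rs r P ξ ∘ ι) ψ ≠ 0) :
    (charDegree (ξ : K → ℂ)).factorization r + (Nat.card P).factorization r = (Nat.card K).factorization r := by
  have : Fact r.Prime := ⟨h.rp⟩
  obtain ⟨R, hR⟩ := ExistsModular.exists_isPModular h.rp
  have := isPrime_of_isPModular hR
  have := Fintype.ofFinite (centralizer (P : Set K))
  obtain ⟨e, he⟩ := Ob.exists_e hι hL
  have h1 := boxSt.rat h ξ hξ
  have hD := Ob.dfg h.bg h.bdr hP h1 hR (Ob.tight_tr e he ht) (Ob.ind_of h.bg h.bdr hP h1 hR rfl e he h0)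
  have h2 := H648.HeightForm.defect_add (p := r) _ (mem_blockOf_self (M := R) ξ)
  rw [Ht.R23.hz hR (isPBlock_blockOf ξ) hD ⟨⟨fun a b => Subtype.ext (h.bg.ab' hP b.2 a a.2)⟩⟩ ((h.bg.nor' hP).trans_lt h.nr)
    (mem_blockOf_self ξ), ← H592.Defect.factorization_card_defect r hR (isPBlock_blockOf ξ) hD] at h2
  omega

/-- a subgroup which is seen is small -/
theorem sees_le (h : Fr l r m n N K α) (hP : IsPGroup r P) (hs : StS α P) {ξ : IrrCharacter K} (hξ : St α (ξ : K → ℂ))
    (h0 : Sees r P (ξ : K → ℂ)) :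
    (charDegree (ξ : K → ℂ)).factorization r + (Nat.card P).factorization r ≤ (Nat.card K).factorization r := by
  have : Fact r.Prime := ⟨h.rp⟩
  have := Fintype.ofFinite (centralizer (P : Set K))
  have e := hs.cen.emb
  have hL := range_subtype (centralizer (P : Set K))
  have h1 := boxSt.rat h ξ hξ
  obtain ⟨ψ, h2⟩ := h0.ex h hP e.inj hL hξ
  have hψ := con_rs boxSt h hP hs e hL hξ h2
  rcases exists_root boxSt boxOrb h hP e hL hψ fun a ha g => h.bg.rs_ker hP h1 h.bdr e.inj hL ψ.2 h2 ha g with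
    h3 | ⟨P₁, h3, h4, h5, i, φ, h6, h7⟩
  · exact (key h hP e.inj hL hξ h3 h2).le
  · refine le_trans (Nat.add_le_add_left (fac_le (inclusion_injective h5.le)) _) (key h (h3.map _) (e.comp h4.cen.emb).inj
      (range_comp e.inj hL h5.le) hξ ⟨fun a ha => h6.1 a ((mem_map_iff_mem e.inj).1 ha), ?_⟩
      (boxOrb.link h.rp h.bg h.bdr hP e.inj hL h3 h5.le (subtype_injective _) (range_subtype _) h1
        (boxSt.rat (h.sub e) ψ hψ) h6 h2 h7)).le
    rw [h6.2, card_map_of_injective e.inj]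

theorem tt_of (h : Fr l r m n N K α) {ξ : IrrCharacter K} (hξ : St α (ξ : K → ℂ))
    (h0 : ∀ R : Subgroup K, IsPGroup r R → StS α R → Sees r R (ξ : K → ℂ) → (Nat.card R).factorization r ≤ j) : Si.Tt r j ξ := by
  have : Fact r.Prime := ⟨h.rp⟩
  obtain ⟨R, hR⟩ := ExistsModular.exists_isPModular h.rp
  have := isPrime_of_isPModular hR
  obtain ⟨D, h1, h2⟩ := boxSt.dfg h.toGl r R hR ξ hξ
  have := Fintype.ofFinite (centralizer (D : Set K))
  obtain ⟨φ, -, h3⟩ := boxOrb.root hR h.bg h.bdr ξ D (boxSt.rat h ξ hξ) h1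
  exact (H592.Defect.le_degree_add r hR (isPBlock_blockOf ξ) h1 (mem_blockOf_self ξ)).trans
    (Nat.add_le_add_left (h0 D (isPGroup_of_isDefectGroup h1) h2 (sees_of (range_subtype _) h3)) _)

/-- one step -/
theorem step (h : Fr l r m n N K α) (hM : IsPModular l M) (e : Emb ι β α) {t : L} (ht : ∃ k, orderOf t = l ^ k)
    (hC : ι.range = centralizer {ι t}) {χ : IrrCharacter K} {η : IrrCharacter L} (hχ : St α (χ : K → ℂ)) (hη : St β (η : L → ℂ))
    (hu : Up l M ι η χ) (hx : Mx r j (blockOf M (χ : K → ℂ))) : Mx r j (blockOf M (η : L → ℂ)) := fun η' h4 => by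
  have : Fact r.Prime := ⟨h.rp⟩
  have := isPrime_of_isPModular hM
  have h' := h.sub e
  have h6 := boxSt.blk h'.toGl hM η hη η' h4
  refine tt_of h' h6 fun P' h2 h3 h5 => ?_
  obtain ⟨Q, h7, h8, h9, h10⟩ := Mo.sees_one h' h2 h3 h6 h5
  have h11 : t ∈ center L := mem_center_iff.2 fun y => e.inj (by
    rw [map_mul, map_mul]; exact mem_cen.1 (hC ▸ ⟨y, rfl⟩ : ι y ∈ centralizer {ι t}))
  have h12 : ι t ∈ centralizer ((Q.map ι : Subgroup K) : Set K) := by
    rintro _ ⟨a, -, rfl⟩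
    rw [← map_mul, mem_center_iff.1 h11 a, map_mul]
  obtain ⟨_, ⟨a, ha, rfl⟩, h13⟩ := h.bg.exists_gn (h8.map ι) h.nr h12
  have h14 := gn_central (inv_mem h11) (gn_map e.inj (g := a * t) (by rwa [map_mul]))
  rw [← cen_map e.inj, mem_center_iff.1 h11 a, inv_mul_cancel_left, ← mul_one a] at h14
  rw [h'.bg.rs_eq h8 (boxSt.rat h' η' h6) h.bdr (one_mem _) ha h14, mul_one] at h10
  obtain ⟨ξ, h15, h16⟩ := Mo.sec_ne hM e.inj ht hC (boxUp.congr hM h4 (sameBlock_refl _) hu)
    (not_dvd_of_r h.lp h.rp h.ne (ord_of_mem h8 ha)) h10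
  have h17 := boxSt.blk h.toGl hM χ hχ ξ h15
  have h18 := sees_le h (h8.map ι) (h9.map e) h17 ⟨ι t, h12, by
    rwa [h.bg.rs_eq (h8.map ι) (boxSt.rat h ξ h17) h.bdr h12 ⟨a, ha, rfl⟩ h13, h12 _ ⟨a, ha, rfl⟩]⟩
  have h19 : (Nat.card K).factorization r ≤ _ := hx ξ h15
  have h20 := fac_le (r := r) (inclusion_injective h7)
  rw [card_map_of_injective e.inj] at h18
  omega

/-- the normal core of a subgroup which contains the `l`-regular elements -/
theorem core (hl : l.Prime) (hr : r.Prime) (hne : l ≠ r) {S : Subgroup K} (h : ∀ y, ¬ l ∣ orderOf y → y ∈ S) :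
    (∀ y, ¬ l ∣ orderOf y → y ∈ S.normalCore) ∧ ¬ r ∣ S.normalCore.index := by
  have : Fact r.Prime := ⟨hr⟩
  have h1 : ∀ y, ¬ l ∣ orderOf y → y ∈ S.normalCore := fun y hy g => h _ (by rwa [ord_conj])
  obtain ⟨R⟩ : Nonempty (Sylow r K) := inferInstance
  exact ⟨h1, fun h2 => R.not_dvd_index (h2.trans (index_dvd_of_le fun y hy =>
    h1 y (not_dvd_of_r hl hr hne (ord_of_mem R.2 hy))))⟩

theorem under (ι : L →* K) (χ : IrrCharacter K) : ∃ θ : IrrCharacter L, classInner ((χ : K → ℂ) ∘ ι) θ ≠ 0 := by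
  by_contra h
  push Not at h
  have h1 := congrFun (classFunction_eq_zero (gen_isClassFunction (gen_comp ι (gen_of_irr χ.2))) fun θ hθ => h ⟨θ, hθ⟩) 1
  rw [Function.comp_apply, map_one] at h1
  exact irr_one_ne_zero χ.2 h1

theorem deg (hι : Function.Injective ι) [ι.range.Normal] {χ : IrrCharacter K} {θ : IrrCharacter L}
    (h : classInner ((χ : K → ℂ) ∘ ι) θ ≠ 0) : ∃ c, c ∣ ι.range.index ∧ (charDegree (χ : K → ℂ)).factorization r =
      (charDegree (θ : L → ℂ)).factorization r + c.factorization r := by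
  have := Fintype.ofFinite ι.range
  obtain ⟨e, he⟩ := Ob.exists_e hι rfl
  obtain ⟨c, h1, h2⟩ := H597.Degrees.degree_over ι.range χ.2 (tr e θ).2 (by rwa [← Ob.inner_e e he] at h)
  refine ⟨c, h2, ?_⟩
  rw [h1, Ob.deg_tr, Nat.factorization_mul (charDegree_pos θ.2).ne' (ne_zero_of_dvd_ne_zero index_ne_zero_of_finite h2),
    Finsupp.add_apply]

/-- all `l`-regular elements lie in the subgroup -/
theorem base (hM : IsPModular l M) (hr : r.Prime) (hne : l ≠ r) (hι : Function.Injective ι)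
    (h : ∀ y, ¬ l ∣ orderOf y → y ∈ ι.range) {χ : IrrCharacter K} {η : IrrCharacter L} (hu : Up l M ι η χ)
    (hx : Mx r j (blockOf M (χ : K → ℂ))) : Mx r j (blockOf M (η : L → ℂ)) := fun μ hμ => by
  have := isPrime_of_isPModular hM
  obtain ⟨h1, h2⟩ := core hM.1 hr hne h
  set S := ι.range.normalCore
  have := Fintype.ofFinite S
  obtain ⟨f, hf⟩ := exists_lift hι ι.range.normalCore_le
  have h3 : ι.comp f = S.subtype := MonoidHom.ext hf
  have h4 : Function.Injective f := fun a b e => Subtype.ext (by rw [← hf, e, hf])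
  have h5 : f.range = S.comap ι := by
    ext y
    exact ⟨fun ⟨a, e⟩ => by rw [mem_comap, ← e, hf]; exact a.2, fun e => ⟨⟨_, e⟩, hι (hf _)⟩⟩
  have : f.range.Normal := h5 ▸ inferInstance
  have : S.subtype.range.Normal := (range_subtype S).symm ▸ inferInstance
  obtain ⟨θ, h6⟩ := under f μ
  obtain ⟨ξ, hξ, h7⟩ := H710.Gow.Star.exists_over (subtype_injective S) θ.2
  have h8 := boxUp.trans hM h4 (boxUp.nrm hM h4 (fun y hy => h5 ▸ h1 _ (by rwa [orderOf_injective ι hι])) h6) hι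
    (boxUp.congr hM hμ (sameBlock_refl _) hu)
  have h9 : (Nat.card K).factorization r ≤ _ := hx ⟨ξ, hξ⟩ (boxUp.uniq hM (h3 ▸ h8)
    (boxUp.nrm hM (subtype_injective S) (fun y hy => (range_subtype S).symm ▸ h1 y hy) (χ := ⟨ξ, hξ⟩) h7))
  obtain ⟨c, h10, h11⟩ := deg (r := r) (subtype_injective S) (χ := ⟨ξ, hξ⟩) h7
  obtain ⟨c', -, h12⟩ := deg (r := r) h4 h6
  rw [range_subtype] at h10
  rw [Nat.factorization_eq_zero_of_not_dvd fun e => h2 (e.trans h10)] at h11
  have h13 := fac_le (r := r) hι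
  unfold Si.Tt
  omega

theorem chain (hM : IsPModular l M) {η : IrrCharacter L} (hη : St β (η : L → ℂ)) (k : ℕ) :
    ∀ {K : Type} [Group K] [Fintype K] {α : MulAut K} {ι : L →* K} {Q : Subgroup K} {χ : IrrCharacter K}, Nat.card K = k →
      Fr l r m n N K α → Fx l α Q → Emb ι β α → Ac l Q ι.range → Up l M ι η χ → Mx r j (blockOf M (χ : K → ℂ)) →
        Mx r j (blockOf M (η : L → ℂ)) := by
  induction k using Nat.strong_induction_on with | _ k ih => ?_
  intro K _ _ α ι Q χ hk h hQ e hA hu hx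
  have : Fact l.Prime := ⟨h.lp⟩
  have := isPrime_of_isPModular hM
  by_cases hc : Q ≤ center K
  · exact base hM h.rp h.ne e.inj (fun y => hA.2 y fun q hq => (mem_center_iff.1 (hc hq) y).symm) hu hx
  obtain ⟨t, ht, h1⟩ := SetLike.not_le_iff_exists.1 hc
  have h2 := hQ.fix t ht
  let D := centralizer ({t} : Set K)
  have := Fintype.ofFinite D
  have hD : StS α D := fun g => by
    simp only [D, mem_centralizer_singleton_iff]
    rw [← α.apply_eq_iff_eq (x := g * t), map_mul, map_mul, h2]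
  have h3 : Q ≤ D := fun a ha => mem_cen.2 (hQ.ab ht a ha)
  have h4 : ∀ y, ι y ∈ D := fun y => mem_cen.2 (hA.1 ⟨y, rfl⟩ t ht).symm
  let κ : L →* D := ι.codRestrict D h4
  have e' : Emb κ β hD.res := ⟨fun a b h5 => e.inj (congrArg Subtype.val h5), fun y => Subtype.ext (e.cm y)⟩
  have h5 : Ac l (Q.subgroupOf D) κ.range := ⟨fun _ ⟨y, h5⟩ => h5 ▸ (Cur.mem_cen_sub h3).2 (hA.1 ⟨y, rfl⟩), fun y hy hl =>
    (hA.2 y ((Cur.mem_cen_sub h3).1 hy) (by rwa [orderOf_coe])).imp fun _ h5 => Subtype.ext h5⟩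
  have hlt : Nat.card D < k := by
    rw [← hk]
    refine lt_of_le_of_ne (card_le_card_group D) fun h6 => h1 (mem_center_iff.2 fun g => ?_)
    exact mem_cen.1 ((eq_top_of_card_eq D h6).symm ▸ mem_top g : g ∈ D)
  have h6 : ∃ i, orderOf t = l ^ i := ord_of_mem hQ.pg ht
  obtain ⟨φ, h7⟩ := boxUp.ex hM e'.inj ⟨_, hQ.pg.comap_subtype, h5⟩ η
  obtain ⟨χ', h8⟩ := boxUp.ex hM (subtype_injective D) ⟨zpowers t, IsPGroup.of_card (by rw [Nat.card_zpowers, h6.choose_spec]), by
    rw [range_subtype, zpowers_eq_closure, centralizer_closure]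
    exact ⟨le_rfl, fun _ h _ => h⟩⟩ φ
  have h9 := boxUp.congr hM (sameBlock_refl _) (boxUp.uniq hM (boxUp.trans hM e'.inj h7 (subtype_injective D) h8) hu) h8
  exact ih _ hlt rfl (h.sub hD.emb) ⟨hQ.pg.comap_subtype, fun y hy => (Cur.mem_cen_sub h3).2 (hQ.ab hy),
    fun x hx => Subtype.ext (hQ.fix x hx)⟩ e' h5 h7 (step h hM hD.emb (t := ⟨t, h3 ht⟩) (by rwa [orderOf_mk]) (range_subtype D)
      (Start.st_of_up boxUp h.toGl hM e hη hu) (Start.st_of_up boxUp (h.toGl.sub hD.emb) hM e' hη h7) h9 hx)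

end Sb

open Sb in
/-- **[Sub]** -/
theorem boxSub : BoxSub where
  sub := fun h hM hB _ hx hQ e hA _ hη ⟨_, h1, h2⟩ =>
    have := isPrime_of_isPModular hM
    chain hM hη _ rfl h hQ e hA h2 (isPBlock_eq_blockOf hB h1 ▸ hx)
  mx := fun {l r m n N j K} _ _ {α M B D A R} h hM hB hs hx hD hf hA hab hR h1 h2 => by
    have := isPrime_of_isPModular hM
    have : Fact r.Prime := ⟨h.rp⟩
    obtain ⟨χ, rfl⟩ := hB
    obtain ⟨J, _, _, γ, κ, φ, e, hκ, h3, h4⟩ := Start.pc_all boxSt boxUp h.toGl hM (hs χ (mem_blockOf_self χ)) hD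
      (StS.of_fix hf) A hA
    have h5 : (Nat.card J).factorization r ≤ _ := chain hM h3 _ rfl h ⟨(isPGroup_of_isDefectGroup hD).to_le hA, hab,
      fun x hx => hf x (hA hx)⟩ e ⟨hκ.le, fun y hy _ => hκ.ge hy⟩ h4 hx φ (mem_blockOf_self φ)
    obtain ⟨h6, h7⟩ := core h.lp h.rp h.ne (S := (centralizer (R : Set K)).comap κ) fun y hy =>
      h2 _ (hκ.le ⟨y, rfl⟩) (by rwa [orderOf_injective κ e.inj])
    set S := ((centralizer (R : Set K)).comap κ).normalCore
    have := Fintype.ofFinite S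
    have : S.subtype.range.Normal := (range_subtype S).symm ▸ inferInstance
    obtain ⟨θ, h8⟩ := under S.subtype φ
    obtain ⟨c, h9, h10⟩ := deg (r := r) (subtype_injective S) h8
    rw [range_subtype] at h9
    rw [Nat.factorization_eq_zero_of_not_dvd fun e => h7 (e.trans h9)] at h10
    have hi : Function.Injective (κ.comp S.subtype) := e.inj.comp (subtype_injective S)
    have h11 : R ≤ (κ.comp S.subtype).range := fun x hx => by
      obtain ⟨y, rfl⟩ := hκ.ge (h1 hx)
      exact ⟨⟨y, h6 y (not_dvd_of_r h.lp h.rp h.ne (orderOf_injective κ e.inj y ▸ ord_of_mem hR hx))⟩, rfl⟩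
    have h12 := Nat.factorization_le_factorization_of_dvd_right (a := r) (H639.charDegree_dvd_index
      (D := R.comap (κ.comp S.subtype)) (fun x hx => mem_center_iff.2 fun y => hi (by
        rw [map_mul, map_mul]
        exact (normalCore_le _ y.2 _ hx).symm)) θ) (charDegree_pos θ.2).ne' index_ne_zero_of_finite
    have h13 := congrArg (·.factorization r) (R.comap (κ.comp S.subtype)).card_mul_index
    have h14 := congrArg (·.factorization r) S.card_mul_index
    simp only [Nat.factorization_mul Nat.card_pos.ne' index_ne_zero_of_finite, Finsupp.add_apply,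
      Nat.factorization_eq_zero_of_not_dvd h7] at h13 h14
    rw [← card_map_of_injective hi, map_comap_eq_self h11] at h13
    rw [H592.Defect.card_eq_pow_factorization r hR]
    exact Nat.pow_le_pow_right h.rp.pos (by omega)

end Cfsg.Agent.BZ.L
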