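import Cfsg.Agent.BZ.L.Defs
import Cfsg.Agent.BZ.Lab.BC2
import Cfsg.Agent.BZ.Lab.Start

/-!
# BZ / L : the descent to the centraliser of an abelian `l`-subgroup (helper57)

* `Y.up_of_sec` : the second main theorem for the functional `Y.sf`;
* `Y.step` : the centraliser of one element;  `boxY_of`.
-/

set_option autoImplicit false
set_option linter.unusedSectionVars false

namespace Cfsg.Agent.BZ.L

open Cfsg Subgroup Cfsg.Agent.HZ.Gen Cfsg.Agent.Characters Cfsg.Agent.Characters.Core Cfsg.Agent.Blocks Cfsg.Agent.Blocks.Basic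
  Cfsg.Agent.Blocks.Local Cfsg.Agent.OddOrderCharacters.VChar Cfsg.Agent.BZ.Lab
open scoped ComplexConjugate

namespace Y

variable {l r m n N : ℕ} {K L C J : Type} [Group K] [Fintype K] [Group L] [Fintype L] [Group C] [Fintype C] [Group J] [Fintype J]
  {α : MulAut K} {β : MulAut L} {γ : MulAut C} {δ : MulAut J} {ι : L →* K} {κ : C →* K} {ι' : J →* C} {κ' : J →* L}
  {M : Ideal AlgInt} {B : Set (IrrCharacter K)} {P Q : Subgroup K} {b : Set (IrrCharacter L)}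

/-- the component of `φ` on the section of `t` -/
noncomputable def sf (l : ℕ) (κ' : J →* L) (t : J) (φ : J → ℂ) (f : L → ℂ) : ℂ := classInner (tc l fun v => f (κ' (t * v))) φ

theorem sf_sum {I : Type} (t : J) (φ : J → ℂ) (s : Finset I) (c : I → ℂ) (f : I → L → ℂ) :
    sf l κ' t φ (fun y => ∑ i ∈ s, c i * f i y) = ∑ i ∈ s, c i * sf l κ' t φ (f i) :=
  inner_tc_sum s c (fun i v => f i (κ' (t * v))) φ

theorem cen_of (hi : Function.Injective κ') {t : J} (h : κ'.range = centralizer {κ' t}) : t ∈ center J :=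
  mem_center_iff.2 fun c => hi (by
    rw [map_mul, map_mul]
    exact mem_cen.1 (h ▸ ⟨c, rfl⟩ : κ' c ∈ centralizer {κ' t}))

/-- **the second main theorem** -/
theorem up_of_sec (h : Gl l m N L β) (hM : IsPModular l M) (hi : Function.Injective κ') {t : J} (ht : ∃ k, orderOf t = l ^ k)
    (hr : κ'.range = centralizer {κ' t}) {φ : IrrCharacter J} {ψ : IrrCharacter L} (h0 : sf l κ' t φ ψ ≠ 0) : Up l M κ' φ ψ := by
  have := isPrime_of_isPModular hM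
  obtain ⟨T, c, h1, h2⟩ := boxSec (α := 1) (γ := 1) ⟨h.lp, h.mp, one_pow m, h.cop, h.syl, h.big⟩ hM ⟨hi, fun _ => rfl⟩ t rfl ht hr ψ
    fun _ => rfl
  rw [sf, tc_congr h2, inner_tc_sum T (fun η => (c η : ℂ)) fun η v => (η : J → ℂ) (t * v)] at h0
  obtain ⟨η, hη, h3⟩ := Finset.exists_ne_zero_of_sum_ne_zero h0
  refine boxUp.congr hM (by_contra fun h4 => right_ne_zero_of_mul h3 ?_) (sameBlock_refl _) (h1 η hη).2
  exact sec_zero boxUf hM (irr_isClassFunction η.2) (fun η' h5 => classInner_irr_ne η.2 η'.2 fun h6 =>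
    h4 (sameBlock_symm (h6 ▸ h5))) (cen_of hi hr)

theorem orb_symm {ψ ψ' : IrrCharacter L} (h : ψ' ∈ Orb ι P (ψ : L → ℂ)) : ψ ∈ Orb ι P (ψ' : L → ℂ) := by
  obtain ⟨g, hg, h1⟩ := h
  exact ⟨g⁻¹, inv_mem hg, fun y y' e => (h1 y' y (by rw [e]; group)).symm⟩

theorem orb_trans (hι : Function.Injective ι) (hL : ι.range = centralizer (P : Set K)) {ψ ψ' ψ'' : IrrCharacter L}
    (h : ψ' ∈ Orb ι P (ψ : L → ℂ)) (h' : ψ'' ∈ Orb ι P (ψ' : L → ℂ)) : ψ'' ∈ Orb ι P (ψ : L → ℂ) := by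
  obtain ⟨g, hg, h1⟩ := h
  obtain ⟨g', hg', h2⟩ := h'
  obtain ⟨σ, hσ⟩ := exists_aut hι hL hg
  exact ⟨g' * g, mul_mem hg' hg, fun y y' e => (h2 (σ y) y' (by rw [e, hσ]; group)).trans (h1 y _ (hσ y))⟩

/-- some orbit of members of `b` is seen on the section -/
theorem ex_orb (h : Gl l m N L β) (hM : IsPModular l M) (hι : Function.Injective ι) (hL : ι.range = centralizer (P : Set K))
    (hi : Function.Injective κ') {t : J} (ht : ∃ k, orderOf t = l ^ k) (hr : κ'.range = centralizer {κ' t}) (φ : IrrCharacter J) :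
    ∃ ψ : IrrCharacter L, Up l M κ' φ ψ ∧ ∀ T : Finset (IrrCharacter L), (∀ χ, χ ∈ T ↔ χ ∈ Orb ι P (ψ : L → ℂ)) →
      ∑ χ ∈ T, sf l κ' t φ χ ≠ 0 := by
  classical
  have := finite_irr (G := L)
  have := Fintype.ofFinite (IrrCharacter L)
  let F : L → ℂ := fun y => if ∃ g ∈ normalizer (P : Set K), ι y = g * ι (κ' t) * g⁻¹ then 1 else 0
  have hF : ∀ g ∈ normalizer (P : Set K), ∀ y y', ι y' = g * ι y * g⁻¹ → F y' = F y := fun g hg y y' e => if_congr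
    ⟨fun ⟨x, hx, e'⟩ => ⟨g⁻¹ * x, mul_mem (inv_mem hg) hx, by rw [mul_inv_rev, mul_assoc g⁻¹, mul_assoc g⁻¹, ← mul_assoc (x * _), ← e', e]; group⟩,
      fun ⟨x, hx, e'⟩ => ⟨g * x, mul_mem hg hx, by rw [e, e']; group⟩⟩ rfl rfl
  have hc : IsClassFunction L F := fun y x => hF (ι x) (centralizer_le_normalizer _ (hL ▸ ⟨x, rfl⟩)) _ _ (by
    rw [map_mul, map_mul, map_inv])
  have h1 : sf l κ' t φ F ≠ 0 := by
    rw [sf, classInner, Finset.sum_eq_single 1 (fun v _ hv => ?_) fun h2 => (h2 (Finset.mem_univ _)).elim,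
      tc_reg (by rw [orderOf_one, Nat.dvd_one]; exact h.lp.ne_one), mul_one,
      show F (κ' t) = 1 from if_pos ⟨1, one_mem _, by simp⟩, one_mul]
    · exact mul_ne_zero (inv_ne_zero card_ne_zero_complex) ((map_ne_zero _).2 (irr_one_ne_zero φ.2))
    by_cases e : l ∣ orderOf v
    · rw [tc_sing e, zero_mul]
    rw [tc_reg e, show F (κ' (t * v)) = 0 from if_neg ?_, zero_mul]
    rintro ⟨g, -, e'⟩
    obtain ⟨k, hk⟩ := ht
    have h2 := congrArg orderOf e'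
    rw [ord_conj, orderOf_injective ι hι, orderOf_injective ι hι, orderOf_injective κ' hi, orderOf_injective κ' hi] at h2
    have h3 := pow_orderOf_eq_one (t * v)
    rw [h2, Commute.mul_pow (mem_center_iff.1 (cen_of hi hr) v).symm, pow_orderOf_eq_one, one_mul, hk] at h3
    exact hv (orderOf_eq_one_iff.1 (Nat.eq_one_of_dvd_coprimes ((h.lp.coprime_iff_not_dvd.2 e).pow_left k)
      (orderOf_dvd_of_pow_eq_one h3) dvd_rfl))
  rw [show F = fun y => ∑ χ : IrrCharacter L, classInner F χ * (χ : L → ℂ) y from funext fun y => by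
      conv_lhs => rw [classFunction_eq_sum hc, Finset.sum_apply]
      rfl, sf_sum, ← Finset.sum_fiberwise_of_maps_to (g := fun χ : IrrCharacter L => Orb ι P (χ : L → ℂ))
      (t := Finset.univ.image fun χ : IrrCharacter L => Orb ι P (χ : L → ℂ)) fun χ hχ => Finset.mem_image_of_mem _ hχ] at h1
  obtain ⟨O, -, h2⟩ := Finset.exists_ne_zero_of_sum_ne_zero h1
  obtain ⟨ψ, h3, h4⟩ := Finset.exists_ne_zero_of_sum_ne_zero h2
  refine ⟨ψ, up_of_sec h hM hi ht hr (right_ne_zero_of_mul h4), fun T hT h5 => h2 ?_⟩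
  have h6 : ψ ∈ Orb ι P (ψ : L → ℂ) := ⟨1, one_mem _, fun y y' e => by rw [hι (e.trans (by simp) : ι y' = ι y)]⟩
  rw [← (Finset.mem_filter.1 h3).2, show (Finset.univ.filter fun χ : IrrCharacter L =>
      Orb ι P (χ : L → ℂ) = Orb ι P (ψ : L → ℂ)) = T from Finset.ext fun χ => by
    rw [Finset.mem_filter, hT]
    exact ⟨fun e => orb_symm (e.2 ▸ h6), fun e => ⟨Finset.mem_univ _, Set.ext fun χ' =>
      ⟨orb_trans hι hL e, orb_trans hι hL (orb_symm e)⟩⟩⟩, ← mul_zero (classInner F ψ), ← h5, Finset.mul_sum]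
  refine Finset.sum_congr rfl fun χ hχ => congrArg (· * _) ?_
  obtain ⟨g, hg, h7⟩ := (hT χ).1 hχ
  obtain ⟨σ, hσ⟩ := exists_aut hι hL hg
  rw [← H710.Gow.Star.inner_bij σ.toMonoidHom σ.bijective]
  exact congrArg₂ classInner (funext fun y => hF g hg _ _ (hσ y)) (funext fun y => h7 _ _ (hσ y))

theorem rng (hι : Function.Injective ι) (hκ : Function.Injective κ) (hL : ι.range = centralizer (P : Set K)) (hP : P ≤ κ.range)
    (hJ : ι'.range = centralizer ((P.comap κ : Subgroup C) : Set C)) (hc : ∀ y, ι (κ' y) = κ (ι' y)) :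
    κ'.range = κ.range.comap ι := by
  rw [cen_comap hκ hP, ← hL] at hJ
  ext y
  refine ⟨fun ⟨z, e⟩ => ⟨ι' z, by rw [← hc, e]⟩, fun ⟨c, e⟩ => ?_⟩
  obtain ⟨z, rfl⟩ : c ∈ ι'.range := hJ ▸ ⟨y, e.symm⟩
  exact ⟨z, hι ((hc z).trans e)⟩

/-- the core of the conclusion -/
def Co (l r : ℕ) (M : Ideal AlgInt) (γ : MulAut C) (κ : C →* K) (ι' : J →* C) (B : Set (IrrCharacter K)) (P : Subgroup K)
    (φ : J → ℂ) : Prop :=
  ∃ (η : IrrCharacter C) (φ' : IrrCharacter J), St γ (η : C → ℂ) ∧ (∃ ξ ∈ B, Up l M κ (η : C → ℂ) (ξ : K → ℂ)) ∧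
    SameBlock M φ (φ' : J → ℂ) ∧ Un r ι' (P.comap κ) (φ' : J → ℂ) (η : C → ℂ)

/-- **one step** -/
theorem step (hO : BoxOs) (h : Fr l r m n N K α) (hM : IsPModular l M) (T : Top r M α B P ι β b) (eκ : Emb κ γ α) (e' : Emb ι' δ γ)
    (hc : ∀ y, ι (κ' y) = κ (ι' y)) {t : J} (ht : ∃ k, orderOf t = l ^ k) (hδ : δ t = t) (hC : κ.range = centralizer {κ (ι' t)})
    (hP : P ≤ κ.range) (hJ : ι'.range = centralizer ((P.comap κ : Subgroup C) : Set C)) {φ : IrrCharacter J}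
    (hu : ∃ ψ ∈ b, Up l M κ' (φ : J → ℂ) (ψ : L → ℂ)) : Co l r M γ κ ι' B P φ := by
  classical
  have : Fact r.Prime := ⟨h.rp⟩
  have := isPrime_of_isPModular hM
  obtain ⟨ψ₀, h1, hu⟩ := hu
  have e := T.emb
  have hi : Function.Injective κ' := fun x y h2 => e'.inj (eκ.inj (by rw [← hc, h2, hc]))
  have hr : κ'.range = centralizer {κ' t} := by
    rw [rng e.inj eκ.inj T.rg hP hJ hc, hC, ← hc]
    ext y
    rw [mem_comap, mem_cen, mem_cen]
    exact ⟨fun h2 => e.inj (by rw [map_mul, map_mul]; exact h2), fun h2 => h2.map ι⟩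
  obtain ⟨ψ, h2, h3⟩ := ex_orb (h.toGl.sub e) hM e.inj T.rg hi ht hr φ
  have h4 : ψ ∈ b := by
    rw [isPBlock_eq_blockOf T.hb h1]
    exact boxUp.uniq hM hu h2
  obtain ⟨h5, ξ, h6, h7, -⟩ := hO.all h hM T ψ h4
  have hξ := T.sB ξ h6
  obtain ⟨a, T', h8, -, h9, h10⟩ := orb_fin boxSt boxOrb h T.rp e T.rg hξ h7 h5
  have h11 : sf l κ' t φ (rs r P ξ ∘ ι) ≠ 0 := by
    rw [show rs r P ξ ∘ ι = fun y => ∑ χ ∈ T', (a : ℂ) * (χ : L → ℂ) y from funext fun y => by rw [h10, Finset.mul_sum], sf_sum,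
      ← Finset.mul_sum]
    exact mul_ne_zero h8 (h3 T' h9)
  obtain ⟨S, c, h12, h13⟩ := boxSec h.toGl hM eκ (ι' t) (by rw [← e'.cm, hδ]) (by rwa [orderOf_injective ι' e'.inj]) hC ξ hξ
  rw [sf, show tc l (fun v => (rs r P ξ ∘ ι) (κ' (t * v))) =
      tc l fun y => ∑ η ∈ S, (c η : ℂ) * (rs r (P.comap κ) η ∘ ι') (t * y) from tc_congr fun y hy => by
    have h14 := rs_sec boxSt h T.rp eκ hP (cen_of eκ.inj hC) (fun η hη => (h12 η hη).1) h13 (v := ι' y)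
      (by rw [← hc]; exact T.rg ▸ ⟨_, rfl⟩) (by rwa [orderOf_injective ι' e'.inj])
    rwa [← map_mul, ← hc] at h14, inner_tc_sum] at h11
  obtain ⟨η, hη, h14⟩ := Finset.exists_ne_zero_of_sum_ne_zero h11
  have h' := h.sub eκ
  by_contra h15
  exact right_ne_zero_of_mul h14 (sec_zero boxUf hM (gen_isClassFunction (h'.bg.rs_gen (T.rp.comap_of_injective κ eκ.inj)
    (boxSt.rat h' η (h12 η hη).1) h.bdr e'.inj hJ)) (fun φ' h16 => by_contra fun h17 =>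
      h15 ⟨η, φ', (h12 η hη).1, ⟨ξ, h6, (h12 η hη).2⟩, h16, h17⟩) (cen_of hi hr))

theorem top_of (hS : BoxSub) (h : Fr l r m n N K α) (hM : IsPModular l M) (T : Top r M α B P ι β b) (hQ : Fx l α Q)
    (eκ : Emb κ γ α) (hC : κ.range = centralizer (Q : Set K)) (e' : Emb ι' δ γ) (hP : P ≤ κ.range)
    (hJ : ι'.range = centralizer ((P.comap κ : Subgroup C) : Set C)) {φ : IrrCharacter J} (hφ : St δ (φ : J → ℂ))
    (hc : Co l r M γ κ ι' B P φ) : ∃ η : IrrCharacter C, (∀ ξ ∈ B, Up l M κ (η : C → ℂ) (ξ : K → ℂ)) ∧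
      Top r M γ (blockOf M (η : C → ℂ)) (P.comap κ) ι' δ (blockOf M (φ : J → ℂ)) := by
  have := isPrime_of_isPModular hM
  obtain ⟨η, φ', h1, ⟨ξ, h2, h3⟩, h4, h5⟩ := hc
  refine ⟨η, fun ξ' h6 => boxUp.congr hM (sameBlock_refl _) (isPBlock_sameBlock T.hB h2 h6) h3,
    T.rp.comap_of_injective κ eκ.inj, T.st.comap eκ, e', hJ, isPBlock_blockOf η, boxSt.blk (h.toGl.sub eκ) hM η h1,
    isPBlock_blockOf φ, boxSt.blk (h.toGl.sub (eκ.comp e')) hM φ hφ, ?_, η, mem_blockOf_self η, φ', h4, h5⟩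
  rw [← card_map_of_injective eκ.inj, map_comap_eq_self hP]
  exact hS.sub h hM T.hB T.sB T.mx hQ eκ ⟨hC.le, fun y hy _ => hC.ge hy⟩ η h1 ⟨ξ, h2, h3⟩

theorem core (hO : BoxOs) (hS : BoxSub) (hM : IsPModular l M) (e' : Emb ι' δ γ) {φ : IrrCharacter J} (hφ : St δ (φ : J → ℂ))
    (k : ℕ) : ∀ {K L : Type} [Group K] [Fintype K] [Group L] [Fintype L] {α : MulAut K} {β : MulAut L} {ι : L →* K} {κ : C →* K}
      {κ' : J →* L} {B : Set (IrrCharacter K)} {P Q : Subgroup K} {b : Set (IrrCharacter L)}, Nat.card K = k → Fr l r m n N K α →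
      Top r M α B P ι β b → Fx l α Q → Q ≤ centralizer (P : Set K) → Emb κ γ α → κ.range = centralizer (Q : Set K) →
      ι'.range = centralizer ((P.comap κ : Subgroup C) : Set C) → (∀ y, ι (κ' y) = κ (ι' y)) →
      (∃ ψ ∈ b, Up l M κ' (φ : J → ℂ) (ψ : L → ℂ)) → Co l r M γ κ ι' B P φ := by
  induction k using Nat.strong_induction_on with | _ k ih => ?_
  intro K L _ _ _ _ α β ι κ κ' B P Q b hk h T hQ hQP eκ hC hJ hc hu
  have := isPrime_of_isPModular hM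
  have : Fact l.Prime := ⟨h.lp⟩
  have hP : P ≤ κ.range := hC ▸ le_centralizer_iff.1 hQP
  by_cases hz : Q ≤ center K
  · refine step hO h hM T eκ e' hc (t := 1) ⟨0, orderOf_one⟩ (map_one δ) ?_ hP hJ hu
    rw [map_one, map_one, hC, centralizer_eq_top_iff_subset.2 hz]
    exact (centralizer_eq_top_iff_subset.2 (Set.singleton_subset_iff.2 (one_mem _))).symm
  obtain ⟨x, hx, h1⟩ := SetLike.not_le_iff_exists.1 hz
  obtain ⟨x, rfl⟩ : x ∈ ι.range := T.rg ▸ hQP hx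
  have e := T.emb
  have h2 : α (ι x) = ι x := hQ.fix _ hx
  have h3 : β x = x := e.inj ((e.cm x).trans h2)
  let K₁ := centralizer ({ι x} : Set K)
  let L₁ := centralizer ({x} : Set L)
  have := Fintype.ofFinite K₁
  have := Fintype.ofFinite L₁
  have hK : StS α K₁ := fun g => by
    rw [mem_cen, mem_cen]
    exact ⟨fun h4 => α.injective (by rw [map_mul, map_mul, h2]; exact h4), fun h4 => h2 ▸ h4.map α⟩
  have hL : StS β L₁ := fun g => by
    rw [mem_cen, mem_cen]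
    exact ⟨fun h4 => β.injective (by rw [map_mul, map_mul, h3]; exact h4), fun h4 => h3 ▸ h4.map β⟩
  have h4 : ∀ y : L, y ∈ L₁ ↔ ι y ∈ K₁ := fun y => by
    rw [mem_cen, mem_cen]
    exact ⟨fun h4 => h4.map ι, fun h4 => e.inj (by rw [map_mul, map_mul]; exact h4)⟩
  have h5 : centralizer (Q : Set K) ≤ K₁ := fun c h5 => mem_cen.2 (h5 _ hx).symm
  have h6 : ∀ c, κ c ∈ K₁ := fun c => h5 (hC ▸ ⟨c, rfl⟩)
  have h7 : ∀ y, κ' y ∈ L₁ := fun y => (h4 _).2 (hc y ▸ h6 _)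
  let κ₁ : C →* K₁ := κ.codRestrict K₁ h6
  let ι₁ : L₁ →* K₁ := (ι.comp L₁.subtype).codRestrict K₁ fun y => (h4 _).1 y.2
  let ν : J →* L₁ := κ'.codRestrict L₁ h7
  have e₁ : Emb κ₁ γ hK.res := ⟨fun a b h8 => eκ.inj (congrArg Subtype.val h8), fun y => Subtype.ext (eκ.cm y)⟩
  have e₂ : Emb ι₁ hL.res hK.res :=
    ⟨fun a b h8 => Subtype.ext (e.inj (congrArg Subtype.val h8)), fun y => Subtype.ext (e.cm y)⟩
  have e₃ : Emb ν δ hL.res := ⟨fun a b h8 => e'.inj (eκ.inj (by rw [← hc, ← hc]; exact congrArg (fun y : L₁ => ι y) h8)),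
    fun y => Subtype.ext (e.inj (by
      show ι (κ' (δ y)) = ι (β (κ' y))
      rw [hc, e'.cm, eκ.cm, e.cm, hc]))⟩
  have hP₁ : P ≤ K₁.subtype.range := by
    rw [range_subtype]
    exact (hC ▸ hP).trans h5
  have hQ₁ : Q ≤ K₁.subtype.range := by
    rw [range_subtype]
    exact hQ.ab.trans h5
  have h8 : ι₁.range = centralizer ((P.comap K₁.subtype : Subgroup K₁) : Set K₁) := by
    rw [cen_comap (subtype_injective K₁) hP₁, ← T.rg]
    ext c
    exact ⟨fun ⟨y, h8⟩ => ⟨y, congrArg Subtype.val h8⟩, fun ⟨y, h8⟩ => ⟨⟨y, (h4 y).2 (h8 ▸ c.2)⟩, Subtype.ext h8⟩⟩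
  have h9 : κ₁.range = centralizer ((Q.comap K₁.subtype : Subgroup K₁) : Set K₁) := by
    rw [cen_comap (subtype_injective K₁) hQ₁, ← hC]
    ext c
    exact ⟨fun ⟨y, h8⟩ => ⟨y, congrArg Subtype.val h8⟩, fun ⟨y, h8⟩ => ⟨y, Subtype.ext h8⟩⟩
  have h10 : Q.comap K₁.subtype ≤ centralizer ((P.comap K₁.subtype : Subgroup K₁) : Set K₁) := by
    rw [cen_comap (subtype_injective K₁) hP₁]
    exact comap_mono hQP
  have hQp : IsPGroup l (Q.comap K₁.subtype) := hQ.pg.comap_subtype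
  have h11 : ν.range = centralizer (((Q.comap K₁.subtype).comap ι₁ : Subgroup L₁) : Set L₁) := by
    rw [cen_comap e₂.inj (h8 ▸ h10), ← h9]
    exact rng e₂.inj e₁.inj h8 (h9 ▸ le_centralizer_iff.1 h10) hJ fun y => Subtype.ext (hc y)
  obtain ⟨φ₁, h12⟩ := boxUp.ex hM e₃.inj ⟨_, hQp.comap_of_injective ι₁ e₂.inj, h11.le, fun y hy _ => h11.ge hy⟩ φ
  have h13 : ∃ j, orderOf x = l ^ j := orderOf_injective ι e.inj x ▸ ord_of_mem hQ.pg hx
  have h14 : ∀ {G : Type} [Group G] (z : G), centralizer {z} = centralizer (zpowers z : Set G) := fun z => by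
    rw [zpowers_eq_closure, centralizer_closure]
  obtain ⟨ψ, h15⟩ := boxUp.ex hM (subtype_injective L₁) ⟨zpowers x, IsPGroup.iff_card.2 (by rwa [Nat.card_zpowers]),
    ((range_subtype _).trans (h14 x)).le, fun y hy _ => ((range_subtype _).trans (h14 x)).ge hy⟩ φ₁
  obtain ⟨ψ₀, h16, h17⟩ := hu
  have h18 := step hO h hM T hK.emb e₂ (κ' := L₁.subtype) (fun _ => rfl) (t := ⟨x, mem_cen.2 (Commute.refl x)⟩)
    (by rwa [orderOf_mk]) (Subtype.ext h3) (range_subtype _) hP₁ h8 ⟨ψ₀, h16, boxUp.congr hM (sameBlock_refl _)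
      (boxUp.uniq hM (boxUp.trans hM e₃.inj h12 (subtype_injective L₁) h15) h17) h15⟩
  obtain ⟨η₁, h19, T₁⟩ := top_of (Q := zpowers (ι x)) hS h hM T ⟨hQ.pg.to_le (zpowers_le_of_mem hx), fun a ha b hb =>
    hQ.ab (zpowers_le_of_mem hx ha) b (zpowers_le_of_mem hx hb), fun a ha => hQ.fix a (zpowers_le_of_mem hx ha)⟩ hK.emb
    ((range_subtype _).trans (h14 _)) e₂ hP₁ h8 (Start.st_of_up boxUp (h.toGl.sub (e.comp hL.emb)) hM e₃ hφ h12) h18
  have hlt : Nat.card K₁ < k := by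
    refine hk ▸ lt_of_le_of_ne (card_le_card_group K₁) fun h20 => h1 (mem_center_iff.2 fun g => ?_)
    exact mem_cen.1 ((eq_top_of_card_eq K₁ h20).symm ▸ mem_top g : g ∈ K₁)
  obtain ⟨η, φ', h20, ⟨ξ, h21, h22⟩, h23⟩ := ih _ hlt (κ' := ν) rfl (h.sub hK.emb) T₁ ⟨hQp, by
    rw [cen_comap (subtype_injective K₁) hQ₁]
    exact comap_mono hQ.ab, fun a ha => Subtype.ext (hQ.fix _ ha)⟩ h10 e₁ h9 hJ (fun y => Subtype.ext (hc y))
    ⟨φ₁, mem_blockOf_self φ₁, h12⟩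
  obtain ⟨χ, h24⟩ := isPBlock_nonempty T.hB
  exact ⟨η, φ', h20, ⟨χ, h24, boxUp.trans hM e₁.inj h22 (subtype_injective K₁)
    (boxUp.congr hM h21 (sameBlock_refl _) (h19 χ h24))⟩, h23⟩

end Y

/-- **[Y]** -/
theorem boxY_of (hO : BoxOs) (hS : BoxSub) : BoxY := by
  intro l r m n N K L C J _ _ _ _ _ _ _ _ α β γ δ ι κ ι' κ' M B P Q b h hM T hQ hQP eκ hC e' hJ hc φ hφ hu
  exact Y.top_of hS h hM T hQ eκ hC e' (hC ▸ le_centralizer_iff.1 hQP) hJ hφ
    (Y.core hO hS hM e' hφ _ rfl h T hQ hQP eκ hC hJ hc hu)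

end Cfsg.Agent.BZ.L
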