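import Cfsg.Agent.BZ.L.Os
import Cfsg.Agent.BZ.L.Sub
import Cfsg.Agent.BZ.L.Y
import Cfsg.Agent.BZ.L.Bes
import Cfsg.Agent.BZ.Lab.Main2
import Cfsg.Agent.BZ.Lab.Mono
import Cfsg.Agent.BZ.Lab.Start
import Cfsg.Agent.H639.Cen
import Cfsg.Agent.H669.Basic
import Cfsg.Agent.S0968

/-!
# BZ / L: heights and orbits when the defect group of `b` is abelian (helper94)

* `Ct.can`, `Ct.dfg` : blocks with a central defect group;
* `Ct.root` : the canonical character of a stable root;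
* `Ct.down` : the descent to the centraliser of the defect group;
* `boxCrit_of`, `boxCrit`.
-/

set_option autoImplicit false
set_option linter.unusedSectionVars false

namespace Cfsg.Agent.BZ.L

open Cfsg Subgroup Cfsg.Agent.HZ.Gen Cfsg.Agent.BZ.Lab Cfsg.Agent.Characters Cfsg.Agent.Characters.Core Cfsg.Agent.Blocks
  Cfsg.Agent.Blocks.Basic Cfsg.Agent.Blocks.Local Cfsg.Agent.OddOrderCharacters.VChar
open scoped ComplexConjugate

namespace Ct

variable {l r m n N : ℕ} {K L : Type} [Group K] [Fintype K] [Group L] [Fintype L] {M : Ideal AlgInt}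
  {α : MulAut K} {β : MulAut L} {ι : L →* K} {P Q : Subgroup K} {B : Set (IrrCharacter K)}

theorem fac_card (Q : Subgroup K) :
    (Nat.card K).factorization l = (Nat.card Q).factorization l + Q.index.factorization l := by
  rw [← Q.card_mul_index, Nat.factorization_mul Nat.card_pos.ne' index_ne_zero_of_finite, Finsupp.add_apply]

/-- the canonical character of a block with a central defect group -/
theorem can (hM : IsPModular l M) (hZ : Q ≤ center K) (hB : IsPBlock M B) (hD : IsDefectGroup l M B Q) :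
    ∃ θ ∈ B, Ov Q (θ : K → ℂ) ∧ blockHeight l B (θ : K → ℂ) = 0 ∧ (∀ g x, IsPPart l g x → x ∉ Q → (θ : K → ℂ) g = 0) ∧
      (∀ θ' ∈ B, Ov Q (θ' : K → ℂ) → θ' = θ) ∧ ∀ χ ∈ B, ∃ s : ℂ, ∀ y, ¬ l ∣ orderOf y → (χ : K → ℂ) y = s * (θ : K → ℂ) y := by
  classical
  have : Fact l.Prime := ⟨hM.1⟩
  have hp := isPGroup_of_isDefectGroup hD
  obtain ⟨⟨θ, ⟨h1, h2⟩, h3⟩, h4, -⟩ := S0968.result l M hM Q hp
    (by rw [centralizer_eq_top_iff_subset.2 hZ, sup_top_eq]) B hB hD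
  have h5 := h4 θ h1 h2
  refine ⟨θ, h1, h2, Nat.sub_eq_zero_of_le (le_csInf ⟨_, θ, h1, rfl⟩ ?_), (S0969.result l M hM Q hp hZ θ h5).2,
    fun θ' h6 h7 => h3 θ' ⟨h6, h7⟩, fun χ hχ => ?_⟩
  · rintro _ ⟨χ, hχ, rfl⟩
    have h6 := H592.Defect.le_degree_add l hM hB hD hχ
    have h7 := fac_card (l := l) Q
    beta_reduce
    omega
  · have := finite_irr (G := K)
    have := Fintype.ofFinite B
    exact ⟨_, fun y hy => ((H639.apply_eq_sum_ker hM hZ hp hB hχ hy).trans (congrArg _ (Finset.sum_eq_single_of_mem (⟨θ, h1⟩ : B)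
      (Finset.mem_filter.2 ⟨Finset.mem_univ _, h2⟩) fun ξ hξ h6 =>
        (h6 (Subtype.ext (h3 ξ.1 ⟨ξ.2, (Finset.mem_filter.1 hξ).2⟩))).elim))).trans (mul_assoc _ _ _).symm⟩

/-- a character of `K / Q` which vanishes off the sections of `Q` -/
theorem dfg (hM : IsPModular l M) (hZ : Q ≤ center K) (hp : IsPGroup l Q) {η : IrrCharacter K} (h1 : Ov Q (η : K → ℂ))
    (h2 : ∀ g x, IsPPart l g x → x ∉ Q → (η : K → ℂ) g = 0) : IsDefectGroup l M (blockOf M (η : K → ℂ)) Q := by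
  classical
  have : Fact l.Prime := ⟨hM.1⟩
  have hd := (charDegree_pos η.2).ne'
  refine (S0969.result l M hM Q hp hZ η (le_antisymm ((Nat.factorization_le_iff_dvd hd index_ne_zero_of_finite).2
    ((H669.Basic.charDegree_dvd_index_center η.2).trans (index_dvd_of_le hZ)) l) ?_)).1
  obtain ⟨S, hS⟩ := hp.exists_le_sylow
  have := Fintype.ofFinite S
  obtain ⟨u, hu⟩ := gen_inner (gen_comp (S : Subgroup K).subtype (gen_of_irr η.2)) gen_one
  have h3 : ∑ s : S, ((η : K → ℂ) ∘ (S : Subgroup K).subtype) s * conj ((1 : S → ℂ) s) =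
      (Nat.card Q * charDegree (η : K → ℂ) : ℕ) := by
    rw [Finset.sum_congr rfl (g := fun s : S => if (s : K) ∈ Q then (η : K → ℂ) 1 else 0) fun s _ => by
      rw [Pi.one_apply, map_one, mul_one]
      split_ifs with h4
      · exact h1 _ h4
      · exact h2 _ s ⟨1, mul_one _, Commute.one_right _, ord_of_mem S.2 s.2, by simpa using hM.1.ne_one⟩ h4, ← Finset.sum_filter,
      Finset.sum_const, nsmul_eq_mul, irr_one_eq_charDegree η.2, Nat.cast_mul, ← Nat.card_congr (subgroupOfEquivOfLe hS).toEquiv,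
      Nat.card_eq_fintype_card, Fintype.card_subtype]
    rfl
  rw [classInner, h3, inv_mul_eq_iff_eq_mul₀ card_ne_zero_complex] at hu
  have h4 : Nat.card S ∣ Nat.card Q * charDegree (η : K → ℂ) := Int.natCast_dvd_natCast.1 ⟨u, by exact_mod_cast hu⟩
  have h5 := (Nat.factorization_le_iff_dvd Nat.card_pos.ne' (mul_ne_zero Nat.card_pos.ne' hd)).2 h4 l
  rw [S.card_eq_multiplicity, hM.1.factorization_pow, Finsupp.single_eq_same, Nat.factorization_mul Nat.card_pos.ne' hd,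
    Finsupp.add_apply, fac_card Q] at h5
  omega

/-- the canonical character of a stable root -/
theorem root (h : Gl l m N K α) (hM : IsPModular l M) (hB : IsPBlock M B) (sB : StB α B) (hD : IsDefectGroup l M B Q)
    (hQ : Fx l α Q) [Fintype (centralizer (Q : Set K))] : ∃ lam : IrrCharacter (centralizer (Q : Set K)),
      St (StS.of_fix hQ.fix).cen.res lam.1 ∧ (∀ ψ ∈ B, Up l M (centralizer (Q : Set K)).subtype lam ψ) ∧
        Ov (Q.subgroupOf _) lam.1 ∧ blockHeight l (blockOf M lam.1) lam.1 = 0 ∧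
          ∀ g x, IsPPart l g x → x ∉ Q.subgroupOf _ → lam.1 g = 0 := by
  have : Fact l.Prime := ⟨hM.1⟩
  have := isPrime_of_isPModular hM
  obtain ⟨χ, rfl⟩ := hB
  have hs := StS.of_fix hQ.fix
  have hm : (Q.subgroupOf (centralizer (Q : Set K))).map (centralizer (Q : Set K)).subtype = Q := by
    rw [subgroupOf_map_subtype, inf_eq_left.2 hQ.ab]
  obtain ⟨φ, E, h1, h2, h3, h4⟩ := boxStart_of boxSt boxUp h hM hs.cen.emb ⟨Q, hQ.pg, (range_subtype _).le, fun y hy _ =>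
    (range_subtype _).ge hy⟩ χ Q (Q.subgroupOf _) (sB χ (mem_blockOf_self χ)) hD hs hm.le (by
      rw [hm]; exact fun y hy _ => (range_subtype _).ge hy)
  obtain ⟨B', h5⟩ := S0919.result l M hM Q _ hQ.pg hQ.ab le_rfl (centralizer_le_normalizer _) _ (isPBlock_blockOf φ)
  obtain ⟨χ', rfl⟩ := h5.2.1
  obtain ⟨E', h6, h7⟩ := S0917.result l M hM _ _ h5.1 _ h5.2.1 h5 E h3
  rw [blockOf_eq_of_sameBlock (boxUp.uniq hM (boxUp.ind h5 φ (mem_blockOf_self φ) χ' (mem_blockOf_self χ')) h2)] at h6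
  have h8 : Q = E' := H592.Defect.eq_of_le_of_factorization l hQ.pg (isPGroup_of_isDefectGroup h6)
    (hm.ge.trans ((map_mono h4).trans h7)) (by
      rw [H592.Defect.factorization_card_defect l hM (isPBlock_blockOf χ) h6,
        H592.Defect.factorization_card_defect l hM (isPBlock_blockOf χ) hD])
  obtain rfl : E = Q.subgroupOf _ := le_antisymm (map_le_iff_le_comap.1 (h8 ▸ h7)) h4
  obtain ⟨lam, h9, h10, h11, h12, -⟩ := can hM (fun x hx => mem_center_iff.2 fun y => Subtype.ext (y.2 x hx).symm)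
    (isPBlock_blockOf φ) h3
  exact ⟨lam, boxSt.blk (h.sub hs.cen.emb) hM φ h1 lam h9, fun ψ hψ => boxUp.congr hM h9 hψ h2, h10,
    blockOf_eq_of_sameBlock h9 ▸ h11, h12⟩

theorem uf_mul {ψ f g : L → ℂ} {s : ℂ} (h : ∀ y, ¬ l ∣ orderOf y → f y = s * g y) : uf l ψ f = s * uf l ψ g := by
  classical
  rw [uf, uf, Finset.mul_sum]
  exact Finset.sum_congr rfl fun y hy => by rw [h y (Finset.mem_filter.1 hy).2, mul_assoc, mul_div_assoc]

/-- trivial relative Weyl group, central defect group: the two functionals are proportional -/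
theorem prop (Os : BoxOs) (Bes : BoxBes) (Cd : BoxCd) (h : Fr l r m n N K α) (hM : IsPModular l M) {lam : IrrCharacter L}
    (T : Top r M α B P ι β (blockOf M lam.1)) (hN : normalizer (P : Set K) ≤ centralizer (P : Set K)) (hp : IsPGroup l Q)
    (hZ : Q ≤ center K) (hQ : Q ≤ ι.range) (h1 : Ov (Q.comap ι) lam.1) (h2 : ∀ g x, IsPPart l g x → x ∉ Q.comap ι → lam.1 g = 0) :
    ∃ η ∈ B, ∃ ε : ℂ, (ε = 1 ∨ ε = -1) ∧ ∀ χ : IrrCharacter K, St α χ.1 →
      uf l lam.1 (rs r P χ ∘ ι) * uf l η.1 η.1 = ε * (uf l η.1 χ.1 * uf l lam.1 lam.1) := by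
  have : Fact l.Prime := ⟨hM.1⟩
  have : Fact r.Prime := ⟨h.rp⟩
  have := isPrime_of_isPModular hM
  obtain ⟨h3, η, h4, h5, h6⟩ := Os.all h hM T lam (mem_blockOf_self lam)
  have h7 := boxSt.rat h η (T.sB η h4)
  have h8 : Ov Q η.1 := fun z hz => by
    obtain ⟨z, rfl⟩ := hQ hz
    have h8 := h6 z (hZ hz)
    rwa [h1 z hz, div_self (irr_one_ne_zero lam.2), div_eq_one_iff_eq (irr_one_ne_zero η.2)] at h8
  have h9 := dfg hM hZ hp h8 (Cd h T.rp T.emb.inj T.rg hN hp hZ h7 h3 h5 fun y x hx hx' => by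
    obtain ⟨x', h9⟩ := PPart.exists_isPPart l y
    exact h2 y x' h9 fun h10 => hx' (PPart.isPPart_unique (part_hom ι h9) hx ▸ h10))
  obtain ⟨θ, -, -, -, -, h10, h11⟩ := can hM hZ (isPBlock_blockOf η) h9
  obtain rfl := h10 η (mem_blockOf_self η) h8
  obtain ⟨⟨ε, h12, h13⟩, -⟩ := Bes h.rp h.bg h.bdr T.rp T.emb.inj T.rg hN h7 h3 h5
  refine ⟨η, h4, ε, h12, fun χ hχ => ?_⟩
  by_cases h14 : SameBlock M η.1 χ.1
  · obtain ⟨s, hs⟩ := h11 χ h14
    rw [uf_mul hs, uf_mul (f := rs r P χ ∘ ι) (g := lam.1) (s := s * ε) fun y hy => ?_]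
    · ring
    have hy' : ι y ∈ centralizer (P : Set K) := T.rg ▸ ⟨y, rfl⟩
    obtain ⟨a, ha, e1, -⟩ := h.bg.gel_spec T.rp h.nr hy'
    rw [mul_assoc, ← h13]
    refine hs _ ?_
    rwa [e1, reg_mul h.lp (hy' a ha) (not_dvd_of_r h.lp h.rp h.ne (ord_of_mem T.rp ha)), orderOf_injective ι T.emb.inj]
  · have h15 := boxSt.rat h χ hχ
    have h16 := sec_zero boxUf hM (gen_isClassFunction (h.bg.rs_gen T.rp h15 h.bdr T.emb.inj T.rg)) (φ := lam)
      (fun φ hφ => by_contra fun h16 => by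
        obtain ⟨h17, η', h18, h19, -⟩ := Os.all h hM T φ hφ
        exact h14 ((Bes h.rp h.bg h.bdr T.rp T.emb.inj T.rg hN (boxSt.rat h η' (T.sB η' h18)) h17 h19).2 χ h15 h16 ▸
          isPBlock_sameBlock T.hB h4 h18)) (one_mem _)
    simp only [one_mul] at h16
    rw [boxUf.oth hM h14, uf_eq, show classInner (tc l (rs r P χ ∘ ι)) lam = 0 from h16]
    simp

/-- the descent -/
theorem down {C J : Type} [Group C] [Fintype C] [Group J] [Fintype J] {γ : MulAut C} {κ : C →* K} {ι' : J →* C}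
    (h : Fr l r m n N K α) (hM : IsPModular l M) (hP : IsPGroup r P) (hQ : Fx l α Q) (e : Emb κ γ α)
    (hκ : κ.range = centralizer (Q : Set K)) (hPC : P ≤ κ.range) (hι : Function.Injective ι')
    (hJ : ι'.range = centralizer (P.comap κ : Set C)) {ξ : IrrCharacter K} (hξ : St α ξ.1) {η : IrrCharacter C}
    {lam : IrrCharacter J} {ε : ℂ} (hε : ε = 1 ∨ ε = -1) (h1 : ∀ χ : IrrCharacter C, St γ χ.1 →
      uf l lam.1 (rs r (P.comap κ) χ ∘ ι') * uf l η.1 η.1 = ε * (uf l η.1 χ.1 * uf l lam.1 lam.1))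
    (h2 : ¬ MemLocalIdeal M (uf l η.1 (ξ.1 ∘ κ))) (h3 : ¬ MemLocalIdeal M (uf l lam.1 lam.1))
    (h4 : IsClassFunction J (rs r P ξ ∘ κ ∘ ι')) : ¬ MemLocalIdeal M (uf l lam.1 (rs r P ξ ∘ κ ∘ ι')) := by
  have : Fact r.Prime := ⟨h.rp⟩
  have := isPrime_of_isPModular hM
  have h' := h.sub e
  have hP' : IsPGroup r (P.comap κ) := hP.comap_of_injective κ e.inj
  obtain ⟨S, c, h5, h6⟩ := boxSec2 h.toGl hM e hQ.pg (StS.of_fix hQ.fix) (fun x hx y hy => (hQ.ab hx y hy).symm) hκ ξ hξ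
  have h7 := boxUf.cong hM η (f := ξ.1 ∘ κ - fun y => ∑ χ ∈ S, (c χ : ℂ) * χ.1 y) (fun g x => by
    rw [Pi.sub_apply, Pi.sub_apply, gen_isClassFunction (gen_comp κ (gen_of_irr ξ.2))]
    exact congrArg _ (Finset.sum_congr rfl fun χ _ => by rw [irr_conj χ.2])) h6
  have h8 := boxUf.cong hM lam (f := rs r P ξ ∘ κ ∘ ι' - fun y => ∑ χ ∈ S, (c χ : ℂ) * (rs r (P.comap κ) χ ∘ ι') y)
    (fun g x => by
      rw [Pi.sub_apply, Pi.sub_apply, h4]
      exact congrArg _ (Finset.sum_congr rfl fun χ hχ => by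
        rw [gen_isClassFunction (h'.bg.rs_gen hP' (boxSt.rat h' χ (h5 χ hχ).1) h.bdr hι hJ)])) fun y hy => by
      have h8 : ι' y ∈ centralizer (P.comap κ : Set C) := hJ ▸ ⟨y, rfl⟩
      have h9 : κ (ι' y) ∈ centralizer (P : Set K) := by rwa [cen_comap e.inj hPC] at h8
      obtain ⟨a, ha, e1, e2⟩ := h.bg.gel_spec hP h.nr h9
      obtain ⟨a, rfl⟩ := hPC ha
      rw [← map_mul] at e1 e2
      have h10 := h6 (a * ι' y) (by
        rwa [reg_mul h.lp (h8 a ha) (not_dvd_of_r h.lp h.rp h.ne (ord_of_mem hP' ha)), orderOf_injective ι' hι])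
      rw [← e1, Finset.sum_congr rfl fun χ hχ => congrArg _ (h'.bg.rs_eq hP' (boxSt.rat h' χ (h5 χ hχ).1) h.bdr h8 ha (by
        rw [cen_comap e.inj hPC]; exact gn_map e.inj e2)).symm] at h10
      exact h10
  rw [uf_sub, uf_sum] at h7 h8
  rw [memLocalIdeal_iff_of_sub h7] at h2
  rw [memLocalIdeal_iff_of_sub h8]
  intro h9
  have h10 := memLocalIdeal_mul_right h9 (boxUf.int hM η (gen_of_irr η.2))
  rw [Finset.sum_mul, Finset.sum_congr rfl fun χ hχ => show _ = ε * ((c χ * uf l η.1 χ.1) * uf l lam.1 lam.1) by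
    rw [mul_assoc, h1 χ (h5 χ hχ).1]; ring, ← Finset.mul_sum, ← Finset.sum_mul] at h10
  refine (memLocalIdeal_or_of_mul (memLocalRing_sum fun χ _ => memLocalRing_mul (memLocalRing_intCast _)
    (boxUf.int hM η (gen_of_irr χ.2))) (boxUf.int hM lam (gen_of_irr lam.2)) ?_).elim h2 h3
  rcases hε with rfl | rfl
  · rwa [one_mul] at h10
  · rwa [neg_one_mul, memLocalIdeal_neg_iff] at h10

end Ct

open Ct

/-- **heights and orbits** -/
theorem boxCrit_of (Os : BoxOs) (_ : BoxSub) (Y : BoxY) (Bes : BoxBes) (Cd : BoxCd) : BoxCrit := by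
  intro l r m n N K L _ _ _ _ α β ι M B P b Q h hM T hD hQ hN ξ hξ ψ hψ h0 hz
  have : Fact r.Prime := ⟨h.rp⟩
  have := isPrime_of_isPModular hM
  have h' := h.sub T.emb
  have hQ' : Fx l α (Q.map ι) := ⟨hQ.pg.map ι, by
    rintro _ ⟨x, hx, rfl⟩ _ ⟨y, hy, rfl⟩
    rw [← map_mul, hQ.ab hx y hy, map_mul], by
    rintro _ ⟨x, hx, rfl⟩
    rw [← T.emb.cm, hQ.fix x hx]⟩
  have hQP : Q.map ι ≤ centralizer (P : Set K) := T.rg ▸ map_le_range ι Q
  let C := centralizer (Q.map ι : Set K)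
  let J := centralizer (Q : Set L)
  have := Fintype.ofFinite C
  have := Fintype.ofFinite J
  have sC : StS α C := (StS.of_fix hQ'.fix).cen
  have sJ : StS β J := (StS.of_fix hQ.fix).cen
  have hJC : ∀ y : J, (ι.comp J.subtype) y ∈ C := fun y => (cen_map T.emb.inj Q).le y.2
  let ι' : J →* C := (ι.comp J.subtype).codRestrict C hJC
  have e' : Emb ι' sJ.res sC.res :=
    ⟨fun a b e => Subtype.ext (T.emb.inj (congrArg Subtype.val e)), fun y => Subtype.ext (T.emb.cm y)⟩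
  have hPC : P ≤ C.subtype.range := (le_centralizer_iff.1 hQP).trans (range_subtype C).ge
  have hJ : ι'.range = centralizer (P.comap C.subtype : Set C) := by
    rw [cen_comap (subtype_injective C) hPC, ← T.rg]
    ext c
    exact ⟨fun ⟨y, e⟩ => ⟨y, congrArg Subtype.val e⟩, fun ⟨y, e⟩ =>
      ⟨⟨y, (cen_map T.emb.inj Q).ge (show ι y ∈ C from e ▸ c.2)⟩, Subtype.ext e⟩⟩
  obtain ⟨lam, h1, h2, h3, h4, h5⟩ := root h'.toGl hM T.hb T.sb hD hQ
  obtain ⟨η₀, h6, T'⟩ := Y h hM T hQ' hQP sC.emb (range_subtype C) e' hJ (κ' := J.subtype) (fun _ => rfl) lam h1 ⟨ψ, hψ, h2 ψ hψ⟩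
  have h7 : ((Q.map ι).subgroupOf C).comap ι' = Q.subgroupOf J := by
    ext y
    exact mem_map_iff_mem T.emb.inj
  obtain ⟨η, h8, ε, h9, h10⟩ := prop Os Bes Cd (h.sub sC.emb) hM T' (Q := (Q.map ι).subgroupOf C) (fun g hg => by
      rw [cen_comap (subtype_injective C) hPC]
      refine hN ⟨mem_normalizer_iff.2 fun x => ⟨fun hx => ?_, fun hx => ?_⟩, g.2⟩
      · obtain ⟨x, rfl⟩ := hPC hx
        exact (mem_normalizer_iff.1 hg x).1 hx
      · obtain ⟨y, hy⟩ := hPC hx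
        have h8 := (mem_normalizer_iff''.1 hg y).1 (show C.subtype y ∈ P from hy ▸ hx)
        rw [mem_comap, map_mul, map_mul, map_inv, hy] at h8
        simpa [mul_assoc] using h8)
    hQ'.pg.comap_subtype (fun x hx => mem_center_iff.2 fun y => Subtype.ext (y.2 x hx).symm)
    (fun x hx => hJ.ge (by rw [cen_comap (subtype_injective C) hPC]; exact hQP hx)) (h7 ▸ h3) (h7 ▸ h5)
  have hs := T.sB ξ hξ
  have h11 := h.bg.rs_gen T.rp (boxSt.rat h ξ hs) h.bdr T.emb.inj T.rg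
  rw [isPBlock_eq_blockOf T.hB hξ] at hz
  rw [isPBlock_eq_blockOf T.hb hψ]
  refine crit_of' hM h T.rp T.emb T.rg hs h0 (Os.all h hM T ψ hψ).1 fun h12 => ?_
  exact down h hM T.rp hQ' sC.emb (range_subtype C) hPC e'.inj hJ hs h9 h10
    (mt (memLocalIdeal_iff_of_sub (boxUf.up hM (subtype_injective C) (gen_of_irr ξ.2)
      (boxUp.congr hM h8 (sameBlock_refl _) (h6 ξ hξ)))).1 ((boxUf.ht hM (sameBlock_refl _)).2 hz))
    ((boxUf.ht hM (sameBlock_refl _)).2 h4) (gen_isClassFunction (gen_comp J.subtype h11))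
    ((memLocalIdeal_iff_of_sub (boxUf.up hM (subtype_injective J) h11 (h2 ψ hψ))).2 h12)

theorem boxCrit : BoxCrit := boxCrit_of boxOs boxSub (boxY_of boxOs boxSub) boxBes boxCd

end Cfsg.Agent.BZ.L
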