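import Cfsg.Agent.BZ.L.Defs
import Cfsg.Agent.H646.PIndex
import Cfsg.Agent.H648.HeightForm
import Cfsg.Agent.H658.Domin
import Cfsg.Agent.H348.PPD.Dich
import Cfsg.Agent.H615.AltClif
import Cfsg.Agent.KM.BK.B
import Cfsg.Agent.S0908
import Cfsg.Agent.S4491
import Cfsg.Agent.S4545

/-!
# BZ / L : `boxNb` (helper25)

The block of `L / Z` has defect three and all heights zero, so it has at least eight members; each of them has two extensions,
so the block of `H / Z` has sixteen members of height zero, and Olsson's bound makes its defect group abelian.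
-/

set_option autoImplicit false

namespace Cfsg.Agent.BZ.L

open Cfsg Subgroup Cfsg.Agent.KM Cfsg.Agent.BZ.Lab Cfsg.Agent.Blocks.Basic Cfsg.Agent.Blocks.Local
open Cfsg.Agent.H644.CentralQuot Cfsg.Agent.HKS.CosetTwo Cfsg.Agent.H648.HeightForm

namespace Nb

/-- a `2`-block of defect at least three with all heights zero has at least eight members -/
theorem eight {M : Ideal AlgInt} {K : Type} [Group K] [Finite K] {B : Set (IrrCharacter K)} (hM : IsPModular 2 M)
    (hB : IsPBlock M B) (h3 : 3 ≤ blockDefect 2 B) (h : ∀ χ ∈ B, blockHeight 2 B (χ : K → ℂ) = 0) : 8 ≤ Nat.card B := by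
  classical
  have := isPrime_of_isPModular hM
  have := Characters.Core.finite_irr (G := K)
  have h1 := S4491.result 2 M hM B hB
  rw [finsum_mem_eq_finite_toFinset_sum _ (Set.toFinite B)] at h1
  have h4 : ∀ χ ∈ B, _ ≤ (charDegree (χ : K → ℂ)).factorization 2 := fun χ hχ =>
    Nat.sInf_le (s := (fun χ : IrrCharacter K => (charDegree (χ : K → ℂ)).factorization 2) '' B) ⟨χ, hχ, rfl⟩
  simp only [blockHeight, blockDefect] at h1 h3 h
  generalize sInf ((fun χ : IrrCharacter K => (charDegree (χ : K → ℂ)).factorization 2) '' B) = v at *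
  have h5 : ∀ χ : IrrCharacter K, ∃ u : ℕ, χ ∈ B → charDegree (χ : K → ℂ) = 2 ^ v * u ∧ Odd u := fun χ => by
    by_cases hχ : χ ∈ B
    · have h0 := (charDegree_pos χ.2).ne'
      obtain ⟨u, hu⟩ := (Nat.prime_two.pow_dvd_iff_le_factorization h0).2 (h4 χ hχ)
      refine ⟨u, fun _ => ⟨hu, ?_⟩⟩
      have h5 := h χ hχ
      rwa [Nat.sub_eq_zero_iff_le, ← not_lt, ← Nat.succ_le_iff, ← Nat.prime_two.pow_dvd_iff_le_factorization h0, hu, pow_succ,
        Nat.mul_dvd_mul_iff_left (by positivity), ← even_iff_two_dvd, Nat.not_even_iff_odd] at h5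
    · exact ⟨0, fun e => absurd e hχ⟩
  choose u hu using h5
  have h6 : 8 ∣ ∑ χ ∈ (Set.toFinite B).toFinset, u χ ^ 2 := by
    have h7 : 2 ^ (2 * v + 3) ∣ ∑ χ ∈ (Set.toFinite B).toFinset, charDegree (χ : K → ℂ) ^ 2 :=
      (pow_dvd_pow 2 (by omega)).trans (Nat.ordProj_dvd _ 2)
    rw [Finset.sum_congr rfl (g := fun χ => 2 ^ (2 * v) * u χ ^ 2) fun χ hχ => by
      rw [(hu χ ((Set.Finite.mem_toFinset _).1 hχ)).1]; ring, ← Finset.mul_sum, pow_add] at h7
    exact Nat.dvd_of_mul_dvd_mul_left (by positivity) h7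
  have h9 := Finset.dvd_sum (s := (Set.toFinite B).toFinset) (f := fun χ => (u χ : ℤ) ^ 2 - 1) fun χ hχ =>
    Int.eight_dvd_sq_sub_one_of_odd (Odd.natCast (hu χ ((Set.Finite.mem_toFinset _).1 hχ)).2)
  rw [Finset.sum_sub_distrib, Finset.sum_const, nsmul_one] at h9
  have h10 : 8 ∣ (Set.toFinite B).toFinset.card :=
    Int.natCast_dvd_natCast.1 ((dvd_sub_right (by exact_mod_cast h6)).1 h9)
  rw [Nat.card_coe_set_eq, Set.ncard_eq_toFinset_card B (Set.toFinite B)]
  exact Nat.le_of_dvd (Finset.card_pos.2 ((Set.Finite.toFinset_nonempty _).2 (isPBlock_nonempty hB))) h10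

/-- an invariant character of a subgroup of index two has two extensions -/
theorem two {H : Type} [Group H] [Fintype H] {L : Subgroup H} [L.Normal] [Fintype L] (h2 : L.index = 2) (ψ : IrrCharacter L)
    (h : ∀ g, Cj L.subtype g (ψ : L → ℂ) (ψ : L → ℂ)) :
    ∃ F : Bool → IrrCharacter H, Function.Injective F ∧ ∀ i, ∀ n : L, (F i : H → ℂ) n = (ψ : L → ℂ) n := by
  rcases H348.PPD.Dich.dich L h2 ψ.2 with ⟨χ, h1, h3⟩ | ⟨χ, -, -, h3⟩
  · have h4 : χ ≠ χ * sg h2 := fun e => by
      have h5 := H615.AltClif.norm_restrict h2 h1 fun y hy => by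
        have h5 := congrFun e y
        rw [Pi.mul_apply, sg_of_notMem h2 hy] at h5
        linear_combination h5 / 2
      rw [funext h3, Characters.Core.classInner_irr_self ψ.2] at h5
      norm_num at h5
    refine ⟨fun i => if i then ⟨χ, h1⟩ else ⟨χ * sg h2, isIrr_mul_sg h2 h1⟩, ?_, ?_⟩
    · rintro (_ | _) (_ | _) e
      · rfl
      · exact absurd (congrArg Subtype.val e).symm h4
      · exact absurd (congrArg Subtype.val e) h4
      · rfl
    · rintro (_ | _) n
      · exact (show χ n * sg h2 n = _ by rw [sg_of_mem h2 n.2, mul_one, h3])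
      · exact h3 n
  · obtain ⟨g, hg⟩ : ∃ g, g ∉ L := by
      by_contra h4
      rw [(eq_top_iff' L).2 fun g => not_not.1 fun e => h4 ⟨g, e⟩, index_top] at h2
      omega
    exact absurd (funext fun n => h g n _ rfl) (h3 g hg).2

end Nb

theorem boxNb : BoxNb := by
  intro M H _ _ L Z E _ _ b c hM h2 hZL hZc hZp hb hc hcov hE hEc _ hψ
  classical
  have := isPrime_of_isPModular hM
  have hZn : Z.Normal := ⟨fun z hz g => by rw [mem_center_iff.1 (hZc hz) g, mul_inv_cancel_right]; exact hz⟩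
  have hZ' : Z.subgroupOf L ≤ center L := fun z hz => mem_center_iff.2 fun g => Subtype.ext (mem_center_iff.1 (hZc hz) g)
  obtain ⟨t, ht⟩ := hZp.exists_card_eq
  have ht' : Nat.card (Z.subgroupOf L) = 2 ^ t := (Nat.card_congr (subgroupOfEquivOfLe hZL).toEquiv).trans ht
  have hZp' : IsPGroup 2 (Z.subgroupOf L) := IsPGroup.of_card ht'
  have hov : ∀ θ : IrrCharacter (L ⧸ Z.subgroupOf L), Ov (Z.subgroupOf L) (infl _ θ : L → ℂ) := fun θ z hz => by
    rw [infl_apply, infl_one, (QuotientGroup.eq_one_iff z).2 hz]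
  obtain ⟨θ₀, hθ₀⟩ := exists_mem_defl hM hZp' hb
  have hst : ∀ x, StabilizesBlock L b x := fun x => (H646.UCov.stabilizesBlock_iff_cj L b x).2
    (H646.UCov.stable_of_mem L hb hθ₀ (by
      rw [show Blocks.Fong.cj L x⁻¹ (infl _ θ₀) = infl _ θ₀ from
        Subtype.ext (funext fun n => (hψ _ hθ₀ (hov θ₀)).2 x⁻¹ n _ rfl)]
      exact hθ₀))
  obtain ⟨-, -, d0⟩ := H646.PIndex.sup_eq_top_and_defect L hM ⟨1, h2⟩ hb hst hc hcov hE
  have d1 := blockDefect_defl hM hZ' ht' hb
  have d2 := blockDefect_defl hM hZc ht hc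
  have d3 : blockDefect 2 c = t + 4 := Nat.pow_right_injective le_rfl (by
    simp only [← S0908.result 2 M hM c hc E hE, hEc, ht]; ring)
  have d4 : (Nat.card H).factorization 2 = (Nat.card L).factorization 2 + 1 := by
    rw [HKS.CosetTwo.card_eq h2, Nat.factorization_mul (by decide) Nat.card_pos.ne', Finsupp.add_apply,
      Nat.prime_two.factorization_self, add_comm]
  have d5 : (Nat.card H).factorization 2 = (Nat.card (H ⧸ Z)).factorization 2 + t := by
    rw [card_eq_card_quotient_mul_card_subgroup Z, Nat.factorization_mul Nat.card_pos.ne' Nat.card_pos.ne', Finsupp.add_apply,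
      ht, Nat.prime_two.factorization_pow, Finsupp.single_eq_same]
  have d6 : (Nat.card L).factorization 2 = (Nat.card (L ⧸ Z.subgroupOf L)).factorization 2 + t := by
    rw [card_eq_card_quotient_mul_card_subgroup (Z.subgroupOf L), Nat.factorization_mul Nat.card_pos.ne' Nat.card_pos.ne',
      Finsupp.add_apply, ht', Nat.prime_two.factorization_pow, Finsupp.single_eq_same]
  rw [h2, Nat.prime_two.factorization_self] at d0
  have := Fintype.ofFinite (H ⧸ Z)
  have := Fintype.ofFinite (L ⧸ Z.subgroupOf L)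
  have h3 : ∀ θ ∈ defl (Z.subgroupOf L) b, blockDefect 2 b + (charDegree (θ : L ⧸ Z.subgroupOf L → ℂ)).factorization 2 =
      (Nat.card L).factorization 2 := fun θ hθ => by
    have h3 := defect_add (p := 2) b hθ
    rwa [(hψ _ hθ (hov θ)).1, charDegree_infl] at h3
  have h4 := Nb.eight hM (isPBlock_defl hM hZ' hZp' hb) (by omega) fun θ hθ => by
    have h4 := defect_add (p := 2) _ hθ
    have := h3 θ hθ
    omega
  have h5 : ∀ θ : defl (Z.subgroupOf L) b, ∃ F : Bool → {χ : IrrCharacter (H ⧸ Z) // χ ∈ defl Z c ∧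
      blockHeight 2 (defl Z c) (χ : H ⧸ Z → ℂ) = 0}, Function.Injective F ∧
        ∀ i, ∀ n : L, (infl Z (F i).1 : H → ℂ) n = (infl _ θ.1 : L → ℂ) n := fun θ => by
    obtain ⟨F, f1, f2⟩ := Nb.two h2 _ (hψ _ θ.2 (hov θ)).2
    have f3 : ∀ i, (F i : H → ℂ) 1 = (infl _ θ.1 : L → ℂ) 1 := fun i => f2 i 1
    choose F' f4 using fun i => KM.BK.exists_infl Z (F i) fun z hz =>
      (f2 i ⟨z, hZL hz⟩).trans ((hov θ ⟨z, hZL hz⟩ hz).trans (f3 i).symm)
    have f5 : ∀ i, F' i ∈ defl Z c := fun i => by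
      obtain ⟨χ, hχ, ψ, hψ', e⟩ := hcov
      rw [mem_defl, f4]
      refine isPBlock_mem_of_sameBlock hc hχ (H646.UCov.ucov_of_index hM L ⟨1, h2⟩ _ _ (isPBlock_sameBlock hb hψ' θ.2) _ _ e ?_)
      rw [funext (f2 i), Characters.Core.classInner_irr_self (infl _ θ.1).2]
      exact one_ne_zero
    refine ⟨fun i => ⟨F' i, f5 i, ?_⟩, fun i j e => f1 ?_, fun i n => by rw [f4, f2]⟩
    · have f6 := defect_add (p := 2) _ (f5 i)
      have f7 := h3 _ θ.2
      rw [← charDegree_infl, f4, charDegree_def, f3, ← charDegree_def, charDegree_infl] at f6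
      omega
    · rw [← f4, ← f4, show F' i = F' j from congrArg Subtype.val e]
  choose F f1 f2 using h5
  have := Characters.Core.finite_irr (G := H ⧸ Z)
  have h6 := Nat.card_le_card_of_injective (fun x : defl (Z.subgroupOf L) b × Bool => F x.1 x.2) fun x y e => by
    have h6 : x.1 = y.1 := Subtype.ext (infl_injective _ (Subtype.ext (funext fun n => by
      rw [← f2 x.1 x.2, ← f2 y.1 y.2, show F x.1 x.2 = F y.1 y.2 from e])))
    exact Prod.ext h6 (f1 y.1 ((congrArg (F · x.2) h6).symm.trans e))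
  have hD := (H658.isDefectGroup_defl hM hZc hZp hc hE).2
  have h7 := S0908.result 2 M hM _ (isPBlock_defl hM hZc hZp hc) _ hD
  rw [show blockDefect 2 (defl Z c) = 4 by omega] at h7
  have h8 := S4545.result M hM _ (isPBlock_defl hM hZc hZp hc) _ hD (by omega)
  have h9 := (commutator ↥(E.map (QuotientGroup.mk' Z))).card_mul_index
  rw [Nat.card_prod, Nat.card_eq_fintype_card (α := Bool), Fintype.card_bool] at h6
  have h10 : commutator ↥(E.map (QuotientGroup.mk' Z)) = ⊥ := (card_le_one_iff_eq_bot _).1 (by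
    by_contra h10
    nlinarith)
  refine commutator_le.2 fun x hx y hy => (QuotientGroup.eq_one_iff _).1 ?_
  have h11 : ∀ u v : E.map (QuotientGroup.mk' Z), u * v * u⁻¹ * v⁻¹ = 1 := fun u v =>
    mem_bot.1 (h10.le (commutator_mem_commutator (mem_top u) (mem_top v)))
  exact congrArg Subtype.val (h11 ⟨_, mem_map_of_mem _ hx⟩ ⟨_, mem_map_of_mem _ hy⟩)

end Cfsg.Agent.BZ.L
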