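import Cfsg.Agent.BZ.L.ResN
import Cfsg.Agent.Blocks.Knorr

/-!
# BZ / L : `boxRes_of` (helper42)
-/

set_option autoImplicit false

namespace Cfsg.Agent.BZ.L

open Cfsg Subgroup Cfsg.Agent.BZ.Lab Cfsg.Agent.Blocks Cfsg.Agent.Characters.Core Rs

theorem Rs.ht_le {l : ℕ} {M : Ideal AlgInt} {K : Type} [Group K] [Finite K] (hM : IsPModular l M) {B : Set (IrrCharacter K)}
    (hB : IsPBlock M B) {D : Subgroup K} (hD : IsDefectGroup l M B D) {ξ : IrrCharacter K} (h : blockHeight l B ξ.1 = 0) :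
    (Nat.card D).factorization l + (charDegree ξ.1).factorization l ≤ (Nat.card K).factorization l := by
  have : Fact l.Prime := ⟨hM.1⟩
  have h1 : (charDegree ξ.1).factorization l ≤ (Nat.card K).factorization l :=
    (Nat.factorization_le_iff_dvd (Basic.charDegree_pos ξ.2).ne' Nat.card_pos.ne').2 (Knorr.charDegree_dvd ξ.2) l
  refine Nat.add_le_of_le_sub h1 (H592.Defect.card_defect_le l hM hB hD fun χ hχ => ?_)
  have h2 : (charDegree ξ.1).factorization l ≤ (charDegree χ.1).factorization l :=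
    (Nat.sub_eq_zero_iff_le.1 h).trans (Nat.sInf_le ⟨χ, hχ, rfl⟩)
  omega

/-- **[Res]** -/
theorem boxRes_of (hO : BoxOs) (hC : BoxCrit) (hD : BoxDef2) (hS : BoxStar) (hP : BoxPair) (hN : BoxNb) : BoxRes := by
  intro l r m n N K _ _ α M B P Q Z _ β b h hM t hQ hb fx hc hZ pZ hz
  have : Fact l.Prime := ⟨hM.1⟩
  have hp := Local.isPrime_of_isPModular hM
  obtain ⟨lam, η, S, T, p1, p2, p3, p4, p5, p6, p7, p8⟩ := hP h hM t hQ hb fx hc
  obtain ⟨χ, rfl⟩ := t.hB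
  obtain ⟨D, d1, d2, d3, d4, d5⟩ := hD hM fx.ab η χ (p2 χ (Basic.mem_blockOf_self χ)) p3 T p5
  have hL : centralizer (P : Set K) ≤ normalizer (P : Set K) := centralizer_le_normalizer _
  have hZL : Z ≤ centralizer (P : Set K) := hZ.trans (center_le_centralizer _)
  have hZ' : Z.subgroupOf (centralizer (P : Set K)) ≤ center _ := fun x hx =>
    mem_center_iff.2 fun y => Subtype.ext (mem_center_iff.1 (hZ hx) y)
  have zq : Z ≤ Q := fun z k => cen_le_defect hM t.hb hb hZ' pZ.comap_subtype (x := ⟨z, hZL k⟩) k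
  have sp : S ≤ normalizer (P : Set K) := fun g hg => ((p4 g).1 hg).1
  have sq : S ≤ normalizer (Q : Set K) := fun g hg => ((p4 g).1 hg).2.1
  have cs : centralizer (P : Set K) ⊓ centralizer (Q : Set K) ≤ S := fun g hg =>
    (p4 g).2 ⟨hL hg.1, centralizer_le_normalizer _ hg.2, fun ψ k ψ' k' => (show ψ = ψ' from Subtype.ext (funext fun y =>
      (cj_self hg ψ (⟨g, hg⟩⁻¹ * y * ⟨g, hg⟩) y (by simp [mul_assoc])).trans
        (k' (⟨g, hg⟩⁻¹ * y * ⟨g, hg⟩) y (by simp [mul_assoc])).symm)) ▸ k⟩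
  have syl : (Q.relIndex (D ⊓ normalizer (Q : Set K))).factorization l =
      ((centralizer (P : Set K) ⊓ centralizer (Q : Set K)).relIndex S).factorization l := by
    rw [d5, rel_eq (S := S) (fun g hg => (p6 g).2 ⟨1, one_mem _, by rwa [mul_one]⟩) fun g hg => (p6 g).1 hg,
      ← inf_relIndex_right, show centralizer (Q : Set K) ⊓ S = centralizer (P : Set K) ⊓ centralizer (Q : Set K) from
        le_antisymm (fun g hg => ⟨hc ⟨sp hg.2, hg.1⟩, hg.1⟩) (le_inf inf_le_right cs)]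
  have key : ∀ ψ ∈ b, Ov (Z.subgroupOf (centralizer (P : Set K))) ψ.1 → ∃ ξ ∈ blockOf M χ.1,
      Un r (centralizer (P : Set K)).subtype P ψ.1 ξ.1 ∧ blockHeight l (blockOf M χ.1) ξ.1 = 0 ∧ blockHeight l b ψ.1 = 0 ∧
        ¬ l ∣ (Orb (centralizer (P : Set K)).subtype P ψ.1 ∩ b).ncard := fun ψ hψ ho => by
    obtain ⟨-, ξ, k1, k2, k3⟩ := hO.all h hM t ψ hψ
    have k4 := hz ξ k1 fun z k => by
      have k5 := k3 ⟨z, hZL k⟩ (hZ k)
      rwa [ho _ k, div_self (isIrr_apply_one_ne_zero ψ.2), div_eq_one_iff_eq (isIrr_apply_one_ne_zero ξ.2)] at k5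
    exact ⟨ξ, k1, k2, k4, hC h hM t hb ⟨fx.pg.comap_subtype, fun x hx y hy => Subtype.ext (fx.ab hx y hy),
      fun x hx => Subtype.ext ((t.emb.cm x).trans (fx.fix x hx))⟩ (by rwa [map_subgroupOf_eq_of_le hQ]) ξ k1 ψ hψ k2 k4⟩
  have pD := Basic.isPGroup_of_isDefectGroup d1
  have nrm := fun x (h1 : x ∈ D) (h2 : x ∈ normalizer (Q : Set K)) => (p6 x).1 (d4 ⟨h1, h2⟩)
  have d6 : Q ≤ D ⊓ normalizer (Q : Set K) := le_inf d2 le_normalizer
  refine ⟨D, S, d1, ⟨pD, zq, d2, sp, sq, cs, d3, nrm, syl, p8, hS hM t.hb hQ hb fx.ab zq hZ lam p1 (sp.trans (Cor.norm_le P)) sq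
    (fun g g1 g2 g3 => (p4 g).2 ⟨hL g1, g2, g3⟩) (fun g hg => ((p4 g).1 hg).2.2) fun ψ hψ ho => ?_⟩, fun h2 => ?_, ?_⟩
  · obtain ⟨-, -, -, -, k1, k2⟩ := key ψ hψ ho
    refine ⟨k1, fun k => k2 (k.trans (dvd_of_eq (congrArg Set.ncard (Set.ext fun ψ' => ⟨fun ⟨g, g1, g2⟩ =>
      ⟨⟨g, sp g1, g2⟩, (p7 g (sp g1)).2 ⟨1, one_mem _, by rwa [mul_one]⟩ ψ hψ ψ' g2⟩, fun ⟨⟨g, g1, g2⟩, g3⟩ => ?_⟩))))⟩
    obtain ⟨c, c1, c2⟩ := (p7 g g1).1 ((Cor.stab_iff hp t.hb ⟨g, g1⟩ hψ).2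
      (((Cor.cj_iff (Cor.norm_le P) ⟨g, g1⟩ _ _).1 g2).symm ▸ g3))
    exact ⟨_, c2, cj_inn c1 g2⟩
  · obtain ⟨ψ, hψ, k⟩ := Cor.exists_over hM t.hb hZ' pZ.comap_subtype 1
    obtain ⟨ξ, k1, k2, k3, -⟩ := key ψ hψ fun z hz => (k ⟨z, hz⟩).trans (one_mul _)
    have k4 := h2 ξ k1 ψ hψ k2
    have k5 := ht_le hM ⟨χ, rfl⟩ d1 k3
    have k6 := H592.Defect.le_degree_add l hM t.hb hb hψ
    have g1 : centralizer (P : Set K) ≤ Cor.Gb hp t.hb := fun g hg =>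
      ⟨hL hg, (p7 g (hL hg)).2 ⟨g⁻¹, inv_mem hg, by rw [mul_inv_cancel]; exact one_mem _⟩⟩
    have g2 : (centralizer (P : Set K)).relIndex (normalizer (P : Set K)) ∣
        (centralizer (P : Set K) ⊓ centralizer (Q : Set K)).relIndex S * (Orb (centralizer (P : Set K)).subtype P ψ.1).ncard := by
      rw [← relIndex_mul_relIndex _ _ _ g1 fun _ hg => hg.1, rel_eq (S := S) (T := Cor.Gb hp t.hb)
        (fun g hg => ⟨sp hg, (p7 g (sp hg)).2
        ⟨1, one_mem _, by rwa [mul_one]⟩⟩) fun g hg => (p7 g hg.1).1 hg.2, orb_eq]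
      exact mul_dvd_mul (relIndex_dvd_of_le_left _ inf_le_left) (index_dvd_of_le fun g hg =>
        ⟨g.2, (Cor.stab_iff hp t.hb g hψ).2 (Set.mem_of_eq_of_mem hg hψ)⟩)
    have g3 : (Orb (centralizer (P : Set K)).subtype P ψ.1).ncard ≠ 0 := orb_eq ψ ▸ index_ne_zero_of_finite
    have g4 : (centralizer (P : Set K) ⊓ centralizer (Q : Set K)).relIndex S ≠ 0 := index_ne_zero_of_finite
    have g5 := (Nat.factorization_le_iff_dvd index_ne_zero_of_finite (mul_ne_zero g4 g3)).2 g2 l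
    rw [Nat.factorization_mul g4 g3, Finsupp.add_apply, ← syl] at g5
    rw [Nat.card_congr (subgroupOfEquivOfLe hQ).toEquiv] at k6
    have g6 := fac_rel d6 l
    refine inf_eq_left.1 (H592.Defect.eq_of_le_of_factorization l pD.to_inf_left pD inf_le_left ?_)
    change ((centralizer (P : Set K)).relIndex (normalizer (P : Set K))).factorization l ≤ _ at g5
    omega
  · rintro rfl h2 h8 h16
    have k1 := rel_two d6 (by rw [h16, h8]; ring)
    rw [k1, Nat.prime_two.factorization_self] at syl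
    obtain ⟨x, x1, x2, x3⟩ := nb hD hN hM t.hb hQ hb fx.ab fx.pg hc hZ zq lam p1 p4 p7 h2 h8 syl.symm fun ψ hψ ho =>
      let ⟨_, _, _, _, k⟩ := key ψ hψ ho; k
    exact comm_le hZ h2 sp sq cs syl.symm x1 x2 x3 pD.to_inf_left inf_le_right (fun y hy => nrm y hy.1 hy.2) k1

end Cfsg.Agent.BZ.L
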