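import Cfsg.Agent.BZ.L.Defs
import Cfsg.Agent.BZ.Lab.Cor
import Cfsg.Agent.BZ.Lab.Up
import Cfsg.Agent.H608.KKL.Star

/-!
# BZ / L : the box `Star` (helper51)

* `Star.grp` : a free action of an abelian `p`-group which is compatible with a group whose orbits have `p'`-length;
* `Star.star_map` : the star construction commutes with isomorphisms; `Star.core`, `boxStar`.
-/

set_option autoImplicit false
set_option linter.unusedSectionVars false

namespace Cfsg.Agent.BZ.L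

open Cfsg Subgroup MulAction Cfsg.Agent.BZ.Lab Cfsg.Agent.BZ.Lab.Cor Cfsg.Agent.H649 Cfsg.Agent.H650 Cfsg.Agent.H651
open Cfsg.Agent.Blocks
open Cfsg.Agent.H645.FusCount (stab)

namespace Star

/-- the group lemma -/
theorem grp {p : ℕ} [hp : Fact p.Prime] {W T X : Type} [Group W] [Finite W] [CommGroup T] [MulAction W X] [MulAction T X]
    [MulDistribMulAction W T] (hT : IsPGroup p T) (h4 : ∀ (θ : T) (x : X), θ • x = x → θ = 1)
    (h5 : ∀ (w : W) (θ : T) (x : X), w • θ • x = (w • θ) • w • x) (h8 : ∀ x : X, ¬ p ∣ (stabilizer W x).index) (x₀ : X) (θ : T) :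
    ¬ p ∣ (stabilizer W θ).index := by
  have h6 : ∀ (σ τ : T) (x : X), σ • x = τ • x → σ = τ := fun σ τ x h =>
    (inv_mul_eq_one.1 (h4 (τ⁻¹ * σ) x (by rw [mul_smul, h, inv_smul_smul]))).symm
  let G : Subgroup W :=
    { carrier := {g | ∃ τ : T, g • x₀ = τ • x₀}
      one_mem' := ⟨1, by rw [one_smul, one_smul]⟩
      mul_mem' := fun {g h} ⟨σ, e⟩ ⟨τ, e'⟩ => ⟨g • τ * σ, by rw [mul_smul, e', h5, e, mul_smul]⟩
      inv_mem' := fun {g} ⟨σ, e⟩ => ⟨(g⁻¹ • σ)⁻¹, by rw [eq_inv_smul_iff, ← h5, ← e, inv_smul_smul]⟩ }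
  have : Finite (orbit G x₀) := Finite.finite_mulAction_orbit x₀
  have := Fintype.ofFinite (orbit G x₀)
  have h1 : ∀ y : orbit G x₀, ∃ τ : T, (y : X) = τ • x₀ := by
    rintro ⟨_, g, rfl⟩
    exact g.2
  choose f hf using h1
  have hn : p.Coprime (Fintype.card (orbit G x₀)) := hp.out.coprime_iff_not_dvd.2 fun k => h8 x₀ (k.trans (by
    rw [← Nat.card_eq_fintype_card, Nat.card_coe_set_eq, ← index_stabilizer]
    exact relIndex_dvd_index_of_le (K := G) (H := stabilizer W x₀) fun g hg => ⟨1, by rw [one_smul]; exact hg⟩))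
  obtain ⟨s, hs⟩ := (hT.powEquiv hn).surjective (∏ y, f y)
  rw [IsPGroup.powEquiv_apply] at hs
  have h2 : ∀ g ∈ G, g • s • x₀ = s • x₀ := fun g hg => by
    obtain ⟨σ, e⟩ := id hg
    rw [h5, e, ← mul_smul]
    refine congrArg (· • x₀) ((hT.powEquiv hn).injective ?_)
    rw [IsPGroup.powEquiv_apply, IsPGroup.powEquiv_apply, mul_pow, ← smul_pow', hs, Finset.smul_prod', ← Finset.card_univ,
      ← Finset.prod_const, ← Finset.prod_mul_distrib, ← Equiv.prod_comp (toPerm (⟨g, hg⟩ : G)) f]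
    exact Finset.prod_congr rfl fun y _ => h6 _ _ x₀ (by rw [mul_smul, ← e, ← h5, ← hf, ← hf]; rfl)
  refine fun k => h8 (θ • s • x₀) (k.trans (index_dvd_of_le fun g hg => h6 _ _ (s • x₀) ?_))
  have h3 : g • θ • s • x₀ = θ • s • x₀ := hg
  rw [← h3, h5, h2 g ⟨(g • (θ * s))⁻¹ * (θ * s), ?_⟩]
  rw [mul_smul, eq_inv_smul_iff, ← h5, mul_smul, h3]

section map

variable {p : ℕ} {M : Ideal AlgInt} {G H : Type} [Group G] [Group H] (e : G ≃* H) {a : BrauerPairIdx G}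

theorem conj_map (x : G) (b : BrauerPairIdx G) : conjIdx (e x) (idxMap e b) = idxMap e (conjIdx x b) := by
  rw [conjIdx, conjIdx, idxMap_idxMap, idxMap_idxMap]
  exact congrArg (idxMap · b) (MulEquiv.ext fun y => by simp)

theorem fst_map {u : G} {b : BrauerPairIdx G} (h : b.1 = zpowers u) : (idxMap e b).1 = zpowers (e u) := by
  change b.1.map e.toMonoidHom = _
  rw [h, MonoidHom.map_zpowers]
  rfl

theorem stable_map {η : H → ℂ} (hη : IsStable p M (idxMap e a) η) : IsStable p M a (η ∘ e) := fun u x b hu hb h1 h2 => by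
  rw [Function.comp_apply, map_mul, map_mul, map_inv]
  exact hη _ _ (idxMap e b) ⟨u, hu, rfl⟩ (fst_map e hb) (leIdx_idxMap e h1) (conj_map e x b ▸ leIdx_idxMap e h2)

theorem etaW_map {η : H → ℂ} (hη : IsStable p M (idxMap e a) η) {u : G} {b : BrauerPairIdx G} (hb : b.1 = zpowers u) :
    etaW p M (idxMap e a) η (e u) (idxMap e b) = etaW p M a (η ∘ e) u b := by
  by_cases h : ∃ x, LEIdx p M (conjIdx x b) a
  · obtain ⟨x, hx⟩ := h
    rw [etaW_eq (stable_map e hη) hb hx, etaW_eq hη (fst_map e hb) (conj_map e x b ▸ leIdx_idxMap e hx),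
      Function.comp_apply, map_mul, map_mul, map_inv]
  · rw [etaW_eq_zero h, etaW_eq_zero]
    rintro ⟨y, hy⟩
    obtain ⟨x, rfl⟩ := e.surjective y
    rw [conj_map, leIdx_idxMap_iff] at hy
    exact h ⟨x, hy⟩

variable [Finite G] [Finite H]

theorem chiE_map (b : BrauerPairIdx G) (χ : H → ℂ) (g : G) : chiE (idxMap e b) χ (e g) = chiE b (χ ∘ e) g := by
  have := Fintype.ofFinite G
  have := Fintype.ofFinite H
  rw [chiE_eq_sum, chiE_eq_sum]
  refine (Fintype.sum_equiv e.toEquiv _ _ fun k => ?_).symm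
  change cfE b k * χ (e (k * g)) = cfE (idxMap e b) (e k) * χ (e k * e g)
  rw [map_mul]
  exact congrArg (· * χ (e k * e g)) (subgroupBlockCoeff_map e b.1 b.2 k).symm

/-- the star construction commutes with isomorphisms -/
theorem star_map [Fact p.Prime] {η : H → ℂ} (hη : IsStable p M (idxMap e a) η) (χ : H → ℂ) (g : G) :
    star p M (idxMap e a) η χ (e g) = star p M a (η ∘ e) (χ ∘ e) g := by
  unfold H651.star starW
  rw [pp_eq ((isPPart_map_iff e p g _).2 (isPPart_pp p g))]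
  refine (finsum_mem_eq_of_bijOn (s := blkPairs M _) (t := blkPairs M _) (idxMap e)
    ⟨fun b hb => ⟨fst_map e hb.1, isPBlock_blkMap hb.2⟩,
    fun b _ c _ h => by rw [← idxMap_symm_idxMap e b, h, idxMap_symm_idxMap],
    fun b hb => ⟨idxMap e.symm b, ⟨(fst_map e.symm hb.1).trans (by rw [e.symm_apply_apply]), isPBlock_blkMap hb.2⟩,
      idxMap_idxMap_symm e b⟩⟩ fun b hb => ?_).symm
  rw [etaW_map e hη hb.1, chiE_map]

end map

section core

variable {p : ℕ} [Fact p.Prime] {M : Ideal AlgInt} {G : Type} [Group G] [Finite G] {B : Set (IrrCharacter G)} {a : BrauerPairIdx G}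

/-- the action is free when the defect group is abelian -/
theorem free (hM : IsPModular p M) (hmax : IsMaximalBrauerPair p M B a.1 a.2) (hab : a.1 ≤ centralizer (a.1 : Set G)) {η : G → ℂ}
    (hη : IsStable p M a η) {χ : IrrCharacter G} (hχ : χ ∈ B) (h : star p M a η (χ : G → ℂ) = χ) {u : G} (hu : u ∈ a.1) :
    η u = 1 := by
  have := Local.isPrime_of_isPModular hM
  have := Fintype.ofFinite G
  obtain ⟨f, hf, -⟩ := H644.existsUnique_subpairLE hM hmax.1.1 (zpowers_le.2 hu)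
  obtain ⟨s, hs, h0⟩ := exists_blockPart_ne_zero_of_major hM hmax hχ (hab hu) hf
  have hb := SubpairLE.isBrauerPair hf hmax.1.1
  have h1 := blockPart_secFun_starW hM (isWInv_etaW hη) (Basic.irr_isClassFunction χ.2)
    (Nat.card_zpowers u ▸ IsPGroup.iff_card.1 hb.1) hb.2 hs
  rw [show starW p M (etaW p M a η) (χ : G → ℂ) = χ from h, etaW_eq hη (x := 1) rfl (by rw [conjIdx_one]; exact hf), one_mul,
    inv_one, mul_one] at h1
  exact (mul_eq_right₀ h0).1 h1.symm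

theorem irr (hM : IsPModular p M) (hmax : IsMaximalBrauerPair p M B a.1 a.2) {l : a.1 →* ℂˣ} (hl : IsStable p M a (ext0 a.1 l))
    {χ : IrrCharacter G} (hχ : χ ∈ B) : IsIrrCharacter G (star p M a (ext0 a.1 l) (χ : G → ℂ)) :=
  have := Fintype.ofFinite G
  star_isIrr hM hmax hl (fun _ hg => ext0_mul_conj l hg) (ext0_apply_one l) hχ
    (star_isGeneralizedCharacter hM hmax (isGeneralizedCharacter_ext0 l) hl (Characters.Core.isIrr_isCharacter χ.2))

theorem core {W D : Type} [Group W] [Finite W] [Group D] (hM : IsPModular p M) (hmax : IsMaximalBrauerPair p M B a.1 a.2)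
    (hab : a.1 ≤ centralizer (a.1 : Set G)) (φ : W →* MulAut G) (φ' : W →* MulAut D) (j : a.1 ≃* D) (hφ : ∀ w, idxMap (φ w) a = a)
    (hj : ∀ w (y y' : a.1), (y' : G) = φ w y → j y' = φ' w (j y)) {Z : Subgroup G} (hZ : Z ≤ center G) (hZa : Z ≤ a.1)
    (hZφ : ∀ w, ∀ z ∈ Z, φ w z = z) (H : ∀ ψ ∈ B, Ov Z (ψ : G → ℂ) → ¬ p ∣ (@stabilizer _ _ _ (aX φ) ψ).index) (θ : D →* ℂˣ)
    (h1 : ∀ z : a.1, z.1 ∈ Z → θ (j z) = 1) (h2 : IsStable p M a (ext0 a.1 (θ.comp j.toMonoidHom))) :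
    ¬ p ∣ (@stabilizer _ _ _ (aY φ') θ).index := by
  have := Local.isPrime_of_isPModular hM
  have k1 : ∀ w y, φ w y ∈ a.1 ↔ y ∈ a.1 := fun w y => by
    rw [← map_mem_map_iff (φ w) a.1 y, show a.1.map (φ w).toMonoidHom = a.1 from congrArg (·.1) (hφ w)]
  have k2 : ∀ w (σ : D →* ℂˣ), ext0 a.1 ((σ.comp (φ' w).toMonoidHom).comp j.toMonoidHom) =
      ext0 a.1 (σ.comp j.toMonoidHom) ∘ φ w := fun w σ => funext fun y => by
    rw [Function.comp_apply]
    by_cases hy : y ∈ a.1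
    · rw [ext0_of_mem _ hy, ext0_of_mem _ ((k1 w y).2 hy)]
      exact congrArg (fun t => (σ t : ℂ)) (hj w _ _ rfl).symm
    · rw [ext0_of_notMem _ hy, ext0_of_notMem _ (mt (k1 w y).1 hy)]
  have k3 : ∀ w, blkMap (φ w) B = B := fun w => (H644.existsUnique_isBrauerPairOf hM hmax.1.1).unique
    (by
      have h := (isBrauerPairOf_map_iff (φ w) B a.1 a.2).2 hmax.1
      change IsBrauerPairOf p M _ (idxMap (φ w) a).1 (idxMap (φ w) a).2 at h
      rwa [hφ] at h) hmax.1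
  have k5 : ∀ w η, IsStable p M a η → IsStable p M (idxMap (φ w) a) η := fun w η h => by rwa [hφ]
  let T : Subgroup (D →* ℂˣ) :=
    { carrier := {σ | (∀ z : a.1, z.1 ∈ Z → σ (j z) = 1) ∧ IsStable p M a (ext0 a.1 (σ.comp j.toMonoidHom))}
      one_mem' := ⟨fun _ _ => rfl, fun u x b hu hb e1 e2 => (ext0_one (e2.le ⟨u, hb ▸ mem_zpowers u, rfl⟩)).trans (ext0_one hu).symm⟩
      mul_mem' := fun {σ τ} hσ hτ => ⟨fun z hz => by rw [MonoidHom.mul_apply, hσ.1 z hz, hτ.1 z hz, one_mul],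
        (ext0_mul (σ.comp j.toMonoidHom) (τ.comp j.toMonoidHom)).symm ▸ isStable_mul hσ.2 hτ.2⟩
      inv_mem' := fun {σ} hσ => ⟨fun z hz => by rw [MonoidHom.inv_apply, hσ.1 z hz, inv_one], fun u x b hu hb e1 e2 => by
        have h := hσ.2 u x b hu hb e1 e2
        have h' : x * u * x⁻¹ ∈ a.1 := e2.le ⟨u, hb ▸ mem_zpowers u, rfl⟩
        rw [ext0_of_mem _ hu, ext0_of_mem _ h'] at h ⊢
        exact congrArg (fun t : ℂˣ => ((t⁻¹ : ℂˣ) : ℂ)) (Units.ext h)⟩ }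
  let X := {ψ : IrrCharacter G // ψ ∈ B ∧ Ov Z (ψ : G → ℂ)}
  let _ : MulAction W X :=
    { smul w x := ⟨(aX φ).smul w x.1, (k3 w).le ⟨x.1, x.2.1, Subtype.ext (funext fun y => by
        change x.1.1 ((φ w).symm y) = x.1.1 (φ w⁻¹ y)
        rw [map_inv]
        rfl)⟩, fun z hz => by
        change x.1.1 (φ w⁻¹ z) = x.1.1 (φ w⁻¹ 1)
        rw [hZφ _ z hz, map_one, x.2.2 z hz]⟩
      one_smul x := Subtype.ext ((aX φ).one_smul x.1)
      mul_smul v w x := Subtype.ext ((aX φ).mul_smul v w x.1) }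
  let _ : MulAction T X :=
    { smul σ x := ⟨⟨_, irr hM hmax σ.2.2 x.2.1⟩, star_mem hM hmax x.2.1 _, fun z hz => by
        change star p M a _ _ z = star p M a _ _ 1
        rw [H608.KKL.star_apply_central hM hmax σ.2.2 x.2.1 (hZa hz) (mem_center_iff.1 (hZ hz)),
          H608.KKL.star_apply_central hM hmax σ.2.2 x.2.1 (one_mem _) (fun g => by rw [mul_one, one_mul]), ext0_apply_one,
          ext0_of_mem _ (hZa hz), x.2.2 z hz]
        exact congrArg (fun t : ℂˣ => (t : ℂ) * _) (σ.2.1 ⟨z, hZa hz⟩ hz)⟩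
      one_smul x := Subtype.ext (Subtype.ext ((star_congr hM hmax (1 : T).2.2 (isStable_const 1) (fun _ hg => ext0_one hg)
        x.2.1).trans (star_one hM hmax x.2.1)))
      mul_smul σ τ x := Subtype.ext (Subtype.ext ((congrArg (star p M a · x.1.1)
        (ext0_mul (σ.1.comp j.toMonoidHom) (τ.1.comp j.toMonoidHom))).trans
          (star_star hM σ.2.2 τ.2.2 (Basic.irr_isClassFunction x.1.2)).symm)) }
  let _ : MulDistribMulAction W T :=
    { smul w σ := ⟨(aY φ').smul w σ.1, fun z hz => (congrArg σ.1 (hj w⁻¹ z z (hZφ _ _ hz).symm).symm).trans (σ.2.1 z hz),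
        (congrArg (IsStable p M a) (k2 w⁻¹ σ.1)).mpr (stable_map (φ w⁻¹) (k5 _ _ σ.2.2))⟩
      one_smul σ := Subtype.ext ((aY φ').one_smul σ.1)
      mul_smul v w σ := Subtype.ext ((aY φ').mul_smul v w σ.1)
      smul_mul _ _ _ := rfl
      smul_one _ := rfl }
  obtain ⟨n, hn⟩ := IsPGroup.iff_card.1 hmax.1.1.1
  obtain ⟨ψ, hψ, k4⟩ := exists_over hM hmax.1.2.1 hZ (hmax.1.1.1.to_le hZa) 1
  have key := grp (p := p) (W := W) (T := T) (X := X) (fun σ => ⟨n, Subtype.ext (MonoidHom.ext fun y => by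
      change σ.1 y ^ p ^ n = 1
      rw [← map_pow, ← hn, Nat.card_congr j.toEquiv, pow_card_eq_one', map_one])⟩)
    (fun σ x h => Subtype.ext (MonoidHom.ext fun y => Units.ext (by
      obtain ⟨y, rfl⟩ := j.surjective y
      exact (ext0_of_mem (σ.1.comp j.toMonoidHom) y.2).symm.trans
        (free hM hmax hab σ.2.2 x.2.1 (congrArg (·.1.1) h) y.2))))
    (fun w σ x => Subtype.ext (Subtype.ext (funext fun g => by
      have h := star_map (φ w⁻¹) (k5 _ _ σ.2.2) x.1.1 g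
      rw [hφ, ← k2] at h
      exact h)))
    (fun x => (congrArg (fun S : Subgroup W => ¬ p ∣ S.index) (Subgroup.ext fun w => Subtype.ext_iff)).mpr (H x.1 x.2.1 x.2.2))
    ⟨ψ, hψ, fun z hz => (k4 ⟨z, hz⟩).trans (one_mul _)⟩ ⟨θ, h1, h2⟩
  exact (congrArg (fun S : Subgroup W => ¬ p ∣ S.index) (Subgroup.ext fun w => Subtype.ext_iff)).mp key

end core

end Star

open Cfsg.Agent.Characters.Core in
/-- **[Star]** -/
theorem boxStar : BoxStar := by
  intro l M K _ _ L Q Z S b hM hb hQL hD hab hZQ hZ lam hup hSL hSQ h1 h2 h3 θ hθ hinv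
  have : Fact l.Prime := ⟨hM.1⟩
  have := Local.isPrime_of_isPModular hM
  have := Fintype.ofFinite L
  have := Fintype.ofFinite ↥(L ⊓ centralizer (Q : Set K))
  have := Fintype.ofFinite (centralizer (Q.subgroupOf L : Set L))
  let κ : ↥(L ⊓ centralizer (Q : Set K)) ≃* centralizer (Q.subgroupOf L : Set L) :=
    { toFun y := ⟨⟨y, y.2.1⟩, fun x hx => Subtype.ext (y.2.2 x hx)⟩
      invFun y := ⟨y.1, y.1.2, fun x hx => congrArg Subtype.val (y.2 ⟨x, hQL hx⟩ hx)⟩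
      left_inv _ := rfl
      right_inv _ := rfl
      map_mul' _ _ := rfl }
  let a : BrauerPairIdx L := ⟨Q.subgroupOf L, blkMap κ (blockOf M lam.1)⟩
  have hQ := Basic.isPGroup_of_isDefectGroup hD
  have he : IsPBlock M a.2 := isPBlock_blkMap (Basic.isPBlock_blockOf lam)
  have hmax : IsMaximalBrauerPair l M b a.1 a.2 := by
    obtain ⟨c, hc⟩ := inducedBlockDefined_centralizer hM hQ he
    obtain ⟨χ, hχ⟩ := Basic.isPBlock_nonempty hc.2.1
    obtain ⟨ψ, hψ⟩ := Basic.isPBlock_nonempty hb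
    have k : ψ ∈ blockOf M χ.1 := boxUp.uniq hM (boxUp.ind hc (irrMap κ lam) ⟨lam, Basic.mem_blockOf_self lam, rfl⟩ χ hχ)
      (boxUp.cj κ 1 (fun y => by rw [one_mul, inv_one, mul_one]; rfl) (irrMap_apply' κ lam) (hup ψ hψ))
    rw [← Basic.isPBlock_eq_blockOf hc.2.1 hχ] at k
    rw [Basic.isPBlock_eq_blockOf hc.2.1 k, ← Basic.isPBlock_eq_blockOf hb hψ] at hc
    exact H644.isMaximalBrauerPair_of_isDefectGroup hM ((isBrauerPairOf_iff_isInducedBlock hM hb hQ he).2 hc) hD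
  have tst : ∀ f : L → ℂ, Tst a f ↔ ∃ μ ∈ blockOf M lam.1, ∀ y, f (inclusion inf_le_left y) = μ.1 y := fun f =>
    ⟨fun ⟨_, ⟨μ, hμ, e⟩, h⟩ => ⟨μ, hμ, fun y => (h (κ y)).trans (e ▸ irrMap_apply' κ μ y)⟩,
      fun ⟨μ, hμ, h⟩ => ⟨irrMap κ μ, ⟨μ, hμ, rfl⟩, fun k => h (κ.symm k)⟩⟩
  have hSJ : S ≤ normalizer ((L ⊓ centralizer (Q : Set K) : Subgroup K) : Set K) := fun g hg y =>
    and_congr (hSL hg y) (norm_le Q (hSQ hg) y)
  have fwd : ∀ (w : S) (f : L → ℂ), Tst a (fun k => f (cn hSL w k)) → Tst a f := fun w f h => by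
    obtain ⟨μ, hμ, e⟩ := (tst _).1 h
    refine (tst f).2 ⟨(aX (cn hSJ)).smul w μ, h2 w w.2 μ hμ _ ((tr_iff hSJ w μ.1 _).2 fun _ => rfl), fun y =>
      Eq.trans (congrArg f (Subtype.ext ?_)) (e (cn hSJ w⁻¹ y))⟩
    change (y : K) = w * ((w : K)⁻¹ * y * (w : K)⁻¹⁻¹) * (w : K)⁻¹
    group
  have hab' : a.1 ≤ centralizer (a.1 : Set L) := fun x hx y hy => Subtype.ext (hab hx y hy)
  have key := Star.core hM hmax hab' (cn hSL) (cn hSQ) (subgroupOfEquivOfLe hQL)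
    (fun w => idx_ext (Subgroup.ext fun y => mem_map_equiv.trans (mem_normalizer_iff.1 (inv_mem (hSQ w.2)) y).symm) fun f =>
      (idxMap_test _ a f).trans ⟨fwd w f, fun h => fwd w⁻¹ _ (by simpa using h)⟩)
    (fun w y y' e => Subtype.ext (congrArg L.subtype e)) (Z := Z.subgroupOf L)
    (fun z hz => mem_center_iff.2 fun g => Subtype.ext (mem_center_iff.1 (hZ hz) g)) (fun z hz => hZQ hz)
    (fun w z hz => Subtype.ext (mul_inv_eq_iff_eq_mul.2 (mem_center_iff.1 (hZ hz) w))) (fun ψ hψ ho => by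
      rw [@index_stabilizer _ _ _ (aX (cn hSL))]
      convert (h3 ψ hψ ho).2 using 3
      exact Set.ext fun ψ' => ⟨fun ⟨g, e⟩ => ⟨g, g.2, (tr_iff hSL g ψ.1 ψ'.1).2 (congrFun (congrArg Subtype.val e))⟩,
        fun ⟨g, hg, e⟩ => ⟨⟨g, hg⟩, Subtype.ext (funext ((tr_iff hSL ⟨g, hg⟩ ψ.1 ψ'.1).1 e))⟩⟩) θ (fun z hz => hθ _ hz)
    (H608.KKL.isStable_of_inv hM hmax (fun x hx y hy => hab' hy x hx) _ fun s v => by
      have k1 : (s.1 : K) ∈ normalizer (Q : Set K) := mem_normalizer_fintype fun y hy =>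
        (H608.F5.act a s ⟨⟨y, hQL hy⟩, hy⟩).2
      refine hinv s.1 ⟨h1 _ s.1.2 k1 fun μ hμ μ' hc => ?_, s.1.2⟩ _ _ rfl
      have k2 := (idxMap_test (MulAut.conj s.1) a fun x => extendByZero _ μ'.1 x).2 ((tst _).2 ⟨μ, hμ, fun y =>
        (extendByZero_of_mem _ μ'.1 (show (s.1 : K) * y * (s.1 : K)⁻¹ ∈ L ⊓ centralizer (Q : Set K) from
          ⟨L.mul_mem (L.mul_mem s.1.2 y.2.1) (L.inv_mem s.1.2), (norm_le Q k1 y).1 y.2.2⟩)).trans (hc y _ rfl)⟩)
      rw [show idxMap (MulAut.conj s.1) a = a from s.2] at k2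
      obtain ⟨ν, hν, e⟩ := (tst _).1 k2
      rwa [show μ' = ν from Subtype.ext (funext fun y => (extendByZero_of_mem _ μ'.1 y.2).symm.trans (e y))])
  rw [@index_stabilizer _ _ _ (aY (cn hSQ))] at key
  convert key using 3
  exact Set.ext fun θ' => ⟨fun ⟨g, hg, e⟩ => ⟨⟨g, hg⟩, MonoidHom.ext ((tr_iff hSQ ⟨g, hg⟩ θ θ').1 e)⟩,
    fun ⟨g, e⟩ => ⟨g, g.2, (tr_iff hSQ g θ θ').2 (DFunLike.congr_fun e)⟩⟩

end Cfsg.Agent.BZ.L
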