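import Cfsg.Agent.BZ.L.Lie
import Cfsg.Agent.BZ.L.Res
import Cfsg.Agent.BZ.L.Crit
import Cfsg.Agent.BZ.L.Def2
import Cfsg.Agent.BZ.L.Star
import Cfsg.Agent.BZ.L.Pair
import Cfsg.Agent.BZ.L.Nb
import Cfsg.Agent.BZ.Lab.St
import Cfsg.Agent.BZ.Lab.Orb
import Cfsg.Agent.HZ.Gen.Rst
import Cfsg.Agent.KM.Si.L
import Cfsg.Agent.KM.Ht.Z
import Cfsg.Agent.SB.Exc.Max.Frame
import Cfsg.Agent.H639.Cen
import Cfsg.Agent.H649.Transport

/-!
# BZ / L : the glue (helper33)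

`boxLie_of : BoxW1 → BoxTA → BoxT2 → BoxLie`.
-/

set_option autoImplicit false
set_option linter.unusedSectionVars false
set_option maxHeartbeats 400000

namespace Cfsg.Agent.BZ.L

open Cfsg Subgroup Cfsg.Agent.HZ.Gen Cfsg.Agent.KM Cfsg.Agent.BZ.Lab Cfsg.Agent.DL Cfsg.Agent.KM.Ht Cfsg.Agent.KM.Tor
  Cfsg.Agent.Nodes.Reps

namespace Gl

theorem res : BoxRes :=
  boxRes_of boxOs boxCrit boxDef2 boxStar (boxPair_of boxOs (boxY_of boxOs boxSub) boxBes boxCd) boxNb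

section fin

variable {l r : ℕ} {K L : Type} [Group K] [Fintype K] [Group L] [Fintype L] {M : Ideal AlgInt} {α : MulAut K} {j : L →* K}

theorem card_comap (hj : Function.Injective j) {P : Subgroup K} (hP : P ≤ j.range) : Nat.card (P.comap j) = Nat.card P := by
  rw [← card_map_of_injective hj, map_comap_eq_self hP]

/-- a central `r`-subgroup above `P` is `P` -/
theorem eq_of_tight (hr : r.Prime) (hj : Function.Injective j) {P : Subgroup K} (hP : P ≤ j.range) {R : Subgroup L}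
    (hR : IsPGroup r R) (hc : R ≤ center L) (hle : P.comap j ≤ R) {ψ : IrrCharacter L}
    (ht : (Nat.card L).factorization r = (Nat.card P).factorization r + (charDegree (ψ : L → ℂ)).factorization r) :
    R.map j = P := by
  have : Fact r.Prime := ⟨hr⟩
  obtain ⟨a, ha⟩ := IsPGroup.iff_card.1 hR
  have h1 : charDegree (ψ : L → ℂ) * Nat.card R ∣ Nat.card L := by
    rw [← R.index_mul_card]
    exact Nat.mul_dvd_mul_right (H639.charDegree_dvd_index hc ψ) _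
  have h0 : charDegree (ψ : L → ℂ) * Nat.card R ≠ 0 := ne_zero_of_dvd_ne_zero Nat.card_pos.ne' h1
  have h2 := (Nat.factorization_le_iff_dvd h0 Nat.card_pos.ne').2 h1 r
  rw [Nat.factorization_mul (left_ne_zero_of_mul h0) Nat.card_pos.ne', Finsupp.add_apply, ha, Nat.factorization_pow_self hr, ht] at h2
  have h3 : r ^ a ∣ Nat.card P := (hr.pow_dvd_iff_le_factorization Nat.card_pos.ne').2 (by omega)
  rw [← eq_of_le_of_card_ge hle (by rw [card_comap hj hP, ha]; exact Nat.le_of_dvd Nat.card_pos h3), map_comap_eq_self hP]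

/-- transport along an embedding onto a subgroup -/
theorem trans {C : Subgroup K} [Fintype C] {β : MulAut C} (e : Emb C.subtype β α) (hj : Function.Injective j) (hC : j.range = C)
    {b : Set (IrrCharacter C)} (hb : IsPBlock M b) (sb : StB β b) :
    ∃ (γ : MulAut L) (b' : Set (IrrCharacter L)), Emb j γ α ∧ IsPBlock M b' ∧ StB γ b' ∧ Nat.card L = Nat.card C ∧
      (∀ ψ' ∈ b', ∃ ψ ∈ b, charDegree (ψ' : L → ℂ) = charDegree (ψ : C → ℂ)) ∧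
      ∀ Q, IsDefectGroup l M b' Q → IsDefectGroup l M b ((Q.map j).subgroupOf C) := by
  obtain ⟨f, hf⟩ := Ob.exists_e hj hC
  refine ⟨f.trans (β.trans f.symm), H649.blkMap f.symm b, ⟨hj, fun y => ?_⟩, H649.isPBlock_blkMap hb, ?_, Nat.card_congr f.toEquiv,
    ?_, fun Q hQ => ?_⟩
  · rw [← hf, ← hf, MulEquiv.trans_apply, MulEquiv.trans_apply, f.apply_symm_apply]
    exact e.cm _
  · rintro _ ⟨ψ, hψ, rfl⟩ g
    rw [H649.irrMap_apply, H649.irrMap_apply, MulEquiv.trans_apply, MulEquiv.trans_apply, f.symm_symm, f.apply_symm_apply]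
    exact sb ψ hψ _
  · rintro _ ⟨ψ, hψ, rfl⟩
    exact ⟨ψ, hψ, H649.charDegree_irrMap _ _⟩
  · have h1 := H649.isDefectGroup_blkMap (e := f) hQ
    rw [H649.blkMap_blkMap_symm] at h1
    convert h1 using 1
    ext x
    obtain ⟨x, rfl⟩ := f.surjective x
    rw [mem_subgroupOf, hf, mem_map_iff_mem hj]
    exact (mem_map_iff_mem (f := f.toMonoidHom) f.injective).symm

end fin

variable {p : ℕ} [Fact p.Prime] {k : Type} [Field k] [CharP k p] {Y : Type} [Group Y] {N : Type} [Fintype N]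
  [DecidableEq N] {ρ : Y →* GL N k} {F : MulAut Y} {G : Subgroup Y} [IsAlgClosed k] (X : Datum p ρ F G) {q n c l r m s : ℕ}

theorem cs_conj (h : Cs X q n c) {y : Y} (hy : y ∈ G) (hN : y⁻¹ * F y ∈ X.NN) : Cs (X.conj hy hN) q n c where
  n0 := h.n0
  lq w := by
    rw [TO.E6.conj_Wm, X.conj_Mx, ← Matrix.mul_assoc, ← X.Wm_mul]
    exact h.lq _
  ex a ha := h.ex a ha
  w := h.w
  rt := h.rt
  rk := h.rk

theorem cs_sub (h : Cs X q n c) {Z : Set Y} (hZ : Z ⊆ X.T) (hF : ∀ a ∈ X.Sz Z, X.g a ∈ X.Sz Z) :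
    Cs (X.sub hZ hF rfl) q n c where
  n0 := h.n0
  lq w := by
    rw [Si.Lb.sub_Wm]
    exact h.lq _
  ex a ha := h.ex _ ((X.sub_rt hZ hF rfl).1 ha).1
  w := (Si.Lb.card_sub_le X hZ hF).trans h.w
  rt := le_trans (Set.ncard_le_ncard_of_injOn (X.io Z) (fun _ ha => ((X.sub_rt hZ hF rfl).1 ha).1) (X.io_injective Z).injOn
    X.finite_roots) h.rt
  rk := h.rk

theorem mem_Pt {S : Subgroup Y} (hS : S ≤ X.T) {g : GF (F ^ m) G} : g ∈ Pt F G m s S ↔ (g : Y) ∈ S ∧ ∃ j, g ^ s ^ j = 1 := by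
  refine ⟨fun h => ?_, fun h => subset_closure h⟩
  induction h using closure_induction with
  | mem x hx => exact hx
  | one => exact ⟨one_mem _, 0, one_pow _⟩
  | mul x y _ _ hx hy =>
    obtain ⟨i, hi⟩ := hx.2
    obtain ⟨j, hj⟩ := hy.2
    have hc : Commute x y := Subtype.ext (X.T_comm (hS hx.1) (hS hy.1))
    refine ⟨mul_mem hx.1 hy.1, i + j, ?_⟩
    rw [hc.mul_pow, pow_add, pow_mul, hi, one_pow, mul_comm (s ^ i), pow_mul, hj, one_pow, one_mul]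
  | inv x _ hx => exact ⟨inv_mem hx.1, hx.2.imp fun j hj => by rw [inv_pow, hj, inv_one]⟩

theorem pg_Pt {S : Subgroup Y} (hS : S ≤ X.T) : IsPGroup s (Pt F G m s S) := fun g =>
  ((mem_Pt X hS).1 g.2).2.imp fun _ h => Subtype.ext h

omit X in
theorem mono_Pt {S S' : Subgroup Y} (h : S ≤ S') : Pt F G m s S ≤ Pt F G m s S' := closure_mono fun _ hg => ⟨h hg.1, hg.2⟩

theorem comm_Pt {s' : ℕ} : Pt F G m s X.T ≤ centralizer (Pt F G m s' X.T : Set (GF (F ^ m) G)) := fun _ hg _ ha =>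
  Subtype.ext (X.T_comm ((mem_Pt X le_rfl).1 ha).1 ((mem_Pt X le_rfl).1 hg).1)

omit X in
theorem map_Pt {C S : Subgroup Y} (h : GF (F ^ m) C ≤ GF (F ^ m) G) (hS : S ≤ C) :
    (Pt F C m s S).map (inclusion h) = Pt F G m s S := by
  rw [Pt, MonoidHom.map_closure, Pt]
  congr 1
  ext g
  constructor
  · rintro ⟨x, ⟨h1, j, h2⟩, rfl⟩
    exact ⟨h1, j, by rw [← map_pow, h2, map_one]⟩
  · rintro ⟨h1, j, h2⟩
    exact ⟨⟨g, hS h1, g.2.2⟩, ⟨h1, j, Subtype.ext (congrArg Subtype.val h2 :)⟩, rfl⟩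

theorem cen_Pt {Z : Subgroup Y} (hZ : Z ≤ Zc X {a | X.Rt a}) : Pt F G m s Z ≤ center _ := fun g hg => by
  have h1 := hZ ((mem_Pt X fun _ h => (hZ h).1).1 hg).1
  refine mem_center_iff.2 fun x => Subtype.ext ?_
  exact (X.cen_le_centralizer (Z := {(g : Y)}) (Set.singleton_subset_iff.2 h1.1)
    (Si.Lb.cen_of_all X (fun a ha => ⟨ha, fun z hz => Set.mem_singleton_iff.1 hz ▸ h1.2 a ha⟩) x.2.1) _ rfl).symm

theorem Z0_le : Z0 X ∅ ≤ Zc X {a | X.Rt a} := fun z hz => ⟨Z0_le_T X _ hz, fun a ha =>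
  (Sz_le_Z0 X ∅ (show a ∈ X.Sz ∅ from ⟨ha, fun _ h => h.elim⟩)).2 z hz⟩

/-- a stable `r`-subgroup lies in a stable torus -/
theorem frame (hr : r.Prime) (hp : r ≠ p) (hW : Nat.card X.W < r) (hm : 0 < m) {P : Subgroup (GF (F ^ m) G)} (hP : IsPGroup r P)
    (hF : ∀ z ∈ Subtype.val '' (P : Set (GF (F ^ m) G)), F z ∈ Subtype.val '' (P : Set (GF (F ^ m) G))) :
    ∃ y, ∃ (hy : y ∈ G) (hN : y⁻¹ * F y ∈ X.NN), Subtype.val '' (P : Set (GF (F ^ m) G)) ⊆ (X.conj hy hN).T := by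
  have : Fact r.Prime := ⟨hr⟩
  obtain ⟨_, ⟨x, hx, rfl, -⟩, h⟩ := exists_tor (X.pow hm) hp (Nat.not_dvd_of_pos_of_lt Nat.card_pos hW) hP
  obtain ⟨y, hy, hN, h1, -⟩ := SB.Exc.Max.exists_conj_le_T X hF hx (by
    rintro _ ⟨a, ha, rfl⟩
    exact mem_cj.1 (h a ha))
  exact ⟨y, hy, hN, h1⟩

/-- the conclusion of `BoxTA` -/
def TAs (l r m : ℕ) (M : Ideal AlgInt) : Prop :=
  ∀ [Fintype ↥(GF (F ^ m) G)] (n' N' : ℕ) (α : MulAut ↥(GF (F ^ m) G)), Fm F G l m n' N' α →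
    ∀ (B : Set (IrrCharacter ↥(GF (F ^ m) G))), IsPBlock M B → StB α B → Mx r ((Nat.card (Pt F G m r (Z0 X ∅))).factorization r) B →
      ∃ y, ∃ (hy : y ∈ G) (hN : y⁻¹ * F y ∈ X.NN), IsDefectGroup l M B (Pt F G m l (X.conj hy hN).T) ∧
        Pt F G m r (X.conj hy hN).T = Pt F G m r (Z0 X ∅)

variable [Fintype ↥(GF (F ^ m) G)] {n' N' : ℕ} {α : MulAut ↥(GF (F ^ m) G)} {M : Ideal AlgInt}
  {B : Set (IrrCharacter ↥(GF (F ^ m) G))}

/-- the torus of the cuspidal block -/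
theorem core {C : Subgroup Y} (X' : Datum p ρ F C) (hr : r.Prime) (hmr : m < r) (hF : Fm F G l m n' N' α) (hM : IsPModular l M)
    {P : Subgroup ↥(GF (F ^ m) G)} [Fintype (centralizer (P : Set ↥(GF (F ^ m) G)))]
    {β : MulAut (centralizer (P : Set ↥(GF (F ^ m) G)))} {b : Set (IrrCharacter (centralizer (P : Set ↥(GF (F ^ m) G))))}
    (H : Top r M α B P (centralizer (P : Set ↥(GF (F ^ m) G))).subtype β b) (hCG : C ≤ G)
    (hC : ∀ g : GF (F ^ m) G, g ∈ centralizer (P : Set ↥(GF (F ^ m) G)) ↔ (g : Y) ∈ C) (hP0 : ∀ g ∈ P, (g : Y) ∈ Z0 X' ∅)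
    (TA : TAs X' l r m M) :
    ∃ y ∈ C, y⁻¹ * F y ∈ X'.NN ∧ P = Pt F G m r (cj y X'.T) ∧
      IsDefectGroup l M b ((Pt F G m l (cj y X'.T)).subgroupOf (centralizer (P : Set ↥(GF (F ^ m) G)))) := by
  have hle : GF (F ^ m) C ≤ GF (F ^ m) G := inf_le_inf_right _ hCG
  have : Finite (GF (F ^ m) C) := Finite.of_injective _ (inclusion_injective hle)
  let _ : Fintype (GF (F ^ m) C) := Fintype.ofFinite _
  have hrg : (inclusion hle).range = centralizer (P : Set ↥(GF (F ^ m) G)) := by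
    ext g
    rw [hC]
    exact ⟨fun ⟨x, h⟩ => h ▸ x.2.1, fun h => ⟨⟨g, h, g.2.2⟩, rfl⟩⟩
  have hP : P ≤ (inclusion hle).range := fun g hg => ⟨⟨g, X'.T_le_G (Z0_le_T _ _ (hP0 g hg)), g.2.2⟩, rfl⟩
  obtain ⟨γ, b', e, hb', sb', hc, hd, hQ⟩ := trans (l := l) H.emb (inclusion_injective hle) hrg H.hb H.sb
  have ht : ∀ ψ ∈ b', (Nat.card (GF (F ^ m) C)).factorization r =
      (Nat.card P).factorization r + (charDegree (ψ : GF (F ^ m) C → ℂ)).factorization r := fun ψ hψ => by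
    obtain ⟨φ, hφ, h⟩ := hd ψ hψ
    rw [hc, h]
    exact (boxOs.all (hF.fr r hr hmr) hM H φ hφ).1.2
  have hR : P.comap (inclusion hle) ≤ Pt F C m r (Z0 X' ∅) := fun g hg' => by
    obtain ⟨j, hj⟩ := H.rp ⟨_, hg'⟩
    exact subset_closure ⟨hP0 _ hg', j, inclusion_injective hle (by rw [map_pow, map_one]; exact congrArg Subtype.val hj)⟩
  obtain ⟨y, hy, hN, h1, h2⟩ := TA n' N' γ ⟨fun g => (congrArg Subtype.val (e.cm g)).trans (hF.cm _), fun s hs h => (hF.fr s hs h).sub e⟩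
    b' hb' sb' fun ψ hψ => by
      have h3 := (Nat.factorization_le_iff_dvd Nat.card_pos.ne' Nat.card_pos.ne').2 (card_dvd_of_le hR) r
      rw [card_comap (inclusion_injective hle) hP] at h3
      rw [Si.Tt, ht ψ hψ, add_comm]
      exact Nat.add_le_add_left h3 _
  have hT : cj y X'.T ≤ C := X'.conj_T hy hN ▸ (X'.conj hy hN).T_le_G
  rw [X'.conj_T] at h1 h2
  have := Blocks.Local.isPrime_of_isPModular hM
  obtain ⟨ψ, hψ⟩ := Blocks.Basic.isPBlock_nonempty hb'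
  refine ⟨y, hy, hN, ?_, map_Pt hle hT ▸ hQ _ h1⟩
  rw [← map_Pt hle hT, h2, eq_of_tight hr (inclusion_injective hle) hP (pg_Pt X' (Z0_le_T _ _)) (cen_Pt X' (Z0_le X')) hR (ht ψ hψ)]

/-- the datum of the centraliser -/
theorem levi (hX : Cs X q n c) (hr : r.Prime) (hW : Nat.card X.W < r) {P : Subgroup ↥(GF (F ^ m) G)} (hP : IsPGroup r P) {Z : Set Y}
    (hPZ : Subtype.val '' (P : Set ↥(GF (F ^ m) G)) = Z) (hZ : Z ⊆ X.T) (hF : ∀ z ∈ Z, F z ∈ Z) :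
    ∃ (C : Subgroup Y) (X' : Datum p ρ F C), Cs X' q n c ∧ C ≤ G ∧ X'.T = X.T ∧ X'.NN ≤ X.NN ∧
      (∀ g : GF (F ^ m) G, g ∈ centralizer (P : Set ↥(GF (F ^ m) G)) ↔ (g : Y) ∈ C) ∧ ∀ g ∈ P, (g : Y) ∈ Z0 X' ∅ := by
  have : Fact r.Prime := ⟨hr⟩
  have hz : ∀ z ∈ Z, ∃ j, z ^ r ^ j = 1 := by
    rw [← hPZ]
    rintro _ ⟨a, ha, rfl⟩
    exact (hP ⟨a, ha⟩).imp fun _ h => congrArg (fun x : P => ((x : GF (F ^ m) G) : Y)) h
  have hC := cen_eq X (Nat.not_dvd_of_pos_of_lt Nat.card_pos hW) hZ hz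
  have hg : ∀ a ∈ X.Sz Z, X.g a ∈ X.Sz Z := fun _ => X.g_mem_Sz hZ hF
  refine ⟨_, X.sub hZ hg rfl, cs_sub X hX hZ hg, X.cen_le_G Z, X.sub_T hZ hg rfl, (X.sub_NN hZ hg rfl).le.trans inf_le_left,
    fun g => ?_, fun g hg' => ?_⟩
  · rw [← hC, ← hPZ]
    refine ⟨fun h => ⟨g.2.1, ?_⟩, fun h a ha => Subtype.ext (h.2 _ ⟨a, ha, rfl⟩)⟩
    rintro _ ⟨a, ha, rfl⟩
    exact congrArg Subtype.val (h a ha)
  · have h1 : (g : Y) ∈ Z := hPZ ▸ ⟨_, hg', rfl⟩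
    obtain ⟨j, hj⟩ := hz _ h1
    exact Si.Lb.mem_Z0_sub X hZ hg h1 hr hW hj

/-- the end -/
theorem fin (hr : r.Prime) (hmr : m < r) (hF : Fm F G l m n' N' α) (hM : IsPModular l M)
    [Fintype (centralizer (Pt F G m r X.T : Set ↥(GF (F ^ m) G)))]
    {β : MulAut (centralizer (Pt F G m r X.T : Set ↥(GF (F ^ m) G)))}
    {b : Set (IrrCharacter (centralizer (Pt F G m r X.T : Set ↥(GF (F ^ m) G))))}
    (H : Top r M α B (Pt F G m r X.T) (centralizer (Pt F G m r X.T : Set ↥(GF (F ^ m) G))).subtype β b)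
    (hD : IsDefectGroup l M b ((Pt F G m l X.T).subgroupOf (centralizer (Pt F G m r X.T : Set ↥(GF (F ^ m) G)))))
    (W1 : normalizer (Pt F G m r X.T : Set ↥(GF (F ^ m) G)) ⊓
      centralizer (Pt F G m l (Z0 X (Subtype.val '' (Pt F G m r X.T : Set ↥(GF (F ^ m) G)))) : Set ↥(GF (F ^ m) G)) ≤
        centralizer (Pt F G m r X.T : Set ↥(GF (F ^ m) G)))
    (hT : T2 l r (centralizer (Pt F G m r X.T : Set ↥(GF (F ^ m) G))).subtype (Pt F G m r X.T) B b) {Z : Subgroup ↥(GF (F ^ m) G)}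
    (hZ : Z ≤ center _) (pZ : IsPGroup l Z) (hz : HZr l Z B) :
    ∃ D S, IsDefectGroup l M B D ∧ Ou l Z D (Pt F G m r X.T) (Pt F G m l X.T) S := by
  have h := hF.fr r hr hmr
  have key : ∀ g, α g ∈ Pt F G m l X.T ↔ g ∈ Pt F G m l X.T := fun g => by
    rw [mem_Pt X le_rfl, mem_Pt X le_rfl, hF.cm, X.F_mem_T_iff]
    simp only [← map_pow, map_eq_one_iff _ α.injective]
  obtain ⟨D, S, h1, h2, h3, h4⟩ := res h hM H (comm_Pt X) hD ⟨pg_Pt X le_rfl, comm_Pt X, boxSt.grp h.toGl _ (pg_Pt X le_rfl) key⟩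
    ((inf_le_inf_left _ (centralizer_le (mono_Pt (Z0_le_T X _)))).trans W1) hZ pZ hz
  rw [inf_eq_left.2 (h3 hT)] at h4
  exact ⟨D, S, h1, h2, h3 hT, h4⟩

end Gl

/-- **the glue** -/
theorem boxLie_of (W1 : BoxW1) (TA : BoxTA) (T2 : BoxT2) : BoxLie := by
  intro p _ q d l n c hq
  refine ((((W1 p q d l n c hq).and (TA p q d l n c hq)).and (T2 p q d l n c hq)).and (Lg.gt (c + p))).mono ?_
  rintro m ⟨⟨⟨w1, ta⟩, t2⟩, hm⟩ r hr k _ _ Y _ N _ _ ρ F G _ X hX _ n' N' α M hF hM Z B hZ hB sB hz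
  have hmr := hr.mr
  have hW : Nat.card X.W < r := by
    have := hX.w
    omega
  obtain ⟨P, hs, _, b, H⟩ := boxOs.ex (hF.fr r hr.rp hmr) hM B hB sB
  have hFP : ∀ z ∈ Subtype.val '' (P : Set (GF (F ^ m) G)), F z ∈ Subtype.val '' (P : Set (GF (F ^ m) G)) := by
    rintro _ ⟨a, ha, rfl⟩
    exact ⟨α a, (hs a).2 ha, hF.cm a⟩
  obtain ⟨y, hy, hN, h1⟩ := Gl.frame X hr.rp (by omega) hW (by omega) H.rp hFP
  obtain ⟨C, X', hX', hCG, hT, hNN, hC, hP0⟩ := Gl.levi _ (Gl.cs_conj X hX hy hN) hr.rp hW H.rp rfl h1 hFP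
  obtain ⟨y', hy', hN', h2, h3⟩ := Gl.core X' hr.rp hmr hF hM H hCG hC hP0 fun n' N' α hF => ta r hr X' hX' n' N' α M hF hM
  have hN2 : (y' * y)⁻¹ * F (y' * y) ∈ X.NN := by
    have h4 := hNN hN'
    rw [X.conj_NN, mem_cj] at h4
    convert mul_mem h4 hN using 1
    rw [map_mul]
    group
  have hy2 := mul_mem (hCG hy') hy
  rw [hT, X.conj_T, ← cj_mul, ← X.conj_T hy2 hN2] at h2 h3
  have t := t2 r hr X hX n' N' α M hF hM B P _ b H
  generalize hs.cen.res = β at H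
  subst h2
  exact ⟨y' * y, hy2, hN2, Gl.fin (X.conj hy2 hN2) hr.rp hmr hF hM H h3
    (w1 r hr _ (Gl.cs_conj X hX _ _) n' N' α M hF hM) t (Gl.cen_Pt X hZ) (Gl.pg_Pt X fun _ h => (hZ h).1) hz⟩

end Cfsg.Agent.BZ.L
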