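import Cfsg.Agent.BZ.L.Defs
import Cfsg.Agent.BZ.Cov
import Cfsg.Agent.KM.Box
import Cfsg.Agent.KM.Tor.Bad

/-!
# BZ / L : the boxes for the finite reductive groups (helper91)

`K = G^(F^m)`, `α = F`; `q` has order `d` modulo `l` (modulo four if `l = 2`) and order `d m` modulo `r`.  All the boxes are uniform in
the class `Cs q n c` of data.  The paper proofs are in `notes/BZ/plan-L.md`.

* `BZr`, `Nq`, `Nr`, `Cs`, `Fm`, `Pt`, `Zl`, `Unif`;
* boxes `BoxDom`, `BoxScz`, `BoxFm`, `BoxDown`, `BoxW1`, `BoxAN`, `BoxTA`, `BoxT2`, `BoxLie`.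
-/

set_option autoImplicit false
set_option linter.unusedSectionVars false

namespace Cfsg.Agent.BZ.L

open Cfsg Subgroup Cfsg.Agent.HZ.Gen Cfsg.Agent.KM Cfsg.Agent.BZ.Lab Cfsg.Agent.DL Cfsg.Agent.KM.Ht Cfsg.Agent.KM.Tor

/-- the height zero property over the trivial character of `Z` forces `D / Z` to be abelian -/
def BZr (l : ℕ) (M : Ideal AlgInt) (H : Type) [Group H] (Z : Subgroup H) : Prop :=
  ∀ (B : Set (IrrCharacter H)) (D : Subgroup H), IsPBlock M B → IsDefectGroup l M B D → HZr l Z B → ⁅D, D⁆ ≤ Z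

/-- the same for the stable blocks -/
def BZs (l : ℕ) (M : Ideal AlgInt) {K : Type} [Group K] (α : MulAut K) (Z : Subgroup K) : Prop :=
  ∀ (B : Set (IrrCharacter K)), IsPBlock M B → StB α B → HZr l Z B → ∃ D, IsDefectGroup l M B D ∧ ⁅D, D⁆ ≤ Z

/-- the primes and the parameter -/
structure Nq (p q d l : ℕ) : Prop where
  lp : l.Prime
  ne : l ≠ p
  pq : ∃ f, 0 < f ∧ q = p ^ f
  dl : orderOf (q : ZMod (if l = 2 then 4 else l)) = d

/-- the auxiliary prime -/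
structure Nr (q d r m : ℕ) : Prop where
  rp : r.Prime
  mr : m < r
  ord : orderOf (q : ZMod r) = d * m

section Dat

variable {p : ℕ} [Fact p.Prime] {k : Type} [Field k] [CharP k p] {Y : Type} [Group Y] {N : Type} [Fintype N]
  [DecidableEq N] {ρ : Y →* GL N k} {F : MulAut Y} {G : Subgroup Y} [IsAlgClosed k] (X : Datum p ρ F G)

/-- the class of data: `F` is `q` times an automorphism of order dividing `n`, the sizes are bounded by `c` -/
structure Cs (q n c : ℕ) : Prop where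
  n0 : 0 < n
  lq : Si.Lq X 1 n q
  ex : ∀ a, X.Rt a → p ^ X.ex a = q
  w : Nat.card X.W ≤ c
  rt : {a | X.Rt a}.ncard ≤ c
  rk : Fintype.card X.R ≤ c

/-- the `s`-part of the group of the fixed points of `F ^ m` in `S` (for `S` abelian) -/
def Pt (F : MulAut Y) (G : Subgroup Y) (m s : ℕ) (S : Subgroup Y) : Subgroup ↥(GF (F ^ m) G) :=
  closure {g | (g : Y) ∈ S ∧ ∃ j, g ^ s ^ j = 1}

/-- the central `l`-elements -/
def Zl (m l : ℕ) : Subgroup ↥(GF (F ^ m) G) := Pt F G m l (Zc X {a | X.Rt a})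

end Dat

/-- the frame -/
structure Fm {Y : Type} [Group Y] (F : MulAut Y) (G : Subgroup Y) (l m n N : ℕ) (α : MulAut ↥(GF (F ^ m) G)) : Prop where
  cm : ∀ g, (α g : Y) = F g
  fr : ∀ s, s.Prime → m < s → Fr l s m n N ↥(GF (F ^ m) G) α

/-- a statement which holds for all large `m`, uniformly in the class, in every frame -/
def Unif (P : ∀ {p : ℕ} [Fact p.Prime] {k : Type} [Field k] [CharP k p] {Y : Type} [Group Y] {N : Type} [Fintype N]
    [DecidableEq N] {ρ : Y →* GL N k} {F : MulAut Y} {G : Subgroup Y} [IsAlgClosed k] (_ : Datum p ρ F G) (_ _ _ _ m : ℕ)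
    [Fintype ↥(GF (F ^ m) G)] (_ : MulAut ↥(GF (F ^ m) G)) (_ : Ideal AlgInt), Prop) : Prop :=
  ∀ (p : ℕ) [Fact p.Prime] (q d l n c : ℕ), Nq p q d l → Lg fun m => ∀ r, Nr q d r m →
    ∀ {k : Type} [Field k] [CharP k p] {Y : Type} [Group Y] {N : Type} [Fintype N] [DecidableEq N] {ρ : Y →* GL N k} {F : MulAut Y}
      {G : Subgroup Y} [IsAlgClosed k] (X : Datum p ρ F G), Cs X q n c → ∀ [Fintype ↥(GF (F ^ m) G)] (n' N' : ℕ)
      (α : MulAut ↥(GF (F ^ m) G)) (M : Ideal AlgInt), Fm F G l m n' N' α → IsPModular l M → P X q d l r m α M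

/-- central quotients: `φ` kills the central `l`-group `Z`, its kernel is central -/
def BoxDom : Prop :=
  ∀ {l : ℕ} {M : Ideal AlgInt} {H K : Type} [Group H] [Finite H] [Group K] (φ : H →* K) (Z : Subgroup H), IsPModular l M →
    Function.Surjective φ → φ.ker ≤ center H → Z ≤ φ.ker → IsPGroup l Z → ¬ l ∣ Z.relIndex φ.ker → BZr l M H Z →
    ∀ (B : Set (IrrCharacter K)) (D : Subgroup K), IsPBlock M B → IsDefectGroup l M B D → BK.HZ l B → BK.Ab D

/-- a row from a simply connected datum, `l` may divide the order of the centre -/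
def BoxScz : Prop := AllD fun {p} _ _ _ _ _ _ _ _ _ _ {F} {G} _ X => ∀ (S : Type) [Group S] (_ : Sc X S) (l : ℕ) [Fact l.Prime],
  l ≠ p → (∀ M, IsPModular l M → BZr l M ↥(GF (F ^ 1) G) (Zl X 1 l)) → ∀ (A : Type) [CommGroup A], HasSchurMultiplier S A →
  (∀ n, p ∣ n → n ∣ Monoid.exponent A → Cov XP n l S) → RowP l S

/-- the frames exist, uniformly -/
def BoxFm : Prop :=
  ∀ (p : ℕ) [Fact p.Prime] (q d l n c : ℕ), Nq p q d l → Lg fun m => (∃ r, Nr q d r m) ∧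
    ∀ {k : Type} [Field k] [CharP k p] {Y : Type} [Group Y] {N : Type} [Fintype N] [DecidableEq N] {ρ : Y →* GL N k} {F : MulAut Y}
      {G : Subgroup Y} [IsAlgClosed k] (X : Datum p ρ F G), Cs X q n c → ∃ (n' N' : ℕ) (α : MulAut ↥(GF (F ^ m) G)), Fm F G l m n' N' α

/-- Glauberman - Watanabe descent; `Z` is any group of central `l`-elements -/
def BoxDown : Prop := AllD fun {p} _ _ _ _ {Y} _ _ _ _ _ {F} {G} _ X => ∀ (q d l n c : ℕ) (M : Ideal AlgInt) (Z : Subgroup Y),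
  Nq p q d l → Cs X q n c → IsPModular l M → Z ≤ Zc X {a | X.Rt a} →
  (Lg fun m => ∀ r, Nr q d r m → ∀ [Fintype ↥(GF (F ^ m) G)] (n' N' : ℕ) (α : MulAut ↥(GF (F ^ m) G)), Fm F G l m n' N' α →
    BZs l M α (Pt F G m l Z)) → BZr l M ↥(GF (F ^ 1) G) (Pt F G 1 l Z)

/-- [W1] Minkowski -/
def BoxW1 : Prop := Unif fun {_} _ _ _ _ _ _ _ _ _ _ {F} {G} _ X _ _ l r m _ _ _ =>
  normalizer (Pt F G m r X.T : Set ↥(GF (F ^ m) G)) ⊓
      centralizer (Pt F G m l (Z0 X (Subtype.val '' (Pt F G m r X.T : Set ↥(GF (F ^ m) G)))) : Set ↥(GF (F ^ m) G)) ≤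
    centralizer (Pt F G m r X.T : Set ↥(GF (F ^ m) G))

/-- [AN] a cuspidal block of central defect has an anisotropic torus -/
def BoxAN : Prop := Unif fun {_} _ _ _ _ _ _ _ _ _ _ {F} {G} _ X _ _ l r m _ α M =>
  ∀ (B : Set (IrrCharacter ↥(GF (F ^ m) G))) (A : Subgroup ↥(GF (F ^ m) G)), IsPBlock M B → StB α B → IsDefectGroup l M B A →
    A ≤ center _ → Mx r ((Nat.card (Pt F G m r (Z0 X ∅))).factorization r) B →
    ∃ y, ∃ (hy : y ∈ G) (hN : y⁻¹ * F y ∈ X.NN), Pt F G m l (X.conj hy hN).T = A ∧ Pt F G m r (X.conj hy hN).T = Pt F G m r (Z0 X ∅)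

/-- [TA] the defect groups of a cuspidal block -/
def BoxTA : Prop := Unif fun {_} _ _ _ _ _ _ _ _ _ _ {F} {G} _ X _ _ l r m _ α M =>
  ∀ (B : Set (IrrCharacter ↥(GF (F ^ m) G))), IsPBlock M B → StB α B → Mx r ((Nat.card (Pt F G m r (Z0 X ∅))).factorization r) B →
    ∃ y, ∃ (hy : y ∈ G) (hN : y⁻¹ * F y ∈ X.NN), IsDefectGroup l M B (Pt F G m l (X.conj hy hN).T) ∧
      Pt F G m r (X.conj hy hN).T = Pt F G m r (Z0 X ∅)

/-- [T2] the defects in a Harish-Chandra series -/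
def BoxT2 : Prop := Unif fun {_} _ _ _ _ _ _ _ _ _ _ {F} {G} _ _ _ _ l r m _ α M =>
  ∀ (B : Set (IrrCharacter ↥(GF (F ^ m) G))) (P : Subgroup ↥(GF (F ^ m) G)) [Fintype ↥(centralizer (P : Set ↥(GF (F ^ m) G)))]
    (β : MulAut ↥(centralizer (P : Set ↥(GF (F ^ m) G)))) (b : Set (IrrCharacter ↥(centralizer (P : Set ↥(GF (F ^ m) G))))),
    Top r M α B P (centralizer (P : Set ↥(GF (F ^ m) G))).subtype β b → T2 l r (centralizer (P : Set ↥(GF (F ^ m) G))).subtype P B b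

/-- the output of the engine for the torus `T` : `P = T_r`, `Q = T_l` -/
structure Ou (l : ℕ) {K : Type} [Group K] (Z D P Q S : Subgroup K) : Prop where
  res : Res l Z D P Q S
  nq : D ≤ normalizer (Q : Set K)
  nb : l = 2 → (centralizer (P : Set K)).relIndex (normalizer (P : Set K)) = 2 → Nat.card Q = 8 * Nat.card Z →
    Nat.card D = 16 * Nat.card Z → ⁅D, D⁆ ≤ Z

/-- **the interface of the rows** -/
def BoxLie : Prop := Unif fun {_} _ _ _ _ {Y} _ _ _ _ _ {F} {G} _ X _ _ l r m _ α M =>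
  ∀ (Z : Subgroup Y) (B : Set (IrrCharacter ↥(GF (F ^ m) G))), Z ≤ Zc X {a | X.Rt a} → IsPBlock M B → StB α B →
    HZr l (Pt F G m l Z) B → ∃ y, ∃ (hy : y ∈ G) (hN : y⁻¹ * F y ∈ X.NN) (D S : Subgroup ↥(GF (F ^ m) G)), IsDefectGroup l M B D ∧
      Ou l (Pt F G m l Z) D (Pt F G m r (X.conj hy hN).T) (Pt F G m l (X.conj hy hN).T) S

end Cfsg.Agent.BZ.L
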