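import Cfsg.Agent.BZ.Lab.Defs
import Cfsg.Agent.KM.Si.Defs

/-!
# BZ / L : the engine without `Fam` (helper91)

Frame of `BZ/Lab/Defs` (`K = G^(F^m)`, `α = F`, `r` huge).  `Top` : `P` is an `r`-defect group of maximal order among the members of `B`,
`L = C(P)`, and `b` is a block of `L` below `B`.  No family hypothesis: the descent to the centralisers of `l`-subgroups replaces it.

* `Mx`, `Un`, `Ac`, `Top`, `T2`, `Inv`, `OrbC`, `Res`;
* boxes `BoxOs`, `BoxSub`, `BoxLoc`, `BoxY`, `BoxBes`, `BoxCd`, `BoxCrit`, `BoxDef2`, `BoxStar`, `BoxPair`, `BoxRes`, `BoxNb`.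
-/

set_option autoImplicit false

namespace Cfsg.Agent.BZ.L

open Cfsg Subgroup Cfsg.Agent.HZ.Gen Cfsg.Agent.KM Cfsg.Agent.BZ.Lab

section defs

variable {K L : Type} [Group K] [Group L]

/-- all members have `r`-defect at most `j` -/
def Mx (r j : ℕ) (B : Set (IrrCharacter K)) : Prop := ∀ ξ ∈ B, Si.Tt r j ξ

/-- `ψ` is a constituent of the restriction of `ξ` -/
def Un (r : ℕ) [Fintype L] (ι : L →* K) (P : Subgroup K) (ψ : L → ℂ) (ξ : K → ℂ) : Prop := classInner (rs r P ξ ∘ ι) ψ ≠ 0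

/-- `S` is the centraliser of `Q` up to an `l`-group -/
def Ac (l : ℕ) (Q S : Subgroup K) : Prop :=
  S ≤ centralizer (Q : Set K) ∧ ∀ y ∈ centralizer (Q : Set K), ¬ l ∣ orderOf y → y ∈ S

/-- an abelian `l`-subgroup of fixed elements -/
structure Fx (l : ℕ) (α : MulAut K) (Q : Subgroup K) : Prop where
  pg : IsPGroup l Q
  ab : Q ≤ centralizer (Q : Set K)
  fix : ∀ x ∈ Q, α x = x

/-- **the top pair** -/
structure Top (r : ℕ) (M : Ideal AlgInt) [Fintype L] (α : MulAut K) (B : Set (IrrCharacter K)) (P : Subgroup K) (ι : L →* K)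
    (β : MulAut L) (b : Set (IrrCharacter L)) : Prop where
  rp : IsPGroup r P
  st : StS α P
  emb : Emb ι β α
  rg : ι.range = centralizer (P : Set K)
  hB : IsPBlock M B
  sB : StB α B
  hb : IsPBlock M b
  sb : StB β b
  mx : Mx r ((Nat.card P).factorization r) B
  lnk : ∃ ξ ∈ B, ∃ ψ ∈ b, Un r ι P (ψ : L → ℂ) (ξ : K → ℂ)

/-- the defect of `ξ` is at most the defect of `ψ` plus the valuation of the order of the stabiliser of `ψ` in `N(P) / C(P)` -/
def T2 (l r : ℕ) [Fintype L] (ι : L →* K) (P : Subgroup K) (B : Set (IrrCharacter K)) (b : Set (IrrCharacter L)) : Prop :=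
  ∀ ξ ∈ B, ∀ ψ ∈ b, Un r ι P (ψ : L → ℂ) (ξ : K → ℂ) →
    (Nat.card K).factorization l + (charDegree (ψ : L → ℂ)).factorization l + (Orb ι P (ψ : L → ℂ)).ncard.factorization l ≤
      (Nat.card L).factorization l + (charDegree (ξ : K → ℂ)).factorization l +
        ((centralizer (P : Set K)).relIndex (normalizer (P : Set K))).factorization l

/-- `θ` is invariant under `S` -/
def Inv (Q S : Subgroup K) (θ : Q →* ℂˣ) : Prop := ∀ g ∈ S, ∀ y y' : Q, (y' : K) = g * y * g⁻¹ → θ y' = θ y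

/-- the orbit of `θ` under `S` -/
def OrbC (Q S : Subgroup K) (θ : Q →* ℂˣ) : Set (Q →* ℂˣ) :=
  {θ' | ∃ g ∈ S, ∀ y y' : Q, (y' : K) = g * y * g⁻¹ → θ' y' = θ y}

/-- **the output** : `Q` is the abelian defect group of `b`, `S / (C(P) ⊓ C(Q))` is the automizer of the centric Brauer pair over `Q` -/
structure Res (l : ℕ) (Z D P Q S : Subgroup K) : Prop where
  pg : IsPGroup l D
  zq : Z ≤ Q
  le : Q ≤ D
  sp : S ≤ normalizer (P : Set K)
  sq : S ≤ normalizer (Q : Set K)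
  cs : centralizer (P : Set K) ⊓ centralizer (Q : Set K) ≤ S
  cen : D ⊓ centralizer (Q : Set K) ≤ Q
  nrm : ∀ x ∈ D, x ∈ normalizer (Q : Set K) → ∃ c ∈ centralizer (Q : Set K), x * c ∈ S
  syl : (Q.relIndex (D ⊓ normalizer (Q : Set K))).factorization l =
    ((centralizer (P : Set K) ⊓ centralizer (Q : Set K)).relIndex S).factorization l
  reg : ¬ l ∣ (centralizer (P : Set K) ⊓ centralizer (Q : Set K)).relIndex (S ⊓ centralizer (P : Set K))
  orb : ∀ θ : Q →* ℂˣ, (∀ z : Q, (z : K) ∈ Z → θ z = 1) → Inv Q (S ⊓ centralizer (P : Set K)) θ → ¬ l ∣ (OrbC Q S θ).ncard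

end defs

/-- the top pair exists; Osima's argument -/
structure BoxOs : Prop where
  ex : ∀ {l r m n N : ℕ} {K : Type} [Group K] [Fintype K] {α : MulAut K} {M : Ideal AlgInt}, Fr l r m n N K α → IsPModular l M →
    ∀ B : Set (IrrCharacter K), IsPBlock M B → StB α B → ∃ (P : Subgroup K) (h : StS α P) (_ : Fintype (centralizer (P : Set K)))
      (b : Set (IrrCharacter (centralizer (P : Set K)))), Top r M α B P (centralizer (P : Set K)).subtype h.cen.res b
  all : ∀ {l r m n N : ℕ} {K L : Type} [Group K] [Fintype K] [Group L] [Fintype L] {α : MulAut K} {β : MulAut L} {ι : L →* K}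
    {M : Ideal AlgInt} {B : Set (IrrCharacter K)} {P : Subgroup K} {b : Set (IrrCharacter L)}, Fr l r m n N K α → IsPModular l M →
    Top r M α B P ι β b → ∀ ψ ∈ b, Tight r ι P (ψ : L → ℂ) ∧ ∃ ξ ∈ B, Un r ι P (ψ : L → ℂ) (ξ : K → ℂ) ∧
      ∀ z : L, ι z ∈ center K → (ξ : K → ℂ) (ι z) / (ξ : K → ℂ) 1 = (ψ : L → ℂ) z / (ψ : L → ℂ) 1

/-- small `r`-defects pass to the blocks of the centralisers; central `r`-subgroups are small -/
structure BoxSub : Prop where
  sub : ∀ {l r m n N j : ℕ} {K C : Type} [Group K] [Fintype K] [Group C] [Fintype C] {α : MulAut K} {γ : MulAut C} {κ : C →* K}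
    {M : Ideal AlgInt} {B : Set (IrrCharacter K)} {Q : Subgroup K}, Fr l r m n N K α → IsPModular l M → IsPBlock M B → StB α B →
    Mx r j B → Fx l α Q → Emb κ γ α → Ac l Q κ.range → ∀ η : IrrCharacter C, St γ (η : C → ℂ) →
      (∃ ξ ∈ B, Up l M κ (η : C → ℂ) (ξ : K → ℂ)) → Mx r j (blockOf M (η : C → ℂ))
  mx : ∀ {l r m n N j : ℕ} {K : Type} [Group K] [Fintype K] {α : MulAut K} {M : Ideal AlgInt} {B : Set (IrrCharacter K)}
    {D A R : Subgroup K}, Fr l r m n N K α → IsPModular l M → IsPBlock M B → StB α B → Mx r j B → IsDefectGroup l M B D →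
    (∀ x ∈ D, α x = x) → A ≤ D → A ≤ centralizer (A : Set K) → IsPGroup r R → R ≤ centralizer (A : Set K) →
    (∀ y ∈ centralizer (A : Set K), ¬ l ∣ orderOf y → y ∈ centralizer (R : Set K)) → Nat.card R ≤ r ^ j

/-- the blocks of the (connected) centralisers of the abelian subgroups of the defect group -/
def BoxLoc : Prop :=
  ∀ {l m N : ℕ} {K C : Type} [Group K] [Fintype K] [Group C] [Fintype C] {α : MulAut K} {γ : MulAut C} {κ : C →* K}
    {M : Ideal AlgInt} {B : Set (IrrCharacter K)} {D A : Subgroup K}, Gl l m N K α → IsPModular l M → IsPBlock M B → StB α B →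
    IsDefectGroup l M B D → (∀ x ∈ D, α x = x) → A ≤ D → A ≤ centralizer (A : Set K) → Emb κ γ α → Ac l A κ.range →
    centralizer (A : Set K) ≤ normalizer (κ.range : Set K) →
      ∃ (η : IrrCharacter C) (E : Subgroup C), St γ (η : C → ℂ) ∧ (∀ ξ ∈ B, Up l M κ (η : C → ℂ) (ξ : K → ℂ)) ∧
        IsDefectGroup l M (blockOf M (η : C → ℂ)) E ∧ (∀ x ∈ E, γ x = x) ∧ D ⊓ κ.range ≤ E.map κ ∧
        (∃ g, α g = g ∧ ∀ x ∈ E, g * κ x * g⁻¹ ∈ D) ∧
        (D ≤ normalizer (A : Set K) → D ≤ normalizer (κ.range : Set K) → E.map κ ≤ D)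

/-- **the descent** : `J = C(P) ⊓ C(Q)` -/
def BoxY : Prop :=
  ∀ {l r m n N : ℕ} {K L C J : Type} [Group K] [Fintype K] [Group L] [Fintype L] [Group C] [Fintype C] [Group J] [Fintype J]
    {α : MulAut K} {β : MulAut L} {γ : MulAut C} {δ : MulAut J} {ι : L →* K} {κ : C →* K} {ι' : J →* C} {κ' : J →* L}
    {M : Ideal AlgInt} {B : Set (IrrCharacter K)} {P Q : Subgroup K} {b : Set (IrrCharacter L)}, Fr l r m n N K α → IsPModular l M →
    Top r M α B P ι β b → Fx l α Q → Q ≤ centralizer (P : Set K) → Emb κ γ α → κ.range = centralizer (Q : Set K) → Emb ι' δ γ →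
    ι'.range = centralizer (P.comap κ : Set C) → (∀ y, ι (κ' y) = κ (ι' y)) → ∀ φ : IrrCharacter J, St δ (φ : J → ℂ) →
      (∃ ψ ∈ b, Up l M κ' (φ : J → ℂ) (ψ : L → ℂ)) → ∃ η : IrrCharacter C, (∀ ξ ∈ B, Up l M κ (η : C → ℂ) (ξ : K → ℂ)) ∧
        Top r M γ (blockOf M (η : C → ℂ)) (P.comap κ) ι' δ (blockOf M (φ : J → ℂ))

/-- trivial relative Weyl group : one character above a tight character -/
def BoxBes : Prop :=
  ∀ {r n : ℕ} {K L : Type} [Group K] [Fintype K] [Group L] [Fintype L] {ι : L →* K} {P : Subgroup K}, r.Prime → Big K r n →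
    bd n 1 < r → IsPGroup r P → Function.Injective ι → ι.range = centralizer (P : Set K) →
    normalizer (P : Set K) ≤ centralizer (P : Set K) → ∀ {η : IrrCharacter K} {φ : IrrCharacter L}, Sm r 1 (η : K → ℂ) →
      Tight r ι P (φ : L → ℂ) → Un r ι P (φ : L → ℂ) (η : K → ℂ) →
        (∃ ε : ℂ, (ε = 1 ∨ ε = -1) ∧ ∀ y, rs r P (η : K → ℂ) (ι y) = ε * (φ : L → ℂ) y) ∧
          ∀ η' : IrrCharacter K, Sm r 1 (η' : K → ℂ) → Un r ι P (φ : L → ℂ) (η' : K → ℂ) → η' = η

/-- trivial relative Weyl group : central `l`-defect goes up -/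
def BoxCd : Prop :=
  ∀ {l r m n N : ℕ} {K L : Type} [Group K] [Fintype K] [Group L] [Fintype L] {α : MulAut K} {ι : L →* K} {P Q : Subgroup K},
    Fr l r m n N K α → IsPGroup r P → Function.Injective ι → ι.range = centralizer (P : Set K) →
    normalizer (P : Set K) ≤ centralizer (P : Set K) → IsPGroup l Q → Q ≤ center K → ∀ {η : IrrCharacter K} {φ : IrrCharacter L},
      Sm r 1 (η : K → ℂ) → Tight r ι P (φ : L → ℂ) → Un r ι P (φ : L → ℂ) (η : K → ℂ) →
      (∀ y x, IsPPart l (ι y) x → x ∉ Q → (φ : L → ℂ) y = 0) → ∀ g x, IsPPart l g x → x ∉ Q → (η : K → ℂ) g = 0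

/-- **heights and orbits** when the defect group of `b` is abelian -/
def BoxCrit : Prop :=
  ∀ {l r m n N : ℕ} {K L : Type} [Group K] [Fintype K] [Group L] [Fintype L] {α : MulAut K} {β : MulAut L} {ι : L →* K}
    {M : Ideal AlgInt} {B : Set (IrrCharacter K)} {P : Subgroup K} {b : Set (IrrCharacter L)} {Q : Subgroup L},
    Fr l r m n N K α → IsPModular l M → Top r M α B P ι β b → IsDefectGroup l M b Q → Fx l β Q →
    normalizer (P : Set K) ⊓ centralizer (Q.map ι : Set K) ≤ centralizer (P : Set K) → ∀ ξ ∈ B, ∀ ψ ∈ b,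
      Un r ι P (ψ : L → ℂ) (ξ : K → ℂ) → blockHeight l B (ξ : K → ℂ) = 0 →
        blockHeight l b (ψ : L → ℂ) = 0 ∧ ¬ l ∣ (Orb ι P (ψ : L → ℂ) ∩ b).ncard

/-- the defect groups above a centric pair -/
def BoxDef2 : Prop :=
  ∀ {l : ℕ} {M : Ideal AlgInt} {K : Type} [Group K] [Fintype K] {Q : Subgroup K}, IsPModular l M → Q ≤ centralizer (Q : Set K) →
    ∀ (η : IrrCharacter (centralizer (Q : Set K))) (χ : IrrCharacter K),
      Up l M (centralizer (Q : Set K)).subtype (η : centralizer (Q : Set K) → ℂ) (χ : K → ℂ) →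
      IsDefectGroup l M (blockOf M (η : centralizer (Q : Set K) → ℂ)) (Q.subgroupOf (centralizer (Q : Set K))) →
      ∀ T : Subgroup K, (∀ g, g ∈ T ↔ g ∈ normalizer (Q : Set K) ∧
        Stab (centralizer (Q : Set K)).subtype (blockOf M (η : centralizer (Q : Set K) → ℂ)) g) →
        ∃ D, IsDefectGroup l M (blockOf M (χ : K → ℂ)) D ∧ Q ≤ D ∧ D ⊓ centralizer (Q : Set K) ≤ Q ∧
          D ⊓ normalizer (Q : Set K) ≤ T ∧
          (Q.relIndex (D ⊓ normalizer (Q : Set K))).factorization l = ((centralizer (Q : Set K)).relIndex T).factorization l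

/-- **the star action** : `lam` is the canonical character of a root of `b`, `S` is its stabiliser -/
def BoxStar : Prop :=
  ∀ {l : ℕ} {M : Ideal AlgInt} {K : Type} [Group K] [Fintype K] {L Q Z S : Subgroup K} {b : Set (IrrCharacter L)}, IsPModular l M →
    IsPBlock M b → Q ≤ L → IsDefectGroup l M b (Q.subgroupOf L) → Q ≤ centralizer (Q : Set K) → Z ≤ Q → Z ≤ center K →
    ∀ lam : IrrCharacter ↥(L ⊓ centralizer (Q : Set K)),
      (∀ ψ ∈ b, Up l M (inclusion inf_le_left) (lam : ↥(L ⊓ centralizer (Q : Set K)) → ℂ) (ψ : L → ℂ)) →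
      S ≤ normalizer (L : Set K) → S ≤ normalizer (Q : Set K) →
      (∀ g, g ∈ L → g ∈ normalizer (Q : Set K) →
        Stab (L ⊓ centralizer (Q : Set K)).subtype (blockOf M (lam : ↥(L ⊓ centralizer (Q : Set K)) → ℂ)) g → g ∈ S) →
      (∀ g ∈ S, Stab (L ⊓ centralizer (Q : Set K)).subtype (blockOf M (lam : ↥(L ⊓ centralizer (Q : Set K)) → ℂ)) g) →
      (∀ ψ ∈ b, Ov (Z.subgroupOf L) (ψ : L → ℂ) → blockHeight l b (ψ : L → ℂ) = 0 ∧
        ¬ l ∣ {ψ' : IrrCharacter L | ∃ g ∈ S, Cj L.subtype g (ψ : L → ℂ) (ψ' : L → ℂ)}.ncard) →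
      ∀ θ : Q →* ℂˣ, (∀ z : Q, (z : K) ∈ Z → θ z = 1) → Inv Q (S ⊓ L) θ → ¬ l ∣ (OrbC Q S θ).ncard

/-- the centric pair over the abelian defect group of `b`; `S` is the stabiliser of a root of `b` in `N(P) ⊓ N(Q)` -/
def BoxPair : Prop :=
  ∀ {l r m n N : ℕ} {K : Type} [Group K] [Fintype K] {α : MulAut K} {M : Ideal AlgInt} {B : Set (IrrCharacter K)} {P Q : Subgroup K}
    [Fintype (centralizer (P : Set K))] {β : MulAut (centralizer (P : Set K))} {b : Set (IrrCharacter (centralizer (P : Set K)))},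
    Fr l r m n N K α → IsPModular l M → Top r M α B P (centralizer (P : Set K)).subtype β b →
    Q ≤ centralizer (P : Set K) → IsDefectGroup l M b (Q.subgroupOf (centralizer (P : Set K))) → Fx l α Q →
    normalizer (P : Set K) ⊓ centralizer (Q : Set K) ≤ centralizer (P : Set K) →
    ∃ (lam : IrrCharacter ↥(centralizer (P : Set K) ⊓ centralizer (Q : Set K))) (η : IrrCharacter (centralizer (Q : Set K)))
      (S T : Subgroup K),
      (∀ ψ ∈ b, Up l M (inclusion inf_le_left) (lam : ↥(centralizer (P : Set K) ⊓ centralizer (Q : Set K)) → ℂ)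
        (ψ : centralizer (P : Set K) → ℂ)) ∧
      (∀ ξ ∈ B, Up l M (centralizer (Q : Set K)).subtype (η : centralizer (Q : Set K) → ℂ) (ξ : K → ℂ)) ∧
      IsDefectGroup l M (blockOf M (η : centralizer (Q : Set K) → ℂ)) (Q.subgroupOf (centralizer (Q : Set K))) ∧
      (∀ g, g ∈ S ↔ g ∈ normalizer (P : Set K) ∧ g ∈ normalizer (Q : Set K) ∧
        Stab (centralizer (P : Set K) ⊓ centralizer (Q : Set K)).subtype
          (blockOf M (lam : ↥(centralizer (P : Set K) ⊓ centralizer (Q : Set K)) → ℂ)) g) ∧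
      (∀ g, g ∈ T ↔ g ∈ normalizer (Q : Set K) ∧
        Stab (centralizer (Q : Set K)).subtype (blockOf M (η : centralizer (Q : Set K) → ℂ)) g) ∧
      (∀ g, g ∈ T ↔ ∃ c ∈ centralizer (Q : Set K), g * c ∈ S) ∧
      (∀ g ∈ normalizer (P : Set K), Stab (centralizer (P : Set K)).subtype b g ↔ ∃ c ∈ centralizer (P : Set K), g * c ∈ S) ∧
      ¬ l ∣ (centralizer (P : Set K) ⊓ centralizer (Q : Set K)).relIndex (S ⊓ centralizer (P : Set K))

/-- **the main theorem** -/
def BoxRes : Prop :=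
  ∀ {l r m n N : ℕ} {K : Type} [Group K] [Fintype K] {α : MulAut K} {M : Ideal AlgInt} {B : Set (IrrCharacter K)} {P Q Z : Subgroup K}
    [Fintype (centralizer (P : Set K))] {β : MulAut (centralizer (P : Set K))} {b : Set (IrrCharacter (centralizer (P : Set K)))},
    Fr l r m n N K α → IsPModular l M → Top r M α B P (centralizer (P : Set K)).subtype β b →
    Q ≤ centralizer (P : Set K) → IsDefectGroup l M b (Q.subgroupOf (centralizer (P : Set K))) → Fx l α Q →
    normalizer (P : Set K) ⊓ centralizer (Q : Set K) ≤ centralizer (P : Set K) → Z ≤ center K → IsPGroup l Z → HZr l Z B →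
    ∃ D S : Subgroup K, IsDefectGroup l M B D ∧ Res l Z D P Q S ∧
      (T2 l r (centralizer (P : Set K)).subtype P B b → D ≤ normalizer (Q : Set K)) ∧
      (l = 2 → (centralizer (P : Set K)).relIndex (normalizer (P : Set K)) = 2 → Nat.card Q = 8 * Nat.card Z →
        Nat.card ↥(D ⊓ normalizer (Q : Set K)) = 16 * Nat.card Z →
        ⁅D ⊓ normalizer (Q : Set K), D ⊓ normalizer (Q : Set K)⁆ ≤ Z)

/-- a block of defect three whose members are stable under an overgroup of index two -/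
def BoxNb : Prop :=
  ∀ {M : Ideal AlgInt} {H : Type} [Group H] [Fintype H] {L Z E : Subgroup H} [L.Normal] [Fintype L] {b : Set (IrrCharacter L)}
    {c : Set (IrrCharacter H)}, IsPModular 2 M → L.index = 2 → Z ≤ L → Z ≤ center H → IsPGroup 2 Z → IsPBlock M b → IsPBlock M c →
    (∃ χ ∈ c, ∃ ψ ∈ b, classInner ((χ : H → ℂ) ∘ L.subtype) (ψ : L → ℂ) ≠ 0) → IsDefectGroup 2 M c E → Nat.card E = 16 * Nat.card Z →
    ¬ E ≤ L → (∀ ψ ∈ b, Ov (Z.subgroupOf L) (ψ : L → ℂ) → blockHeight 2 b (ψ : L → ℂ) = 0 ∧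
      ∀ g, Cj L.subtype g (ψ : L → ℂ) (ψ : L → ℂ)) → ⁅E, E⁆ ≤ Z

end Cfsg.Agent.BZ.L
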