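import Cfsg.Agent.BZ.Lab.Cor

/-!
# BZ / L : group lemmas for `boxRes_of` (helper42)
-/

set_option autoImplicit false

namespace Cfsg.Agent.BZ.L.Rs

open Subgroup
open scoped commutatorElement

variable {K : Type} [Group K] {A C D J L Q S T Z : Subgroup K}

theorem rel_eq (h1 : S ≤ T) (h2 : ∀ g ∈ T, ∃ c ∈ C, g * c ∈ S) : C.relIndex T = C.relIndex S :=
  (Nat.card_congr (Equiv.ofBijective (quotientSubgroupOfEmbeddingOfLE C h1) ⟨(quotientSubgroupOfEmbeddingOfLE C h1).injective,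
    fun x => by
      obtain ⟨g, rfl⟩ := QuotientGroup.mk_surjective x
      obtain ⟨c, hc, h3⟩ := h2 g g.2
      exact ⟨QuotientGroup.mk ⟨_, h3⟩, (QuotientGroup.eq (s := C.subgroupOf T) (a := g) (b := ⟨_, h1 h3⟩) |>.2
        (show (g : K)⁻¹ * (g * c) ∈ C by rwa [inv_mul_cancel_left])).symm⟩⟩)).symm

theorem card_rel (h : Q ≤ D) : Nat.card Q * Q.relIndex D = Nat.card D := by
  rw [← (Q.subgroupOf D).card_mul_index, Nat.card_congr (subgroupOfEquivOfLe h).toEquiv]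
  rfl

theorem rel_two [Finite K] (h : Q ≤ D) (h1 : Nat.card D = 2 * Nat.card Q) : Q.relIndex D = 2 :=
  Nat.eq_of_mul_eq_mul_left (Nat.card_pos (α := Q)) ((card_rel h).trans (h1.trans (mul_comm _ _)))

theorem fac_rel [Finite K] (h : Q ≤ D) (l : ℕ) :
    (Nat.card D).factorization l = (Nat.card Q).factorization l + (Q.relIndex D).factorization l := by
  rw [← card_rel h, Nat.factorization_mul Nat.card_pos.ne' (show Q.relIndex D ≠ 0 from index_ne_zero_of_finite),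
    Finsupp.add_apply]

/-- a subgroup which is not contained in a subgroup of index two -/
theorem two_rel (h : L.index = 2) (hA : ¬ A ≤ L) : L.relIndex A = 2 := by
  obtain ⟨a, h1, h2⟩ := SetLike.not_le_iff_exists.1 hA
  refine relIndex_eq_two_iff_exists_notMem_and.2 ⟨a, h1, h2, fun b _ => ?_⟩
  rw [mul_mem_iff_of_index_two h]
  tauto

variable (S Q Z) in
/-- the elements which centralise `Q` modulo `Z` -/
def cz (hZ : Z ≤ center K) : Subgroup K where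
  carrier := {s | s ∈ S ∧ ∀ y ∈ Q, s * y * s⁻¹ * y⁻¹ ∈ Z}
  one_mem' := ⟨one_mem _, fun y _ => by simp⟩
  mul_mem' := fun {a b} ha hb => ⟨mul_mem ha.1 hb.1, fun y hy => by
    rw [show a * b * y * (a * b)⁻¹ * y⁻¹ = a * (b * y * b⁻¹ * y⁻¹) * a⁻¹ * (a * y * a⁻¹ * y⁻¹) by group,
      mem_center_iff.1 (hZ (hb.2 y hy)) a, mul_inv_cancel_right]
    exact mul_mem (hb.2 y hy) (ha.2 y hy)⟩
  inv_mem' := fun {a} ha => ⟨inv_mem ha.1, fun y hy => by
    rw [show a⁻¹ * y * a⁻¹⁻¹ * y⁻¹ = a⁻¹ * (a * y * a⁻¹ * y⁻¹)⁻¹ * a⁻¹⁻¹ by group,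
      mem_center_iff.1 (hZ (inv_mem (ha.2 y hy))) a⁻¹, mul_inv_cancel_right]
    exact inv_mem (ha.2 y hy)⟩

/-- the last step of the clause for defect three -/
theorem comm_le [Finite K] {N : Subgroup K} (hZ : Z ≤ center K) (hN : L.relIndex N = 2) (h0 : S ≤ N)
    (h1 : S ≤ normalizer (Q : Set K)) (h2 : L ⊓ centralizer (Q : Set K) ≤ S)
    (h3 : ((L ⊓ centralizer (Q : Set K)).relIndex S).factorization 2 = 1) {t : K} (t1 : t ∈ S) (t2 : t ∉ L)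
    (t3 : ∀ y ∈ Q, t * y * t⁻¹ * y⁻¹ ∈ Z) (hD : IsPGroup 2 D) (h4 : D ≤ normalizer (Q : Set K))
    (h5 : ∀ x ∈ D, ∃ c ∈ centralizer (Q : Set K), x * c ∈ S) (h6 : Q.relIndex D = 2) : ⁅D, D⁆ ≤ Z := by
  have : Fact (Nat.Prime 2) := ⟨Nat.prime_two⟩
  have a1 : cz Q S Z hZ ≤ S := fun _ h => h.1
  have a2 : ∀ s ∈ S, s ∈ centralizer (Q : Set K) → s ∈ cz Q S Z hZ := fun s hs hc => ⟨hs, fun y hy => by
    rw [← hc y hy, mul_inv_cancel_right, mul_inv_cancel]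
    exact one_mem _⟩
  have a3 : L ⊓ centralizer (Q : Set K) ≤ cz Q S Z hZ := fun s hs => a2 s (h2 hs) hs.2
  have a4 : ¬ 2 ∣ ((cz Q S Z hZ).subgroupOf S).index := fun e => by
    have k1 : L.relIndex (cz Q S Z hZ) = 2 := by
      rw [← relIndex_subgroupOf (a1.trans h0)]
      exact two_rel hN fun k => t2 (k (x := ⟨t, h0 t1⟩) ⟨t1, t3⟩)
    have k2 : 2 ^ 2 ∣ (L ⊓ centralizer (Q : Set K)).relIndex S := by
      rw [← relIndex_mul_relIndex _ _ _ a3 a1, sq]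
      exact mul_dvd_mul (k1 ▸ relIndex_dvd_of_le_left _ inf_le_left) e
    have k3 := (Nat.prime_two.pow_dvd_iff_le_factorization index_ne_zero_of_finite).1 k2
    exact absurd (h3 ▸ k3) (by decide)
  have a5 : ((cz Q S Z hZ).subgroupOf S).Normal := ⟨fun a ha g => ⟨(g * a * g⁻¹).2, fun y hy => by
    have k1 := (show (a : K) ∈ cz Q S Z hZ from ha).2 _ ((mem_normalizer_iff.1 (inv_mem (h1 g.2)) y).1 hy)
    change (g : K) * a * (g : K)⁻¹ * y * ((g : K) * a * (g : K)⁻¹)⁻¹ * y⁻¹ ∈ Z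
    rw [show (g : K) * a * (g : K)⁻¹ * y * ((g : K) * a * (g : K)⁻¹)⁻¹ * y⁻¹ = g * (a * ((g : K)⁻¹ * y * (g : K)⁻¹⁻¹) * (a : K)⁻¹ *
      ((g : K)⁻¹ * y * (g : K)⁻¹⁻¹)⁻¹) * (g : K)⁻¹ by group, mem_center_iff.1 (hZ k1) g, mul_inv_cancel_right]
    exact k1⟩⟩
  have a6 : ∀ x ∈ D, ∀ y ∈ Q, x * y * x⁻¹ * y⁻¹ ∈ Z := fun x hx => by
    obtain ⟨c, hc, hs⟩ := h5 x hx
    have k1 : ∀ y ∈ Q, x * c * y * (x * c)⁻¹ = x * y * x⁻¹ := fun y hy => by
      rw [mul_assoc x c y, ← hc y hy]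
      group
    have k2 : ∀ i : ℕ, ∀ y ∈ Q, (x * c) ^ i * y * ((x * c) ^ i)⁻¹ = x ^ i * y * (x ^ i)⁻¹ := fun i => by
      induction i with
      | zero => exact fun _ _ => by simp
      | succ i ih =>
        intro y hy
        rw [pow_succ, pow_succ, show (x * c) ^ i * (x * c) * y * ((x * c) ^ i * (x * c))⁻¹ =
          (x * c) ^ i * (x * c * y * (x * c)⁻¹) * ((x * c) ^ i)⁻¹ by simp only [mul_inv_rev, mul_assoc], k1 y hy,
          ih _ ((mem_normalizer_iff.1 (h4 hx) y).1 hy)]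
        simp only [mul_inv_rev, mul_assoc]
    obtain ⟨j, hj⟩ := hD ⟨x, hx⟩
    have k3 : x ^ 2 ^ j = 1 := congrArg Subtype.val hj
    have k4 : (⟨x * c, hs⟩ : S) ∈ (cz Q S Z hZ).subgroupOf S := Lab.Cor.mem_of_norm a4 ((normalizer_eq_top_iff.2 a5).ge (mem_top _)) (j := j)
      (a2 _ (pow_mem hs _) fun y hy => by
        have k5 := k2 (2 ^ j) y hy
        rw [k3, one_mul, inv_one, mul_one] at k5
        exact (mul_inv_eq_iff_eq_mul.1 k5).symm)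
    exact fun y hy => k1 y hy ▸ k4.2 y hy
  refine commutator_le.2 fun a ha b hb => ?_
  by_cases e : a ∈ Q
  · rw [← commutatorElement_inv]
    exact inv_mem (a6 b hb a e)
  by_cases e' : b ∈ Q
  · exact a6 a ha b e'
  have k1 : a⁻¹ * b ∈ Q := (mul_mem_iff_of_index_two (H := Q.subgroupOf D) h6 (a := ⟨a, ha⟩⁻¹) (b := ⟨b, hb⟩)).2
    (iff_of_false (fun k => e (inv_mem_iff.1 k)) e')
  have k2 := a6 a ha _ k1
  rw [show ⁅a, b⁆ = a * (a * (a⁻¹ * b) * a⁻¹ * (a⁻¹ * b)⁻¹) * a⁻¹ by rw [commutatorElement_def]; group,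
    mem_center_iff.1 (hZ k2) a, mul_inv_cancel_right]
  exact k2

end Cfsg.Agent.BZ.L.Rs
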