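import Cfsg.Agent.BZ.L.Defs
import Cfsg.Agent.BZ.L.ResG
import Cfsg.Agent.BZ.Lab.A
import Cfsg.Agent.BZ.Lab.Up
import Cfsg.Agent.BZ.Lab.Def
import Cfsg.Agent.H649.Transport

/-!
# BZ / L : the block of `N(P)` above `b` when `N(P) / C(P)` has order two (helper42)
-/

set_option autoImplicit false

namespace Cfsg.Agent.BZ.L.Rs

open Cfsg Subgroup Cfsg.Agent.BZ.Lab Cfsg.Agent.Blocks Cfsg.Agent.H649 MulAction

section tr

variable {K H J J' : Type} [Group K] [Group H] [Group J] [Group J'] (e : J ≃* J') {ι : J →* K} {ι' : J' →* H} {κ : H →* K}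
  (hκ : Function.Injective κ) (he : ∀ y, κ (ι' (e y)) = ι y) (g : H)
include hκ he

theorem cj_map (ψ ψ' : IrrCharacter J) :
    Cj ι' g (irrMap e ψ : J' → ℂ) (irrMap e ψ' : J' → ℂ) ↔ Cj ι (κ g) (ψ : J → ℂ) (ψ' : J → ℂ) :=
  ⟨fun h y y' k => (irrMap_apply' e ψ' y').symm.trans ((h (e y) (e y') (hκ (by
      rw [he, k, map_mul, map_mul, map_inv, he]))).trans (irrMap_apply' e ψ y)),
    fun h y y' k => h (e.symm y) (e.symm y') (by
      rw [← he, ← he, e.apply_symm_apply, e.apply_symm_apply, k, map_mul, map_mul, map_inv])⟩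

theorem stab_map (β : Set (IrrCharacter J)) : Stab ι' (blkMap e β) g ↔ Stab ι β (κ g) :=
  ⟨fun h ψ h1 ψ' h2 => irrMap_mem_blkMap.1 (h _ (irrMap_mem_blkMap.2 h1) _ ((cj_map e hκ he g ψ ψ').2 h2)),
    fun h ξ h1 ξ' h2 => mem_blkMap.2 (h _ (mem_blkMap.1 h1) _ ((cj_map e hκ he g _ _).1 (by
      rwa [irrMap_irrMap_symm, irrMap_irrMap_symm])))⟩

end tr

variable {M : Ideal AlgInt} {K : Type} [Group K] [Fintype K] {P Q S Z : Subgroup K} [Fintype (centralizer (P : Set K))]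
  {b : Set (IrrCharacter (centralizer (P : Set K)))}

omit [Fintype K] [Fintype (centralizer (P : Set K))] in
theorem orb_eq (ψ : IrrCharacter (centralizer (P : Set K))) : (Orb (centralizer (P : Set K)).subtype P ψ.1).ncard =
    (@stabilizer _ _ _ (Cor.aX (Cor.cn (Cor.norm_le P))) ψ).index := by
  rw [@index_stabilizer _ _ _ (Cor.aX (Cor.cn (Cor.norm_le P)))]
  exact congrArg Set.ncard (Set.ext fun ψ' => ⟨fun ⟨g, g1, g2⟩ => ⟨⟨g, g1⟩, (Cor.cj_iff _ ⟨g, g1⟩ _ _).1 g2⟩,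
    fun ⟨g, g1⟩ => ⟨g, g.2, (Cor.cj_iff _ g _ _).2 g1⟩⟩)

theorem cj_inn {L : Subgroup K} {g c : K} (hc : c ∈ L) {ψ : IrrCharacter L} {ψ' : L → ℂ} (h : Cj L.subtype g ψ.1 ψ') :
    Cj L.subtype (g * c) ψ.1 ψ' := fun y y' k =>
  (h (⟨c, hc⟩ * y * ⟨c, hc⟩⁻¹) y' (k.trans (by simp [mul_assoc]))).trans (Basic.irr_conj ψ.2 y _)

theorem cj_self {L : Subgroup K} {c : K} (hc : c ∈ L) (ψ : IrrCharacter L) : Cj L.subtype c ψ.1 ψ.1 :=
  one_mul c ▸ cj_inn hc fun y y' k => congrArg ψ.1 (Subtype.ext (by simpa using k))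

theorem nb (hD : BoxDef2) (hN : BoxNb) (hM : IsPModular 2 M) (hb : IsPBlock M b) (hQ : Q ≤ centralizer (P : Set K))
    (hd : IsDefectGroup 2 M b (Q.subgroupOf (centralizer (P : Set K)))) (ab : Q ≤ centralizer (Q : Set K)) (pQ : IsPGroup 2 Q)
    (hc : normalizer (P : Set K) ⊓ centralizer (Q : Set K) ≤ centralizer (P : Set K)) (hZ : Z ≤ center K) (zq : Z ≤ Q)
    (lam : IrrCharacter ↥(centralizer (P : Set K) ⊓ centralizer (Q : Set K)))
    (p1 : ∀ ψ ∈ b, Up 2 M (inclusion inf_le_left) lam.1 ψ.1)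
    (p4 : ∀ g, g ∈ S ↔ g ∈ normalizer (P : Set K) ∧ g ∈ normalizer (Q : Set K) ∧
      Stab (centralizer (P : Set K) ⊓ centralizer (Q : Set K)).subtype (blockOf M lam.1) g)
    (p7 : ∀ g ∈ normalizer (P : Set K), Stab (centralizer (P : Set K)).subtype b g ↔ ∃ c ∈ centralizer (P : Set K), g * c ∈ S)
    (h2 : (centralizer (P : Set K)).relIndex (normalizer (P : Set K)) = 2) (h8 : Nat.card Q = 8 * Nat.card Z)
    (hν : ((centralizer (P : Set K) ⊓ centralizer (Q : Set K)).relIndex S).factorization 2 = 1)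
    (key : ∀ ψ ∈ b, Ov (Z.subgroupOf (centralizer (P : Set K))) ψ.1 → blockHeight 2 b ψ.1 = 0 ∧
      ¬ 2 ∣ (Orb (centralizer (P : Set K)).subtype P ψ.1 ∩ b).ncard) :
    ∃ t ∈ S, t ∉ centralizer (P : Set K) ∧ ∀ y ∈ Q, t * y * t⁻¹ * y⁻¹ ∈ Z := by
  have : Fact (Nat.Prime 2) := ⟨Nat.prime_two⟩
  have := Local.isPrime_of_isPModular hM
  have hL : centralizer (P : Set K) ≤ normalizer (P : Set K) := centralizer_le_normalizer _
  have hQH := hQ.trans hL
  have hS : S ≤ normalizer (P : Set K) := fun g hg => ((p4 g).1 hg).1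
  have hn : ((centralizer (P : Set K)).subgroupOf (normalizer (P : Set K))).Normal :=
    (normal_subgroupOf_iff_le_normalizer hL).2 (Cor.norm_le P)
  have hC : centralizer (Q.subgroupOf (normalizer (P : Set K)) : Set (normalizer (P : Set K))) =
      (centralizer (P : Set K) ⊓ centralizer (Q : Set K)).subgroupOf (normalizer (P : Set K)) := Subgroup.ext fun y =>
    ⟨fun h => have k : (y : K) ∈ centralizer (Q : Set K) := fun x hx => congrArg Subtype.val (h ⟨x, hQH hx⟩ hx)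
      ⟨hc ⟨y.2, k⟩, k⟩, fun h x hx => Subtype.ext (h.2 x hx)⟩
  let _ := Fintype.ofFinite (normalizer (P : Set K))
  let _ := Fintype.ofFinite ↥(centralizer (P : Set K) ⊓ centralizer (Q : Set K))
  let _ := Fintype.ofFinite (centralizer (Q.subgroupOf (normalizer (P : Set K)) : Set (normalizer (P : Set K))))
  let _ := Fintype.ofFinite ((centralizer (P : Set K)).subgroupOf (normalizer (P : Set K)))
  let e := (subgroupOfEquivOfLe (inf_le_left.trans hL)).symm.trans (MulEquiv.subgroupCongr hC.symm)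
  let e' := (subgroupOfEquivOfLe hL).symm
  obtain ⟨ψ, hψ⟩ := Basic.isPBlock_nonempty hb
  obtain ⟨χ, hχ⟩ := Df.exists_ov_up (inclusion_injective hL) ψ
  have u0 : Up 2 M (inclusion hL) ψ.1 χ.1 := boxUp.nrm hM (inclusion_injective hL) (fun y hy => by
    rw [inclusion_range]
    obtain ⟨i, hi⟩ : Odd (orderOf y) := Nat.odd_iff.2 (Nat.two_dvd_ne_zero.1 hy)
    have k1 := pow_mem (sq_mem_of_index_two h2 y) (i + 1)
    rwa [← pow_mul, show 2 * (i + 1) = orderOf y + 1 from hi ▸ rfl, pow_succ, pow_orderOf_eq_one, one_mul] at k1)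
    ((TID.Red.ov_iff _ _ _).1 hχ)
  have u1 : Up 2 M (centralizer (Q.subgroupOf (normalizer (P : Set K)) : Set (normalizer (P : Set K)))).subtype
      (irrMap e lam).1 χ.1 := boxUp.cj e 1 (fun y => by rw [one_mul, inv_one, mul_one]; rfl) (irrMap_apply' e lam)
    (boxUp.trans hM (inclusion_injective _) (p1 ψ hψ) (inclusion_injective hL) u0)
  have small : ∀ E, IsDefectGroup 2 M (blockOf M χ.1) E → ∀ R ≤ E,
      R ≤ (centralizer (P : Set K)).subgroupOf (normalizer (P : Set K)) → Nat.card R ≤ Nat.card Q := fun E hE R r1 r2 => by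
    obtain ⟨E₀, k1, k2⟩ := TID.Red.exists_defect_inf hM (inclusion_injective hL) (inclusion_range hL ▸ hn) ⟨χ, rfl⟩ hb
      ⟨χ, Basic.mem_blockOf_self χ, ψ, hψ, hχ⟩ hd
    obtain ⟨x, rfl⟩ := TID.Red.conj_defect hM ⟨χ, rfl⟩ k1 hE
    refine Nat.card_le_card_of_injective (fun y : R => (⟨(x⁻¹ * y * x⁻¹⁻¹ : normalizer (P : Set K)), ?_⟩ : Q)) fun y y' k =>
      Subtype.ext (mul_left_cancel (mul_right_cancel (Subtype.ext (congrArg (Subtype.val : Q → K) k) : x⁻¹ * y * x⁻¹⁻¹ = x⁻¹ * y' * x⁻¹⁻¹)))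
    obtain ⟨z, k3, k4⟩ := r1 y.2
    have k5 : x⁻¹ * y * x⁻¹⁻¹ = z := by rw [← k4]; simp [mul_assoc]
    exact k2.le (x := ⟨_, hn.conj_mem _ (r2 y.2) x⁻¹⟩) (show x⁻¹ * y * x⁻¹⁻¹ ∈ E₀ from k5 ▸ k3)
  have cQ : Nat.card (Q.subgroupOf (normalizer (P : Set K))) = Nat.card Q := Nat.card_congr (subgroupOfEquivOfLe hQH).toEquiv
  have ab' : Q.subgroupOf (normalizer (P : Set K)) ≤
      centralizer (Q.subgroupOf (normalizer (P : Set K)) : Set (normalizer (P : Set K))) :=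
    fun x hx y hy => Subtype.ext (ab hx y hy)
  have pQ' : IsPGroup 2 (Q.subgroupOf (normalizer (P : Set K))) := pQ.comap_subtype
  have d1 : IsDefectGroup 2 M (blockOf M (irrMap e lam).1) ((Q.subgroupOf (normalizer (P : Set K))).subgroupOf _) := by
    have hf : IsPBlock M (blockOf M (irrMap e lam).1) := ⟨_, rfl⟩
    obtain ⟨E, hE⟩ := H592.Defect.exists_defectGroup 2 hM hf
    obtain ⟨B, k1, -⟩ := H644.existsUnique_isBrauerPairOf hM (⟨pQ', hf⟩ : IsBrauerPair 2 M _ _)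
    have k2 := (isBrauerPairOf_iff_isInducedBlock hM k1.2.1 pQ' hf).1 k1
    obtain ⟨χ', k3⟩ := Basic.isPBlock_nonempty k1.2.1
    obtain rfl : B = blockOf M χ.1 := Basic.isPBlock_eq_of_sameBlock k1.2.1 ⟨χ, rfl⟩ k3 (Basic.mem_blockOf_self χ)
      (boxUp.uniq hM (boxUp.ind k2 _ (Basic.mem_blockOf_self _) χ' k3) u1)
    obtain ⟨E₁, k4, k5⟩ := S0917.result 2 M hM _ _ hf _ k1.2.1 k2 E hE
    have k6 := small E₁ k4 _ k5 ((map_subtype_le E).trans (hC.le.trans fun _ h => h.1))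
    rwa [Subgroup.eq_of_le_of_card_ge (cen_le_defect hM hf hE (Z := (Q.subgroupOf (normalizer (P : Set K))).subgroupOf _)
      (fun x hx => mem_center_iff.2 fun y => Subtype.ext (y.2 x hx).symm) pQ'.comap_subtype) (by
        rwa [Nat.card_congr (subgroupOfEquivOfLe ab').toEquiv, cQ, ← card_map_of_injective (subtype_injective _)])]
  obtain ⟨E, k1, k2, -, k3, k4⟩ := hD hM ab' (irrMap e lam) χ u1 d1 (S.subgroupOf _) fun g => by
    rw [mem_subgroupOf, p4, ← subgroupOf_normalizer_eq hQH, mem_subgroupOf, and_iff_right g.2]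
    exact and_congr_right fun _ => ((stab_map e (κ := (normalizer (P : Set K)).subtype) (subtype_injective _) (fun _ => rfl) g
      _).symm.trans (by rw [blkMap_blockOf]; rfl))
  rw [hC, relIndex_subgroupOf hS, hν] at k4
  have k5 : Q.subgroupOf (normalizer (P : Set K)) = (centralizer (P : Set K)).subgroupOf (normalizer (P : Set K)) ⊓ E :=
    Subgroup.eq_of_le_of_card_ge (le_inf (fun _ h => hQ h) k2) (cQ ▸ small E k1 _ inf_le_right inf_le_left)
  obtain ⟨t, t1, t2⟩ := SetLike.not_le_iff_exists.1 fun k : E ⊓ normalizer _ ≤ Q.subgroupOf (normalizer (P : Set K)) => by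
    rw [relIndex_eq_one.2 k, Nat.factorization_one] at k4
    exact absurd k4 (by simp)
  have t3 : t ∉ (centralizer (P : Set K)).subgroupOf (normalizer (P : Set K)) := fun k => t2 (k5.ge ⟨k, t1.1⟩)
  have t4 : ¬ E ≤ (centralizer (P : Set K)).subgroupOf (normalizer (P : Set K)) := fun k => t3 (k t1.1)
  have hZ' : Z ≤ centralizer (P : Set K) := zq.trans hQ
  have k6 := hN (Z := Z.subgroupOf _) (b := blkMap e' b) hM h2 (fun _ h => hZ' h)
    (fun x hx => mem_center_iff.2 fun y => Subtype.ext (mem_center_iff.1 (hZ hx) y)) (pQ.to_le zq).comap_subtype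
    (isPBlock_blkMap hb) ⟨χ, rfl⟩ ⟨χ, Basic.mem_blockOf_self χ, _, irrMap_mem_blkMap.2 hψ,
      (TID.Red.ov_iff _ _ _).1 ((TID.Red.ov_src_iff e'.symm (fun _ => rfl) χ.1 ψ).2 hχ)⟩ k1 (by
      rw [← card_rel k2, cQ, h8, Nat.card_congr (subgroupOfEquivOfLe (hZ'.trans hL)).toEquiv, k5, inf_relIndex_right,
        two_rel h2 t4]
      ring) t4 (by
      rintro _ ⟨φ, hφ, rfl⟩ ho
      obtain ⟨q1, q2⟩ := key φ hφ fun z hz => (irrMap_apply' e' φ z).symm.trans ((ho (e' z) hz).trans (irrMap_one e' φ))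
      refine ⟨(blockHeight_blkMap e' 2 b φ).trans q1, fun g =>
        (cj_map e' (ι := (centralizer (P : Set K)).subtype) (κ := (normalizer (P : Set K)).subtype) (subtype_injective _)
          (fun _ => rfl) g φ φ).2 ?_⟩
      rw [Set.inter_eq_left.2, orb_eq] at q2
      · have q3 := index_dvd_of_le (show (centralizer (P : Set K)).subgroupOf (normalizer (P : Set K)) ≤
          @stabilizer _ _ _ (Cor.aX (Cor.cn (Cor.norm_le P))) φ from fun x hx => (Cor.cj_iff _ x _ _).1 (cj_self (K := K) (c := x) hx φ))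
        rw [show Subgroup.index _ = 2 from h2, Nat.dvd_prime Nat.prime_two] at q3
        exact (Cor.cj_iff _ g _ _).2 ((index_eq_one.1 (q3.resolve_right fun k => q2 k.symm.dvd)).ge (mem_top g))
      · rintro φ' ⟨x, q3, q4⟩
        refine (p7 x q3).2 ?_ φ hφ φ' q4
        by_cases q5 : x ∈ centralizer (P : Set K)
        · exact ⟨x⁻¹, inv_mem q5, by rw [mul_inv_cancel]; exact one_mem _⟩
        · exact ⟨x⁻¹ * t, (mul_mem_iff_of_index_two h2 (a := ⟨x, q3⟩⁻¹) (b := t)).2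
            (iff_of_false (fun k => q5 (inv_mem_iff.1 k)) t3), by rw [mul_inv_cancel_left]; exact k3 t1⟩)
  exact ⟨t, k3 t1, t3, fun y hy => k6 (commutator_mem_commutator t1.1 (k2 (x := ⟨y, hQH hy⟩) hy))⟩

end Cfsg.Agent.BZ.L.Rs
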